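import Groth.Agent.AlgSpDesc.Atlas

/-!
An algebraic space is covered by affine schemes etale over it.
-/

set_option autoImplicit false
set_option linter.style.haveILetI false
set_option backward.isDefEq.respectTransparency false

universe u

open CategoryTheory CategoryTheory.Limits AlgebraicGeometry

namespace Groth.Agent.AlgSpDesc

open _root_.AlgSp Groth.Agent.AlgSpc Groth.Agent.AlgSpLoc

variable {S : Scheme.{u}}

theorem exists_affine_cover {Y : Sp S} (hY : IsAlgSpace Y) :
    ∃ (ι : Type u) (Z : ι → Over S) (g : ∀ i, (yon S).obj (Z i) ⟶ Y), (∀ i, IsAffine (Z i).left) ∧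
      (∀ i, RepWith @Etale (g i)) ∧ IsFppfCover (fun i => (yon S).obj (Z i)) g ∧
      IsFpqcCover (fun i => (yon S).obj (Z i)) g := by
  obtain ⟨U, p, hp, hps⟩ := hY.atlas
  let ι : U.left.affineOpens → Over S := fun A => Over.mk ((A : U.left.Opens).ι ≫ U.hom)
  let j : ∀ A, ι A ⟶ U := fun A => Over.homMk (A : U.left.Opens).ι rfl
  have he : ∀ A, RepWith @Etale ((yon S).map (j A) ≫ p) := fun A =>
    repWith_comp ((repWith_yon_map_iff _ _).2 (inferInstanceAs (Etale (A : U.left.Opens).ι))) hp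
  have hc : IsFppfCover (fun A => (yon S).obj (ι A)) fun A => (yon S).map (j A) ≫ p := by
    refine ⟨fun A => ⟨?_, ?_⟩, fun x => ?_⟩
    · exact locP_of_repWith (fun e g (_ : Etale e) (_ : Flat g) => inferInstanceAs (Flat (e ≫ g)))
        (repWith_mono (fun _ _ g (_ : Etale g) => inferInstanceAs (Flat g)) (he A))
    · exact locP_of_repWith (fun e g (_ : Etale e) (_ : LocallyOfFinitePresentation g) =>
        inferInstanceAs (LocallyOfFinitePresentation (e ≫ g)))
        (repWith_mono (fun _ _ g (_ : Etale g) => inferInstanceAs (LocallyOfFinitePresentation g)) (he A))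
    · obtain ⟨u, rfl⟩ := surjective_ofPt hps x
      obtain ⟨_, ⟨A, hA, rfl⟩, hu, -⟩ := U.left.isBasis_affineOpens.exists_subset_of_mem_open
        (Set.mem_univ u) isOpen_univ
      refine ⟨⟨A, hA⟩, Points.ofScheme (ι ⟨A, hA⟩) ⟨u, hu⟩, ?_⟩
      rw [← Points.ofPt_eq_map_ofScheme, ofPt_comp]
      rfl
  exact ⟨_, ι, _, fun A => A.2, he, hc,
    isFpqcCover_of_isFppfCover hY (fun A => IsAlgSpace.yon_obj _) hc⟩

/-- An fpqc local property which holds after base change to every affine scheme holds. -/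
theorem of_affine_tests {X Y : Sp S} (hX : IsAlgSpace X) (hY : IsAlgSpace Y) {f : X ⟶ Y}
    {Q : MorphismProperty (Sp S)} (hQ : IsLocalOnBase (IsFpqcCover (S := S)) Q)
    (h : ∀ (Z : Over S), IsAffine Z.left → ∀ (g : (yon S).obj Z ⟶ Y) (P : Sp S) (fst : P ⟶ X)
      (snd : P ⟶ (yon S).obj Z), IsPullback fst snd f g → Q snd) : Q f := by
  obtain ⟨ι, Z, g, hZ, -, -, hc⟩ := exists_affine_cover hY
  exact (hQ _ g hY (fun i => IsAlgSpace.yon_obj _) hc f hX (fun i => pullback f (g i))
    (fun i => pullback.snd _ _) (fun i => pullback.fst _ _)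
    (fun i => isAlgSpace_of_isPullback hX hY (IsAlgSpace.yon_obj _) (IsPullback.of_hasPullback _ _))
    (fun i => IsPullback.of_hasPullback _ _)).2 fun i => h _ (hZ i) _ _ _ _ (IsPullback.of_hasPullback _ _)

end Groth.Agent.AlgSpDesc
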