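import Groth.Agent.AlgSpc.Basic
import Groth.Agent.AlgSpLoc.Topological
import Groth.Agent.AlgSpc.Props2

/-!
Universal topological properties are tested on affine base changes.
-/

set_option autoImplicit false
set_option linter.style.haveILetI false
set_option backward.isDefEq.respectTransparency false

universe u

open CategoryTheory CategoryTheory.Limits AlgebraicGeometry

namespace Groth.Agent.AlgSpDesc

open _root_.AlgSp Groth.Agent.AlgSpc

variable {S : Scheme.{u}}

/-- Base change of `f` to an affine open of a chart of the test space. -/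
theorem exists_affine_bc {X Y : Sp S} {f : X ⟶ Y} {Q : MorphismProperty (Sp S)}
    (h : ∀ (Z : Over S), IsAffine Z.left → ∀ (g : (yon S).obj Z ⟶ Y) (P : Sp S) (fst : P ⟶ X)
      (snd : P ⟶ (yon S).obj Z), IsPullback fst snd f g → Q snd)
    {Z Z' : Sp S} {g : Z ⟶ Y} {fst : Z' ⟶ X} {snd : Z' ⟶ Z} (sq : IsPullback fst snd f g)
    {U : Over S} (a : (yon S).obj U ⟶ Z) (A : U.left.affineOpens) :
    ∃ (W' : Sp S) (l : W' ⟶ Z') (b : W' ⟶ (yon S).obj (Over.mk ((A : U.left.Opens).ι ≫ U.hom))),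
      IsPullback l b snd
        ((yon S).map (Over.homMk (A : U.left.Opens).ι rfl : Over.mk ((A : U.left.Opens).ι ≫ U.hom) ⟶ U) ≫ a) ∧
      Q b := by
  have sW := IsPullback.of_hasPullback snd
    ((yon S).map (Over.homMk (A : U.left.Opens).ι rfl : Over.mk ((A : U.left.Opens).ι ≫ U.hom) ⟶ U) ≫ a)
  exact ⟨_, _, _, sW, h _ (show IsAffine (A : U.left.Opens).toScheme from A.2) _ _ _ _ (sW.paste_horiz sq)⟩

theorem isOpenMap_of_affine {X Y : Sp S} {f : X ⟶ Y}
    (h : ∀ (Z : Over S), IsAffine Z.left → ∀ (g : (yon S).obj Z ⟶ Y) (P : Sp S) (fst : P ⟶ X)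
      (snd : P ⟶ (yon S).obj Z), IsPullback fst snd f g → IsOpenMap (Points.map snd)) :
    IsUnivOpenMor f := by
  intro Z Z' hZ g fst snd sq C hC
  obtain ⟨U, a, ha, has⟩ := hZ.atlas
  rw [← (isQuotientMap_ofPt ha has).isOpen_preimage]
  have hcov : TopologicalSpace.IsOpenCover (fun V : U.left.affineOpens => (V : U.left.Opens)) :=
    iSup_affineOpens_eq_top _
  refine (hcov.isOpen_iff_inter).2 fun A => ?_
  obtain ⟨W', l, b, sW, hb⟩ := exists_affine_bc (Q := fun _ _ b => IsOpenMap (Points.map b)) h sq a A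
  have h1 := (hb _ (hC.preimage (Points.continuous_map l))).preimage
    (Points.schemeHomeo (Over.mk ((A : U.left.Opens).ι ≫ U.hom))).continuous
  change IsOpen (Points.ofScheme _ ⁻¹' (Points.map b '' (Points.map l ⁻¹' C))) at h1
  rw [← AlgSpLoc.ofPt_preimage_image sW] at h1
  let ι' : Over.mk ((A : U.left.Opens).ι ≫ U.hom) ⟶ U := Over.homMk (A : U.left.Opens).ι rfl
  have e : Points.ofPt ((yon S).map ι' ≫ a) ⁻¹' (Points.map snd '' C) =
      ι'.left ⁻¹' (Points.ofPt a ⁻¹' (Points.map snd '' C)) :=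
    Set.ext fun x => by simp only [Set.mem_preimage, ofPt_comp]
  have h2 : IsOpen ((A : U.left.Opens).ι ⁻¹' (Points.ofPt a ⁻¹' (Points.map snd '' C))) := e ▸ h1
  have := (A : U.left.Opens).ι.isOpenEmbedding.isOpenMap _ h2
  rwa [Set.image_preimage_eq_inter_range, Scheme.Opens.range_ι] at this

theorem isClosedMap_of_affine {X Y : Sp S} {f : X ⟶ Y}
    (h : ∀ (Z : Over S), IsAffine Z.left → ∀ (g : (yon S).obj Z ⟶ Y) (P : Sp S) (fst : P ⟶ X)
      (snd : P ⟶ (yon S).obj Z), IsPullback fst snd f g → IsClosedMap (Points.map snd)) :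
    IsUnivClosedMor f := by
  intro Z Z' hZ g fst snd sq C hC
  obtain ⟨U, a, ha, has⟩ := hZ.atlas
  rw [← (isQuotientMap_ofPt ha has).isClosed_preimage]
  have hcov : TopologicalSpace.IsOpenCover (fun V : U.left.affineOpens => (V : U.left.Opens)) :=
    iSup_affineOpens_eq_top _
  refine (hcov.isClosed_iff_coe_preimage).2 fun A => ?_
  obtain ⟨W', l, b, sW, hb⟩ := exists_affine_bc (Q := fun _ _ b => IsClosedMap (Points.map b)) h sq a A
  have h1 := (hb _ (hC.preimage (Points.continuous_map l))).preimage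
    (Points.schemeHomeo (Over.mk ((A : U.left.Opens).ι ≫ U.hom))).continuous
  change IsClosed (Points.ofScheme _ ⁻¹' (Points.map b '' (Points.map l ⁻¹' C))) at h1
  rw [← AlgSpLoc.ofPt_preimage_image sW] at h1
  let ι' : Over.mk ((A : U.left.Opens).ι ≫ U.hom) ⟶ U := Over.homMk (A : U.left.Opens).ι rfl
  have e : Points.ofPt ((yon S).map ι' ≫ a) ⁻¹' (Points.map snd '' C) =
      ι'.left ⁻¹' (Points.ofPt a ⁻¹' (Points.map snd '' C)) :=
    Set.ext fun x => by simp only [Set.mem_preimage, ofPt_comp]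
  exact e ▸ h1

open Topology in
/-- Etale locally constructible subsets pull back. -/
theorem isLocallyConstructible_preimage_map {X Y : Sp S} (hX : IsAlgSpace X) (hY : IsAlgSpace Y)
    (f : X ⟶ Y) (E : Set (Points Y))
    (hE : ∀ (U : Over S) (φ : (yon S).obj U ⟶ Y), RepWith @Etale φ → IsLocallyConstructible (Points.ofPt φ ⁻¹' E))
    {U : Over S} (φ : (yon S).obj U ⟶ X) (hφ : RepWith @Etale φ) :
    IsLocallyConstructible (Points.ofPt φ ⁻¹' (Points.map f ⁻¹' E)) := by
  obtain ⟨V, p, hp, hps⟩ := hY.atlas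
  obtain ⟨W, q, r, sq⟩ := exists_sq hp.1 (φ ≫ f)
  have hr : RepWith @Etale ((yon S).map r) := repWith_of_isPullback sq hp
  have hrs : RepWith @Surjective ((yon S).map r) := repWith_of_isPullback sq hps
  have key : IsLocallyConstructible (Points.ofPt ((yon S).map r) ⁻¹'
      (Points.map (φ ≫ f) ⁻¹' E)) := by
    convert LimSch.isLocallyConstructible_preimage (pre q).left (hE V p hp) using 1
    ext w
    simp only [Set.mem_preimage, Points.map_ofPt, ← sq.w, ← ofPt_comp, map_pre]
  have := isLocallyConstructible_preimage (IsAlgSpace.yon_obj U) (Points.map (φ ≫ f) ⁻¹' E) hr hrs key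
    (a := 𝟙 ((yon S).obj U)) (repWith_iso _)
  convert this using 1
  ext u
  simp only [Set.mem_preimage, Points.map_ofPt, Category.id_comp]

end Groth.Agent.AlgSpDesc
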