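import Groth.Agent.AlgSpLoc.Inst3
import Groth.Agent.AlgSpLoc.Covers
import Groth.Agent.AlgSpLoc.Diag
import Groth.Agent.AlgSpLoc.OpenImm
import Groth.Agent.AlgSpLoc.ImmersionBase
import Groth.Agent.AlgSpc.FibreProd

/-!
Local properties descend along an atlas.
-/

set_option autoImplicit false
set_option backward.isDefEq.respectTransparency false

universe u

open CategoryTheory CategoryTheory.Limits AlgebraicGeometry

namespace Groth.Agent.AlgSpDesc

open _root_.AlgSp Groth.Agent.AlgSpc Groth.Agent.AlgSpLoc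

variable {S : Scheme.{u}} {X Y : Sp S} (hX : IsAlgSpace X) (hY : IsAlgSpace Y) {f : X ⟶ Y} {V : Over S}
  {p : (yon S).obj V ⟶ Y} (hp : RepWith @Etale p) (hps : RepWith @Surjective p)
  {P : Sp S} {fst : P ⟶ X} {snd : P ⟶ (yon S).obj V} (sq : IsPullback fst snd f p)

include hX hY hp hps sq

theorem of_fpqc {Q : MorphismProperty (Sp S)} (hQ : IsLocalOnBase (IsFpqcCover (S := S)) Q) (h : Q snd) :
    Q f :=
  (hQ (fun _ : PUnit.{u+1} => (yon S).obj V) (fun _ => p) hY (fun _ => IsAlgSpace.yon_obj _)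
    (isFpqcCover_atlas hY hp hps) f hX (fun _ => P) (fun _ => snd) (fun _ => fst)
    (fun _ => isAlgSpace_of_isPullback hX hY (IsAlgSpace.yon_obj _) sq) (fun _ => sq)).2 fun _ => h

theorem of_fppf {Q : MorphismProperty (Sp S)} (hQ : IsLocalOnBase (IsFppfCover (S := S)) Q) (h : Q snd) :
    Q f := by
  refine (hQ (fun _ : PUnit.{u+1} => (yon S).obj V) (fun _ => p) hY (fun _ => IsAlgSpace.yon_obj _)
    ⟨fun _ => ⟨?_, ?_⟩, fun x => ?_⟩ f hX (fun _ => P) (fun _ => snd) (fun _ => fst)
    (fun _ => isAlgSpace_of_isPullback hX hY (IsAlgSpace.yon_obj _) sq) (fun _ => sq)).2 fun _ => h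
  · exact locP_of_repWith (fun e g (_ : Etale e) (_ : Flat g) => inferInstanceAs (Flat (e ≫ g)))
      (repWith_mono (fun _ _ g (_ : Etale g) => inferInstanceAs (Flat g)) hp)
  · exact locP_of_repWith (fun e g (_ : Etale e) (_ : LocallyOfFinitePresentation g) =>
      inferInstanceAs (LocallyOfFinitePresentation (e ≫ g)))
      (repWith_mono (fun _ _ g (_ : Etale g) => inferInstanceAs (LocallyOfFinitePresentation g)) hp)
  · obtain ⟨y, hy⟩ := surjective_map_of_repWith hps x
    exact ⟨PUnit.unit, y, hy⟩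

end Groth.Agent.AlgSpDesc
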