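import Groth.Agent.AlgSpc.DecentGeneric
import Groth.Agent.AlgSpc.More
import Groth.Agent.AlgSpc.LocP
import Groth.Agent.AlgSpc.EtLocInst
import Groth.Agent.AlgSpLoc.DescendPropSp
import Groth.Agent.AlgSpLoc.FlatFibres

/-!
Algebraic spaces with a flat surjective map from the spectrum of a field.
-/

set_option autoImplicit false
set_option linter.style.haveILetI false
set_option backward.isDefEq.respectTransparency false

universe u

open CategoryTheory CategoryTheory.Limits AlgebraicGeometry

namespace Groth.Agent.AlgSpDesc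

open _root_.AlgSp Groth.Agent.AlgSpc

section Scheme

variable {X Y : Scheme.{u}}

theorem isField_stalk_of_maximal [IsReduced X] {x : X} (h : ∀ y, y ⤳ x → y = x) :
    IsField (X.presheaf.stalk x) := by
  haveI : Ring.KrullDimLE 0 (X.presheaf.stalk x) :=
    Ring.krullDimLE_iff.2 ((ringKrullDim_stalk_eq_zero_iff x).2 h).le
  exact Ring.KrullDimLE.isField_of_isReduced

theorem flat_of_isField_stalks (f : X ⟶ Y) (h : ∀ x, IsField (Y.presheaf.stalk (f x))) : Flat f := by
  rw [Flat.iff_flat_stalkMap]
  intro x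
  letI := (h x).toField
  algebraize [(f.stalkMap x).hom]
  exact inferInstanceAs (Module.Flat (Y.presheaf.stalk (f x)) (X.presheaf.stalk x))

theorem maximal_of_flat_surjective (f : X ⟶ Y) [Flat f] [Surjective f] [DiscreteTopology X] (y z : Y)
    (h : z ⤳ y) : z = y := by
  obtain ⟨x, rfl⟩ := f.surjective y
  obtain ⟨x', hx', rfl⟩ := Flat.generalizingMap f h
  exact congrArg f hx'.eq

theorem isReduced_of_etale_field {k : Type u} [Field k] (f : X ⟶ Spec (CommRingCat.of k)) [Etale f] :
    IsReduced X := by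
  haveI : IsReduced (Spec (CommRingCat.of k)) := inferInstance
  exact SmoothReduced.isReduced_of_smooth_scheme f

theorem isLocallyArtinian_of_etale_field {k : Type u} [Field k] (f : X ⟶ Spec (CommRingCat.of k)) [Etale f] :
    IsLocallyArtinian X := by
  haveI : IsLocallyArtinian (Spec (CommRingCat.of k)) :=
    (Scheme.isLocallyArtinianScheme_Spec (R := CommRingCat.of k)).2 (inferInstanceAs (IsArtinianRing k))
  haveI : LocallyQuasiFinite f := AlgSpLoc.locallyQuasiFinite_of_etale _
  exact IsLocallyArtinian.of_locallyQuasiFinite f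

theorem discreteTopology_of_maximal [IsLocallyNoetherian X] (h : ∀ x y : X, y ⤳ x → y = x) :
    DiscreteTopology X := by
  refine discreteTopology_iff_isOpen_singleton.2 fun x => ?_
  obtain ⟨A, hA, hxA, -⟩ := exists_isAffineOpen_mem_and_subset (show x ∈ (⊤ : X.Opens) from trivial)
  haveI : IsAffine (A : Scheme.{u}) := hA
  haveI : CompactSpace ↥(A : Scheme.{u}) := inferInstance
  haveI : IsNoetherian (A : Scheme.{u}) := {}
  haveI : TopologicalSpace.NoetherianSpace ↥(A : Scheme.{u}) := inferInstance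
  haveI : T1Space ↥(A : Scheme.{u}) := t1Space_iff_specializes_imp_eq.2 fun v w hvw => Subtype.ext
    (h w.1 v.1 (hvw.map continuous_subtype_val))
  haveI : Finite ↥(A : Scheme.{u}) := by
    refine Set.finite_univ_iff.1 (((TopologicalSpace.NoetherianSpace.finite_irreducibleComponents).biUnion
      (t := fun Z => Z) fun Z hZ => ?_).subset fun (v : ↥(A : Scheme.{u})) _ => Set.mem_iUnion₂.2
        ⟨irreducibleComponent v, irreducibleComponent_mem_irreducibleComponents v, mem_irreducibleComponent⟩)
    obtain ⟨η, hη⟩ := QuasiSober.sober hZ.1 (isClosed_of_mem_irreducibleComponents Z hZ)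
    rw [← hη.def, closure_singleton]
    exact Set.finite_singleton η
  have := A.2.isOpenMap_subtype_val {⟨x, hxA⟩} (isOpen_discrete (α := ↥(A : Scheme.{u})) _)
  simpa using this

theorem exists_field_open [IsReduced X] {x : X} (hx : IsOpen ({x} : Set X)) :
    ∃ (K : Type u) (_ : Field K) (i : Spec (CommRingCat.of K) ⟶ X), IsOpenImmersion i ∧ ∀ z, i z = x := by
  let B : X.Opens := ⟨{x}, hx⟩
  haveI : Nonempty ↥(B : Scheme.{u}) := ⟨⟨x, rfl⟩⟩
  haveI : Subsingleton ↥(B : Scheme.{u}) :=
    ⟨fun v w => Subtype.ext ((Set.mem_singleton_iff.1 v.2).trans (Set.mem_singleton_iff.1 w.2).symm)⟩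
  haveI : IrreducibleSpace ↥(B : Scheme.{u}) :=
    { toNonempty := inferInstance, isPreirreducible_univ := Set.subsingleton_univ.isPreirreducible }
  haveI : IsIntegral (B : Scheme.{u}) := isIntegral_of_irreducibleSpace_of_isReduced _
  haveI : Finite ↥(B : Scheme.{u}) := Finite.of_subsingleton
  haveI : IsAffine (B : Scheme.{u}) := inferInstance
  letI := (isField_of_isIntegral_of_subsingleton (B : Scheme.{u})).toField
  refine ⟨Γ((B : Scheme.{u}), ⊤), inferInstance, (B : Scheme.{u}).isoSpec.inv ≫ B.ι, inferInstance, fun z => ?_⟩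
  exact ((B : Scheme.{u}).isoSpec.inv z).2

end Scheme

variable {S : Scheme.{u}} {Z : Sp S} {k : Type u} [Field k] {str : Spec (CommRingCat.of k) ⟶ S}

theorem subsingleton_points {p : (yon S).obj (Over.mk str) ⟶ Z} (hs : IsSurjectiveMor p) :
    Nonempty (Points Z) ∧ Subsingleton (Points Z) := by
  refine ⟨⟨Points.map p (Points.ofScheme (Over.mk str) (IsLocalRing.closedPoint k))⟩, ⟨fun a b => ?_⟩⟩
  obtain ⟨a, rfl⟩ := hs a
  obtain ⟨b, rfl⟩ := hs b
  rw [← Points.ofScheme_toScheme _ a, ← Points.ofScheme_toScheme _ b,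
    @Subsingleton.elim (PrimeSpectrum k) _ (Points.toScheme _ a) (Points.toScheme _ b)]

theorem surjective_of_subsingleton [Subsingleton (Points Z)] (q : (yon S).obj (Over.mk str) ⟶ Z) :
    IsSurjectiveMor q := fun _ =>
  ⟨Points.ofScheme (Over.mk str) (IsLocalRing.closedPoint k), Subsingleton.elim _ _⟩

theorem chart_props {p : (yon S).obj (Over.mk str) ⟶ Z} (hf : LocP @Flat p) (hs : IsSurjectiveMor p)
    {U : Over S} {a : (yon S).obj U ⟶ Z} (ha : RepWith @Etale a) :
    IsReduced U.left ∧ ∀ u u' : ↥U.left, u' ⤳ u → u' = u := by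
  obtain ⟨P, fst, snd, sq⟩ := exists_sq ha.1 p
  haveI : Etale snd.left := ha.2 _ _ _ sq
  haveI := isLocallyArtinian_of_etale_field (k := k) snd.left
  haveI := isReduced_of_etale_field (k := k) snd.left
  haveI : Flat (pre fst).left := hf ((yon S).map snd) a (pre fst) ((repWith_yon_map_iff _ _).2 ‹_›) ha
    (by rw [map_pre]; exact sq.w.symm)
  haveI : Surjective (pre fst).left := ⟨fun u => by
    obtain ⟨w, hw⟩ := hs (Points.ofPt a u)
    obtain ⟨v, hv, -⟩ := exists_point_of_sq sq (Points.ofScheme U u) (Points.toScheme _ w)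
      (by rw [← Points.ofPt_eq_map_ofScheme, ← hw, Points.ofPt_eq_map_ofScheme, Points.ofScheme_toScheme])
    exact ⟨v, by simpa [ofPt_pre] using congrArg (Points.toScheme U) hv⟩⟩
  exact ⟨FpqcDescent.isReduced_of_flat_surjective (pre fst).left,
    maximal_of_flat_surjective (pre fst).left⟩

theorem isField_stalk_chart {p : (yon S).obj (Over.mk str) ⟶ Z} (hf : LocP @Flat p) (hs : IsSurjectiveMor p)
    {U : Over S} {a : (yon S).obj U ⟶ Z} (ha : RepWith @Etale a) (u : ↥U.left) :
    IsField (U.left.presheaf.stalk u) :=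
  haveI := (chart_props hf hs ha).1
  isField_stalk_of_maximal ((chart_props hf hs ha).2 u)

theorem locP_flat_of_flat_point {p : (yon S).obj (Over.mk str) ⟶ Z} (hf : LocP @Flat p) (hs : IsSurjectiveMor p)
    {W : Sp S} (q : W ⟶ Z) : LocP @Flat q := fun _ _ _ _ h _ hb _ =>
  flat_of_isField_stalks h.left fun _ => isField_stalk_chart hf hs hb _

theorem exists_flat_point (hr : EtaleLocally (fun U => IsReduced U) Z) [Nonempty (Points Z)]
    [Subsingleton (Points Z)] :
    ∃ (K : Type u) (_ : Field K) (str' : Spec (CommRingCat.of K) ⟶ S) (q : (yon S).obj (Over.mk str') ⟶ Z),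
      LocP @Flat q ∧ IsSurjectiveMor q := by
  obtain ⟨U, a, ha, has, hU⟩ := hr
  haveI : IsReduced U.left := hU
  obtain ⟨u, -⟩ := surjective_ofPt has (Classical.arbitrary (Points Z))
  obtain ⟨η, -, hη⟩ := exists_codim_zero (show u ∈ (⊤ : U.left.Opens) from trivial)
  have hF := isField_stalk_of_maximal ((ringKrullDim_stalk_eq_zero_iff η).1 hη)
  let j : Over.mk (U.left.fromSpecResidueField η ≫ U.hom) ⟶ U := Over.homMk (U.left.fromSpecResidueField η) rfl
  haveI : Flat j.left := flat_of_isField_stalks _ fun x => by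
    have e : j.left x = η := Scheme.fromSpecResidueField_apply η x
    rw [e]; exact hF
  exact ⟨U.left.residueField η, inferInstance, _, (yon S).map j ≫ a,
    locP_of_repWith (P := @Flat) (fun e f (_ : Etale e) (_ : Flat f) => (inferInstance : Flat (e ≫ f))) (repWith_comp ((repWith_yon_map_iff _ j).2 ‹_›)
      (repWith_mono (P := @Etale) (Q := @Flat) (fun _ _ f (h : Etale f) => (inferInstance : Flat f)) ha)),
    surjective_of_subsingleton _⟩

theorem exists_lft_flat_point (hZ : IsAlgSpace Z) {p : (yon S).obj (Over.mk str) ⟶ Z} (hf : LocP @Flat p)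
    (hs : IsSurjectiveMor p) :
    ∃ (K : Type u) (_ : Field K) (str' : Spec (CommRingCat.of K) ⟶ S) (q : (yon S).obj (Over.mk str') ⟶ Z),
      LocP @LocallyOfFiniteType q ∧ LocP @Flat q ∧ IsSurjectiveMor q := by
  obtain ⟨hne, hsub⟩ := subsingleton_points hs
  obtain ⟨U, a, ha, has⟩ := hZ.atlas
  obtain ⟨u, -⟩ := surjective_ofPt has hne.some
  let j : Over.mk (U.left.fromSpecResidueField u ≫ U.hom) ⟶ U := Over.homMk (U.left.fromSpecResidueField u) rfl
  haveI : IsPreimmersion j.left := inferInstanceAs (IsPreimmersion (U.left.fromSpecResidueField u))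
  haveI : IsClosedImmersion j.left := by
    refine IsClosedImmersion.of_isPreimmersion _ (isClosed_of_closure_subset fun y hy => ?_)
    have hr : Set.range j.left = {u} := Scheme.range_fromSpecResidueField u
    rw [hr] at hy ⊢
    exact ((chart_props hf hs ha).2 y u (specializes_iff_mem_closure.2 hy)).symm
  exact ⟨U.left.residueField u, inferInstance, _, (yon S).map j ≫ a,
    locP_of_repWith (P := @LocallyOfFiniteType) (fun e f (_ : Etale e) (_ : LocallyOfFiniteType f) => (inferInstance : LocallyOfFiniteType (e ≫ f)))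
      (repWith_comp ((repWith_yon_map_iff _ j).2 (inferInstance : LocallyOfFiniteType j.left))
        (repWith_mono (P := @Etale) (Q := @LocallyOfFiniteType) (fun _ _ f (h : Etale f) => (inferInstance : LocallyOfFiniteType f)) ha)),
    locP_flat_of_flat_point hf hs _, surjective_of_subsingleton _⟩

theorem exists_lfp_flat_point (hr : EtaleLocally (fun U => IsReduced U) Z) (hN : IsLocNoethSp Z)
    [Nonempty (Points Z)] [Subsingleton (Points Z)] :
    ∃ (K : Type u) (_ : Field K) (str' : Spec (CommRingCat.of K) ⟶ S) (q : (yon S).obj (Over.mk str') ⟶ Z),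
      LocP @LocallyOfFinitePresentation q ∧ LocP @Flat q ∧ IsSurjectiveMor q := by
  obtain ⟨K₀, _, str₀, p₀, hf, hs⟩ := exists_flat_point hr
  obtain ⟨U, a, ha, has, hU⟩ := hr
  haveI : IsReduced U.left := hU
  haveI := AlgSpLoc.isLocallyNoetherian_chart hN ha
  obtain ⟨u, -⟩ := surjective_ofPt has (Classical.arbitrary (Points Z))
  haveI := discreteTopology_of_maximal (chart_props hf hs ha).2
  obtain ⟨K, _, i, hi, -⟩ := exists_field_open (X := U.left) (x := u) (isOpen_discrete _)
  let j : Over.mk (i ≫ U.hom) ⟶ U := Over.homMk i rfl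
  haveI : IsOpenImmersion j.left := hi
  exact ⟨K, inferInstance, _, (yon S).map j ≫ a,
    locP_of_repWith (P := @LocallyOfFinitePresentation) (fun e f (_ : Etale e) (_ : LocallyOfFinitePresentation f) => (inferInstance : LocallyOfFinitePresentation (e ≫ f)))
      (repWith_comp ((repWith_yon_map_iff _ j).2 (inferInstance : LocallyOfFinitePresentation j.left))
        (repWith_mono (P := @Etale) (Q := @LocallyOfFinitePresentation) (fun _ _ f (h : Etale f) => (inferInstance : LocallyOfFinitePresentation f)) ha)),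
    locP_flat_of_flat_point hf hs _, surjective_of_subsingleton _⟩

theorem etaleLocally_field (P : Scheme.{u} → Prop) (h : P (Spec (CommRingCat.of k))) :
    EtaleLocally P ((yon S).obj (Over.mk str)) :=
  ⟨Over.mk str, 𝟙 _, repWith_id _ _, repWith_id _ _, h⟩

theorem isReduced_of_flat_point (hZ : IsAlgSpace Z) {p : (yon S).obj (Over.mk str) ⟶ Z} (hf : LocP @Flat p)
    (hs : IsSurjectiveMor p) : EtaleLocally (fun U => IsReduced U) Z :=
  AlgSpLoc.isReducedSp_of_flat_surjective hZ hf hs (etaleLocally_field _ inferInstance)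

theorem isLocNoeth_of_lfp_flat_point (hZ : IsAlgSpace Z) {p : (yon S).obj (Over.mk str) ⟶ Z}
    (hp : LocP @LocallyOfFinitePresentation p) (hf : LocP @Flat p) (hs : IsSurjectiveMor p) : IsLocNoethSp Z :=
  AlgSpLoc.isLocNoethSp_of_flat_surjective hZ hp hf hs (etaleLocally_field _ inferInstance)

theorem isRegular_of_reduced (hr : EtaleLocally (fun U => IsReduced U) Z) (hN : IsLocNoethSp Z)
    [Nonempty (Points Z)] [Subsingleton (Points Z)] :
    EtaleLocally (fun U => IsLocallyNoetherian U ∧ ∀ u : ↥U, IsRegularLocalRing ↥(U.presheaf.stalk u)) Z := by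
  obtain ⟨K₀, _, str₀, p₀, hf, hs⟩ := exists_flat_point hr
  obtain ⟨U, a, ha, has, -⟩ := hr
  refine ⟨U, a, ha, has, AlgSpLoc.isLocallyNoetherian_chart hN ha, fun u => ?_⟩
  letI := (isField_stalk_chart hf hs ha u).toField
  infer_instance

end Groth.Agent.AlgSpDesc
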