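import Groth.Agent.AlgSpDesc.Valuative
import Groth.Agent.AlgSpDesc.OnePoint
import Groth.Agent.AlgSpc.DecentMor

/-!
Lifts of valuative squares after extension, from specializations in a chart.
-/

set_option autoImplicit false
set_option linter.style.haveILetI false
set_option backward.isDefEq.respectTransparency false

universe u

open CategoryTheory CategoryTheory.Limits AlgebraicGeometry IsLocalRing

namespace Groth.Agent.AlgSpDesc

open _root_.AlgSp Groth.Agent.AlgSpc

variable {S : Scheme.{u}} {X Y : Sp S} {f : X ⟶ Y}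

/-- `Spec K'` over `S` through `Spec K`. -/
noncomputable abbrev extPt (sq : ValSq f) {K' : Type u} [Field K'] (ψ : sq.K →+* K') : Over S :=
  Over.mk (Spec.map (CommRingCat.ofHom ψ) ≫ sq.ptK.hom)

/-- The projection. -/
noncomputable abbrev extHom (sq : ValSq f) {K' : Type u} [Field K'] (ψ : sq.K →+* K') : extPt sq ψ ⟶ sq.ptK :=
  Over.homMk (Spec.map (CommRingCat.ofHom ψ)) rfl

theorem exists_domExt_of_chart (sq : ValSq f) {U : Over S} (a : (yon S).obj U ⟶ X) (g : U ⟶ sq.ptA)
    (wg : a ≫ f = (yon S).map g ≫ sq.bot) {K' : Type u} [Field K'] (ψ : sq.K →+* K')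
    (i : extPt sq ψ ⟶ U) (hi : i ≫ g = extHom sq ψ ≫ sq.j)
    (hia : (yon S).map i ≫ a = (yon S).map (extHom sq ψ) ≫ sq.top)
    (u' : ↥U.left) (hg : g.left u' = closedPoint sq.A) (hsp : i.left (closedPoint K') ⤳ u') :
    ∃ (A' : ValuationSubring K') (φ : sq.A →+* A') (hc : (algebraMap A' K').comp φ = ψ.comp (algebraMap sq.A sq.K))
      (hl : IsLocalHom φ),
      ({ A' := A', K' := K', φ := φ, ψ := ψ, comm := hc, isLocalHom := hl } : sq.DomExt).HasLift := by
  let α₀ : U.left.presheaf.stalk u' ⟶ CommRingCat.of K' :=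
    U.left.presheaf.stalkSpecializes hsp ≫ Scheme.stalkClosedPointTo i.left
  obtain ⟨A', hA', hloc⟩ := IsLocalRing.exists_factor_valuationRing α₀.hom
  let α : U.left.presheaf.stalk u' →+* A' := α₀.hom.codRestrict A'.toSubring hA'
  haveI : IsLocalHom α := hloc
  let g' : Spec (CommRingCat.of A') ⟶ U.left := Spec.map (CommRingCat.ofHom α) ≫ U.left.fromSpecStalk u'
  have hgen : Spec.map (CommRingCat.ofHom (algebraMap A' K')) ≫ g' = i.left := by
    rw [← Spec.map_comp_assoc, show CommRingCat.ofHom α ≫ CommRingCat.ofHom (algebraMap A' K') = α₀ from rfl]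
    simp only [α₀, Spec.map_comp, Category.assoc, Scheme.SpecMap_stalkSpecializes_fromSpecStalk]
    exact Scheme.Spec_stalkClosedPointTo_fromSpecStalk i.left
  let φ : sq.A →+* A' := (Spec.preimage (g' ≫ g.left)).hom
  have hφ : Spec.map (CommRingCat.ofHom φ) = g' ≫ g.left := Spec.map_preimage _
  have hi' : i.left ≫ g.left = Spec.map (CommRingCat.ofHom ψ) ≫ Spec.map (CommRingCat.ofHom (algebraMap sq.A sq.K)) :=
    congrArg CommaMorphism.left hi
  have hc : (algebraMap A' K').comp φ = ψ.comp (algebraMap sq.A sq.K) := by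
    refine congrArg CommRingCat.Hom.hom (Spec.map_injective ?_ : CommRingCat.ofHom ((algebraMap A' K').comp φ) =
      CommRingCat.ofHom (ψ.comp (algebraMap sq.A sq.K)))
    rw [CommRingCat.ofHom_comp, CommRingCat.ofHom_comp, Spec.map_comp, Spec.map_comp, hφ, reassoc_of% hgen, hi']
  have hl : IsLocalHom φ := by
    refine ((IsLocalRing.local_hom_TFAE φ).out 4 0).mp ?_
    have h1 : (Spec.map (CommRingCat.ofHom φ)) (closedPoint A') = closedPoint sq.A := by
      rw [hφ, Scheme.Hom.comp_apply, ValDense.closedPoint_specMap α]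
      exact hg
    exact congrArg PrimeSpectrum.asIdeal h1
  refine ⟨A', φ, hc, hl, ?_⟩
  let e : sq.DomExt := { A' := A', K' := K', φ := φ, ψ := ψ, comm := hc, isLocalHom := hl }
  let gO : e.ptA' ⟶ U := Over.homMk g' (by
    change g' ≫ U.hom = Spec.map (CommRingCat.ofHom φ) ≫ sq.str
    rw [hφ, Category.assoc]
    exact congrArg (g' ≫ ·) (Over.w g).symm)
  let c : e.ptK' ⟶ extPt sq ψ := Over.homMk (𝟙 _) (by
    change 𝟙 _ ≫ Spec.map (CommRingCat.ofHom ψ) ≫ Spec.map _ ≫ sq.str =
      Spec.map (CommRingCat.ofHom (algebraMap A' K')) ≫ Spec.map (CommRingCat.ofHom φ) ≫ sq.str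
    rw [Category.id_comp, ← Spec.map_comp_assoc, ← Spec.map_comp_assoc, ← CommRingCat.ofHom_comp,
      ← CommRingCat.ofHom_comp, hc])
  refine ⟨(yon S).map gO ≫ a, ?_, ?_⟩
  · have h1 : (Over.homMk (Spec.map (CommRingCat.ofHom (algebraMap A' K'))) rfl : e.ptK' ⟶ e.ptA') ≫ gO = c ≫ i := by
      ext
      change Spec.map _ ≫ g' = 𝟙 _ ≫ i.left
      rw [Category.id_comp, hgen]
    let jψe : e.ptK' ⟶ sq.ptK := c ≫ extHom sq ψ
    have h2 : (yon S).map (Over.homMk (Spec.map (CommRingCat.ofHom (algebraMap A' K'))) rfl : e.ptK' ⟶ e.ptA') ≫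
        (yon S).map gO ≫ a = (yon S).map jψe ≫ sq.top := by
      rw [← Functor.map_comp_assoc, h1, Functor.map_comp_assoc, hia, ← Functor.map_comp_assoc]
    refine h2.trans (congrArg (fun m => (yon S).map m ≫ sq.top) ?_)
    ext
    exact Category.id_comp _
  · rw [Category.assoc, wg, ← Functor.map_comp_assoc]
    congr 2
    ext
    exact hφ.symm

/-- Quasi-separated universally closed morphisms meet the existence criterion. -/
theorem existVC_of_univClosed (hX : IsAlgSpace X) (hY : IsAlgSpace Y) (hqs : IsQuasiSeparatedMor f)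
    (hcl : IsUnivClosedMor f) : ExistVC f := by
  intro sq
  have sP := IsPullback.of_hasPullback f sq.bot
  have hP := isAlgSpace_of_isPullback hX hY (IsAlgSpace.yon_obj sq.ptA) sP
  have hqsP := isQuasiSeparatedMor_of_isPullback sP hqs
  let p := pullback.snd f sq.bot
  let top' : (yon S).obj sq.ptK ⟶ pullback f sq.bot := pullback.lift sq.top ((yon S).map sq.j) sq.comm
  let pt : ↥sq.ptK.left := closedPoint sq.K
  have hclp : IsClosedMap (Points.map p) := hcl (IsAlgSpace.yon_obj sq.ptA) _ _ _ sP
  have hq : Points.map p (Points.ofPt top' pt) = Points.ofScheme sq.ptA (sq.j.left pt) := by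
    rw [Points.map_ofPt, pullback.lift_snd, ofPt_pre, pre_map]
  obtain ⟨x', hx', hpx'⟩ : ∃ x', Points.ofPt top' pt ⤳ x' ∧ Points.map p x' = Points.ofScheme sq.ptA (closedPoint sq.A) := by
    have h2 : Points.map p (Points.ofPt top' pt) ⤳ Points.ofScheme sq.ptA (closedPoint sq.A) := by
      rw [hq]
      exact (IsLocalRing.specializes_closedPoint (R := sq.A) _).map (Points.schemeHomeo sq.ptA).continuous
    obtain ⟨x', hx', hpx'⟩ := h2.mem_closed (hclp (closure {Points.ofPt top' pt}) isClosed_closure) ⟨_, subset_closure rfl, rfl⟩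
    exact ⟨x', specializes_iff_mem_closure.2 hx', hpx'⟩
  obtain ⟨U₀, a₀, ha₀, ha₀s⟩ := hP.atlas
  obtain ⟨u₀, hu₀⟩ := surjective_ofPt ha₀s x'
  obtain ⟨_, ⟨O, hO, rfl⟩, huO, -⟩ :=
    U₀.left.isBasis_affineOpens.exists_subset_of_mem_open (Set.mem_univ u₀) isOpen_univ
  let U : Over S := Over.mk ((Scheme.Opens.ι O) ≫ U₀.hom)
  let ι : U ⟶ U₀ := Over.homMk (Scheme.Opens.ι O) rfl
  let u' : ↥U.left := ⟨u₀, huO⟩
  obtain ⟨a, ha, hu'⟩ : ∃ a : (yon S).obj U ⟶ pullback f sq.bot, RepWith @Etale a ∧ Points.ofPt a u' = x' :=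
    ⟨(yon S).map ι ≫ a₀,
      repWith_comp ((repWith_yon_map_iff _ _).2 (inferInstanceAs (Etale (Scheme.Opens.ι O)))) ha₀,
      by rw [ofPt_comp]; exact hu₀⟩
  haveI : CompactSpace U.left := isCompact_iff_compactSpace.1 hO.isCompact
  let g : U ⟶ sq.ptA := pre (a ≫ p)
  -- the fibre over the generic point
  obtain ⟨V, fst, snd, sV⟩ := exists_sq ha.1 top'
  haveI : Etale snd.left := ha.2 _ _ _ sV
  haveI : CompactSpace V.left := by
    let Wp : Over S := Over.mk (pullback.fst g.left sq.j.left ≫ U.hom)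
    let q₁ : Wp ⟶ U := Over.homMk (pullback.fst g.left sq.j.left) rfl
    let q₂ : Wp ⟶ sq.ptK := Over.homMk (pullback.snd g.left sq.j.left) (by
      change _ = pullback.fst g.left sq.j.left ≫ U.hom
      rw [← Over.w g, ← Over.w sq.j, pullback.condition_assoc])
    have hq12 : q₁ ≫ g = q₂ ≫ sq.j := by ext; exact pullback.condition
    haveI : IsAffine (U.left) := hO
    haveI : IsAffine sq.ptA.left := inferInstanceAs (IsAffine (Spec (CommRingCat.of sq.A)))
    haveI : IsAffine sq.ptK.left := inferInstanceAs (IsAffine (Spec (CommRingCat.of sq.K)))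
    haveI : CompactSpace Wp.left := inferInstanceAs (CompactSpace ↥(pullback g.left sq.j.left))
    let ξ : (yon S).obj Wp ⟶ pullback p p := pullback.lift ((yon S).map q₁ ≫ a) ((yon S).map q₂ ≫ top') (by
      rw [Category.assoc, Category.assoc, ← map_pre (a ≫ p), pullback.lift_snd, ← Functor.map_comp,
        ← Functor.map_comp, hq12])
    obtain ⟨E, e₁, e₂, sE⟩ := exists_sq hqsP.1 ξ
    haveI : QuasiCompact e₂.left := hqsP.2 _ _ _ sE
    haveI : CompactSpace E.left := QuasiCompact.compactSpace_of_compactSpace e₂.left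
    have he₁ : e₁ = (yon S).map (e₂ ≫ q₁) ≫ a := by
      have h1 : (e₁ ≫ pullback.diagonal p) ≫ pullback.fst p p = ((yon S).map e₂ ≫ ξ) ≫ pullback.fst p p :=
        congrArg (· ≫ _) sE.w
      simp only [Category.assoc, pullback.diagonal_fst, ξ, pullback.lift_fst, Category.comp_id] at h1
      rw [h1, Functor.map_comp, Category.assoc]
    have he₂ : e₁ = (yon S).map (e₂ ≫ q₂) ≫ top' := by
      have h1 : (e₁ ≫ pullback.diagonal p) ≫ pullback.snd p p = ((yon S).map e₂ ≫ ξ) ≫ pullback.snd p p :=
        congrArg (· ≫ _) sE.w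
      simp only [Category.assoc, pullback.diagonal_snd, ξ, pullback.lift_snd, Category.comp_id] at h1
      rw [h1, Functor.map_comp, Category.assoc]
    let toV : E ⟶ V := pre (sV.lift ((yon S).map (e₂ ≫ q₁)) ((yon S).map (e₂ ≫ q₂)) (he₁.symm.trans he₂))
    have hVW : (pre fst) ≫ g = snd ≫ sq.j := (yon S).map_injective (by
      rw [Functor.map_comp, map_pre, map_pre, ← Category.assoc, sV.w, Category.assoc, pullback.lift_snd,
        Functor.map_comp])
    let mW : V ⟶ Wp := Over.homMk (pullback.lift (pre fst).left snd.left (congrArg CommaMorphism.left hVW)) (by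
      change _ ≫ pullback.fst _ _ ≫ U.hom = _
      rw [pullback.lift_fst_assoc, Over.w (pre fst)])
    have hm₁ : mW ≫ q₁ = pre fst := by ext; exact pullback.lift_fst _ _ _
    have hm₂ : mW ≫ q₂ = snd := by ext; exact pullback.lift_snd _ _ _
    have hcond : (fst ≫ a) ≫ pullback.diagonal p = (yon S).map mW ≫ ξ := by
      apply pullback.hom_ext
      · simp only [Category.assoc, pullback.diagonal_fst, Category.comp_id, ξ, pullback.lift_fst]
        rw [← Functor.map_comp_assoc, hm₁, map_pre]
      · simp only [Category.assoc, pullback.diagonal_snd, Category.comp_id, ξ, pullback.lift_snd]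
        rw [← Functor.map_comp_assoc, hm₂, sV.w]
    let toE : V ⟶ E := pre (sE.lift _ _ hcond)
    have hE : toE ≫ e₂ = mW := (yon S).map_injective (by rw [Functor.map_comp, map_pre, sE.lift_snd])
    have hsec : toE ≫ toV = 𝟙 V := (yon S).map_injective (sV.hom_ext
      (by
        rw [Functor.map_comp, Category.assoc, show (yon S).map toV = _ from map_pre _, sV.lift_fst,
          ← Functor.map_comp, ← Category.assoc, hE, hm₁, map_pre, CategoryTheory.Functor.map_id, Category.id_comp])
      (by
        rw [Functor.map_comp, Category.assoc, show (yon S).map toV = _ from map_pre _, sV.lift_snd,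
          ← Functor.map_comp, ← Category.assoc, hE, hm₂, CategoryTheory.Functor.map_id, Category.id_comp]))
    haveI : Surjective toV.left := ⟨fun v => ⟨toE.left v, by
      rw [← Scheme.Hom.comp_apply, ← Over.comp_left, hsec]; rfl⟩⟩
    exact ⟨toV.left.surjective.range_eq ▸ isCompact_range toV.left.continuous⟩
  haveI : IsLocallyArtinian V.left := isLocallyArtinian_of_etale_field (k := sq.K) snd.left
  haveI : Finite V.left := finite_of_compact_of_discrete
  -- the preimage of the point is the image of the fibre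
  have himg : ∀ w : ↥U.left, Points.ofPt a w = Points.ofPt top' pt → w ∈ Set.range (pre fst).left := fun w hw => by
    obtain ⟨v, hv, -⟩ := exists_point_of_sq sV (Points.ofScheme U w) pt
      (by rw [← Points.ofPt_eq_map_ofScheme]; exact hw)
    rw [ofPt_pre] at hv
    exact ⟨v, (Points.schemeEquiv U).injective hv⟩
  obtain ⟨v, hv⟩ : ∃ v : ↥V.left, (pre fst).left v ⤳ u' := by
    have hfin : (Set.range (pre fst).left).Finite := Set.finite_range _
    have hcl' : u' ∈ closure (Set.range (pre fst).left) := by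
      rw [mem_closure_iff]
      intro W hW huW
      obtain ⟨w, hwW, hw⟩ := hx'.mem_open (isOpenMap_ofPt ha W hW) ⟨u', huW, hu'⟩
      exact ⟨w, hwW, himg w hw⟩
    rw [← Set.biUnion_of_singleton (Set.range (pre fst).left), hfin.closure_biUnion, Set.mem_iUnion₂] at hcl'
    obtain ⟨_, ⟨v, rfl⟩, hv⟩ := hcl'
    exact ⟨v, specializes_iff_mem_closure.2 hv⟩
  let ψ₀ : CommRingCat.of sq.K ⟶ V.left.residueField v := Spec.preimage (V.left.fromSpecResidueField v ≫ snd.left)
  let iV : extPt sq ψ₀.hom ⟶ V := Over.homMk (V.left.fromSpecResidueField v) (by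
    change _ = Spec.map ψ₀ ≫ sq.ptK.hom
    rw [Spec.map_preimage, Category.assoc, Over.w snd])
  have hiV : iV ≫ snd = extHom sq ψ₀.hom := by ext; exact (Spec.map_preimage _).symm
  have hg' : g.left u' = closedPoint sq.A := by
    refine (Points.schemeEquiv sq.ptA).injective ?_
    change Points.ofScheme sq.ptA (g.left u') = _
    rw [← ofPt_pre, ← Points.map_ofPt, hu']
    exact hpx'
  obtain ⟨A', φ, hc, hl, h⟩ := exists_domExt_of_chart sq (a ≫ pullback.fst f sq.bot) g
    (by rw [Category.assoc, pullback.condition, map_pre, Category.assoc])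
    ψ₀.hom (iV ≫ pre fst)
    (by
      refine (yon S).map_injective ?_
      rw [Category.assoc, Functor.map_comp, Functor.map_comp, map_pre, map_pre, ← Category.assoc fst, sV.w,
        Category.assoc, pullback.lift_snd, ← Functor.map_comp, ← Functor.map_comp, ← Category.assoc, hiV])
    (by
      rw [Functor.map_comp, map_pre, Category.assoc, ← Category.assoc fst, sV.w, Category.assoc,
        pullback.lift_fst, ← Functor.map_comp_assoc, hiV])
    u' hg'
    (by
      rw [Over.comp_left, Scheme.Hom.comp_apply,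
        show iV.left (closedPoint (V.left.residueField v)) = v from Scheme.fromSpecResidueField_apply v _]
      exact hv)
  exact ⟨_, h⟩

end Groth.Agent.AlgSpDesc
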