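import Groth.Agent.AlgSpDesc.FpqcSheaf
import Groth.Agent.AlgSpc.ValRep
import Mathlib.RingTheory.Flat.TorsionFree
import Mathlib.RingTheory.Flat.FaithfullyFlat.Algebra
import Mathlib.RingTheory.Valuation.ValuationRing

/-!
For separated morphisms a lift of a valuative square after a dominating extension descends.
-/

set_option autoImplicit false
set_option linter.style.haveILetI false
set_option backward.isDefEq.respectTransparency false

universe u

open CategoryTheory CategoryTheory.Limits AlgebraicGeometry Opposite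
open scoped TensorProduct

namespace Groth.Agent.AlgSpDesc

open _root_.AlgSp Groth.Agent.AlgSpc

theorem flat_of_injective_of_valuationRing {A B : Type u} [CommRing A] [IsDomain A] [ValuationRing A]
    [CommRing B] [IsDomain B] [Algebra A B] (h : Function.Injective (algebraMap A B)) : Module.Flat A B := by
  refine Module.Flat.flat_iff_torsion_eq_bot_of_isBezout.2 (eq_bot_iff.2 ?_)
  rintro b ⟨⟨a, ha⟩, hab⟩
  rw [Submodule.mem_bot]
  rw [Submonoid.mk_smul, Algebra.smul_def] at hab
  exact (mul_eq_zero.1 hab).resolve_left fun e => nonZeroDivisors.ne_zero ha (h (e.trans (map_zero _).symm))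

/-- A closed immersion through which an injective ring map factors is an isomorphism. -/
theorem isIso_of_factor_injective {R R' : CommRingCat.{u}} {E : Scheme.{u}} (i : E ⟶ Spec R) [IsClosedImmersion i]
    (φ : R ⟶ R') (hφ : Function.Injective φ.hom) (d : Spec R' ⟶ E) (hd : d ≫ i = Spec.map φ) : IsIso i := by
  obtain ⟨I, e, rfl⟩ := IsClosedImmersion.Spec_iff.1 ‹IsClosedImmersion i›
  obtain ⟨ψ, hψ⟩ := Spec.map_surjective (d ≫ e.hom)
  have hI : I = ⊥ := by
    rw [eq_bot_iff]
    intro r hr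
    have h1 : Spec.map φ = Spec.map (CommRingCat.ofHom (Ideal.Quotient.mk I) ≫ ψ) := by
      rw [Spec.map_comp, hψ, Category.assoc]; exact hd.symm
    have h2 := congr($(Spec.map_injective h1).hom r)
    rw [Submodule.mem_bot]
    apply hφ
    rw [map_zero, h2]
    change ψ.hom (Ideal.Quotient.mk I r) = 0
    rw [Ideal.Quotient.eq_zero_iff_mem.2 hr, map_zero]
  haveI : IsIso (CommRingCat.ofHom (Ideal.Quotient.mk I)) :=
    (ConcreteCategory.isIso_iff_bijective _).2 ⟨fun a b h => by
      have := Ideal.Quotient.eq.1 h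
      rwa [hI, Submodule.mem_bot, sub_eq_zero] at this, Ideal.Quotient.mk_surjective⟩
  infer_instance

variable {S : Scheme.{u}}

theorem hasLift_of_domExt {X Y : Sp S} (hX : IsAlgSpace X) (hY : IsAlgSpace Y) {f : X ⟶ Y}
    (hf : IsSeparatedMor f) (sq : ValSq f) (e : sq.DomExt) (he : e.HasLift) : sq.HasLift := by
  obtain ⟨l, hl₁, hl₂⟩ := he
  letI : Algebra sq.A e.A' := e.φ.toAlgebra
  letI : Algebra sq.A e.K' := ((algebraMap e.A' e.K').comp e.φ).toAlgebra
  haveI : IsScalarTower sq.A e.A' e.K' := IsScalarTower.of_algebraMap_eq fun _ => rfl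
  have hinjK : Function.Injective ((algebraMap e.A' e.K').comp e.φ) := by
    rw [e.comm]; exact e.ψ.injective.comp (IsFractionRing.injective sq.A sq.K)
  have hinj : Function.Injective e.φ := fun a b h => hinjK (congrArg (algebraMap e.A' e.K') h)
  haveI : Module.Flat sq.A e.A' := flat_of_injective_of_valuationRing hinj
  haveI : Module.Flat sq.A e.K' := flat_of_injective_of_valuationRing hinjK
  haveI : IsLocalHom (algebraMap sq.A e.A') := e.isLocalHom
  haveI : Module.FaithfullyFlat sq.A e.A' := Module.FaithfullyFlat.of_flat_of_isLocalHom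
  let pA : e.ptA' ⟶ sq.ptA := Over.homMk (Spec.map (CommRingCat.ofHom e.φ)) rfl
  haveI : Flat pA.left := HasRingHomProperty.Spec_iff.2 (show e.φ.Flat from ‹Module.Flat sq.A e.A'›)
  haveI : Surjective pA.left := ⟨by
    exact PrimeSpectrum.comap_surjective_of_faithfullyFlat (A := sq.A) (B := e.A')⟩
  haveI : QuasiCompact pA.left := by
    change QuasiCompact (Spec.map (CommRingCat.ofHom e.φ)); infer_instance
  -- the test scheme `Spec (A' ⊗ A')` and the generic one
  let R₂ := e.A' ⊗[sq.A] e.A'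
  let i₁ : e.A' →+* R₂ := Algebra.TensorProduct.includeLeftRingHom
  let i₂ : e.A' →+* R₂ := (Algebra.TensorProduct.includeRight : e.A' →ₐ[sq.A] R₂).toRingHom
  have hi : i₂.comp e.φ = i₁.comp e.φ := RingHom.ext fun a => by
    exact ((Algebra.TensorProduct.includeRight : e.A' →ₐ[sq.A] R₂).commutes a).trans
      (((Algebra.TensorProduct.includeLeft : e.A' →ₐ[sq.A] R₂).commutes a).symm)
  let P : Over S := Over.mk (Spec.map (CommRingCat.ofHom i₁) ≫ e.ptA'.hom)
  let π₁ : P ⟶ e.ptA' := Over.homMk (Spec.map (CommRingCat.ofHom i₁)) rfl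
  let π₂ : P ⟶ e.ptA' := Over.homMk (Spec.map (CommRingCat.ofHom i₂)) (by
    change Spec.map _ ≫ Spec.map _ ≫ _ = Spec.map _ ≫ Spec.map _ ≫ _
    rw [← Spec.map_comp_assoc, ← Spec.map_comp_assoc, ← CommRingCat.ofHom_comp, ← CommRingCat.ofHom_comp, hi])
  have hπp : π₁ ≫ pA = π₂ ≫ pA := by
    ext
    change Spec.map _ ≫ Spec.map _ = Spec.map _ ≫ Spec.map _
    rw [← Spec.map_comp, ← Spec.map_comp, ← CommRingCat.ofHom_comp, ← CommRingCat.ofHom_comp, hi]
  -- generic test scheme
  let R₃ := e.K' ⊗[sq.A] e.K'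
  let k₁ : e.K' →+* R₃ := Algebra.TensorProduct.includeLeftRingHom
  let k₂ : e.K' →+* R₃ := (Algebra.TensorProduct.includeRight : e.K' →ₐ[sq.A] R₃).toRingHom
  have hk : k₂.comp e.ψ = k₁.comp e.ψ := IsLocalization.ringHom_ext (nonZeroDivisors sq.A) (RingHom.ext fun a => by
    change k₂ (e.ψ (algebraMap sq.A sq.K a)) = k₁ (e.ψ (algebraMap sq.A sq.K a))
    rw [← RingHom.comp_apply e.ψ, ← e.comm]
    exact ((Algebra.TensorProduct.includeRight : e.K' →ₐ[sq.A] R₃).commutes a).trans
      (((Algebra.TensorProduct.includeLeft : e.K' →ₐ[sq.A] R₃).commutes a).symm))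
  let ι : e.A' →ₐ[sq.A] e.K' := IsScalarTower.toAlgHom sq.A e.A' e.K'
  let Φ : R₂ →ₐ[sq.A] R₃ := Algebra.TensorProduct.map ι ι
  have hΦ₁ : Φ.toRingHom.comp i₁ = k₁.comp (algebraMap e.A' e.K') := RingHom.ext fun a => by
    refine (Algebra.TensorProduct.map_tmul ι ι a 1).trans ?_
    rw [map_one]; rfl
  have hΦ₂ : Φ.toRingHom.comp i₂ = k₂.comp (algebraMap e.A' e.K') := RingHom.ext fun a => by
    refine (Algebra.TensorProduct.map_tmul ι ι 1 a).trans ?_
    rw [map_one]; rfl
  have hΦ : Function.Injective Φ.toRingHom := by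
    have := TensorProduct.map_injective_of_flat_flat' ι.toLinearMap ι.toLinearMap
      (IsFractionRing.injective e.A' e.K') (IsFractionRing.injective e.A' e.K')
    exact this
  let Q : Over S := Over.mk (Spec.map (CommRingCat.ofHom Φ.toRingHom) ≫ P.hom)
  let c : Q ⟶ P := Over.homMk (Spec.map (CommRingCat.ofHom Φ.toRingHom)) rfl
  let jA : e.ptK' ⟶ e.ptA' := Over.homMk (Spec.map (CommRingCat.ofHom (algebraMap e.A' e.K'))) rfl
  let jψ : e.ptK' ⟶ sq.ptK := Over.homMk (Spec.map (CommRingCat.ofHom e.ψ)) (by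
    change Spec.map _ ≫ Spec.map _ ≫ _ = Spec.map _ ≫ Spec.map _ ≫ _
    rw [← Spec.map_comp_assoc, ← Spec.map_comp_assoc, ← CommRingCat.ofHom_comp,
      ← CommRingCat.ofHom_comp, e.comm])
  change (yon S).map jA ≫ l = (yon S).map jψ ≫ sq.top at hl₁
  change l ≫ f = (yon S).map pA ≫ sq.bot at hl₂
  have hQ : ∀ (π : P ⟶ e.ptA') (i : e.A' →+* R₂) (k : e.K' →+* R₃),
      π.left = Spec.map (CommRingCat.ofHom i) → Φ.toRingHom.comp i = k.comp (algebraMap e.A' e.K') →
      ∃ z : Q ⟶ e.ptK', z.left = Spec.map (CommRingCat.ofHom k) ∧ z ≫ jA = c ≫ π := by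
    intro π i k hπ hik
    have h : Spec.map (CommRingCat.ofHom k) ≫ Spec.map (CommRingCat.ofHom (algebraMap e.A' e.K')) =
        Spec.map (CommRingCat.ofHom Φ.toRingHom) ≫ π.left := by
      rw [hπ, ← Spec.map_comp, ← Spec.map_comp, ← CommRingCat.ofHom_comp, ← CommRingCat.ofHom_comp, hik]
    refine ⟨Over.homMk (Spec.map (CommRingCat.ofHom k)) ?_, rfl, by ext; exact h⟩
    change _ ≫ Spec.map _ ≫ e.ptA'.hom = Spec.map _ ≫ P.hom
    rw [reassoc_of% h, Over.w π]
  obtain ⟨z₁, hz₁, hz₁'⟩ := hQ π₁ i₁ k₁ rfl hΦ₁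
  obtain ⟨z₂, hz₂, hz₂'⟩ := hQ π₂ i₂ k₂ rfl hΦ₂
  have hzψ : z₁ ≫ jψ = z₂ ≫ jψ := by
    ext
    change z₁.left ≫ Spec.map _ = z₂.left ≫ Spec.map _
    rw [hz₁, hz₂, ← Spec.map_comp, ← Spec.map_comp, ← CommRingCat.ofHom_comp, ← CommRingCat.ofHom_comp, hk]
  have hgen : (yon S).map c ≫ (yon S).map π₁ ≫ l = (yon S).map c ≫ (yon S).map π₂ ≫ l := by
    rw [← Functor.map_comp_assoc, ← Functor.map_comp_assoc, ← hz₁', ← hz₂', Functor.map_comp_assoc,
      Functor.map_comp_assoc, hl₁, ← Functor.map_comp_assoc, ← Functor.map_comp_assoc, hzψ]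
  -- the two pullbacks agree
  have hfw : ((yon S).map π₁ ≫ l) ≫ f = ((yon S).map π₂ ≫ l) ≫ f := by
    rw [Category.assoc, Category.assoc, hl₂, ← Functor.map_comp_assoc, ← Functor.map_comp_assoc, hπp]
  let ξ := pullback.lift ((yon S).map π₁ ≫ l) ((yon S).map π₂ ≫ l) hfw
  obtain ⟨E, a, i, sE⟩ := exists_sq hf.1 ξ
  haveI : IsClosedImmersion i.left := hf.2 _ _ _ sE
  have wQ : ((yon S).map c ≫ (yon S).map π₁ ≫ l) ≫ pullback.diagonal f = (yon S).map c ≫ ξ := by
    apply pullback.hom_ext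
    · simp [ξ]
    · simp only [Category.assoc, pullback.diagonal_snd, Category.comp_id, ξ, pullback.lift_snd]; exact hgen
  let d : Q ⟶ E := pre (sE.lift _ _ wQ)
  have hd : d ≫ i = c := (yon S).map_injective (by rw [Functor.map_comp, map_pre, sE.lift_snd])
  haveI : IsIso i.left := isIso_of_factor_injective (R := CommRingCat.of R₂) i.left
    (CommRingCat.ofHom Φ.toRingHom) hΦ d.left (congrArg CommaMorphism.left hd)
  haveI : IsIso ((Over.forget S).map i) := ‹IsIso i.left›
  haveI : IsIso i := isIso_of_reflects_iso i (Over.forget S)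
  have hπ : (yon S).map π₁ ≫ l = (yon S).map π₂ ≫ l := by
    rw [← cancel_epi ((yon S).map i)]
    have h1 := congrArg (· ≫ pullback.fst f f) sE.w
    have h2 := congrArg (· ≫ pullback.snd f f) sE.w
    simp [ξ] at h1 h2
    exact h1.symm.trans h2
  -- descend
  obtain ⟨y, hy⟩ := exists_desc_single hX pA l fun Z z z' h => by
    have h' : z.left ≫ Spec.map (CommRingCat.ofHom e.φ) = z'.left ≫ Spec.map (CommRingCat.ofHom e.φ) :=
      congrArg CommaMorphism.left h
    let w := pullback.lift z.left z'.left h' ≫ (pullbackSpecIso sq.A e.A' e.A').hom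
    have w₁ : w ≫ Spec.map (CommRingCat.ofHom i₁) = z.left := by
      simp only [w, i₁, Category.assoc]
      erw [pullbackSpecIso_hom_fst, pullback.lift_fst]
    have w₂ : w ≫ Spec.map (CommRingCat.ofHom i₂) = z'.left := by
      simp only [w, i₂, Category.assoc]
      erw [pullbackSpecIso_hom_snd, pullback.lift_snd]
    let wO : Z ⟶ P := Over.homMk w (by change w ≫ Spec.map _ ≫ _ = _; rw [reassoc_of% w₁, Over.w z])
    rw [show z = wO ≫ π₁ by ext; exact w₁.symm, show z' = wO ≫ π₂ by ext; exact w₂.symm,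
      Functor.map_comp_assoc, Functor.map_comp_assoc, hπ]
  refine ⟨y, ?_, ?_⟩
  · haveI : Flat jψ.left := HasRingHomProperty.Spec_iff.2 (show e.ψ.Flat from by
      letI := e.ψ.toAlgebra
      exact (inferInstance : Module.Flat sq.K e.K'))
    haveI : Surjective jψ.left := ⟨fun x => ⟨(default : PrimeSpectrum e.K'), @Subsingleton.elim (PrimeSpectrum sq.K) _ _ _⟩⟩
    haveI : QuasiCompact jψ.left := by
      change QuasiCompact (Spec.map (CommRingCat.ofHom e.ψ)); infer_instance
    refine eq_of_cover hX (fun _ : PUnit.{1} => jψ) (SchDescent.isCover_singleton jψ.left) _ _ fun _ => ?_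
    rw [← hl₁, ← hy, ← Functor.map_comp_assoc, ← Functor.map_comp_assoc]
    congr 2
    ext
    change Spec.map _ ≫ Spec.map _ = Spec.map _ ≫ Spec.map _
    rw [← Spec.map_comp, ← Spec.map_comp, ← CommRingCat.ofHom_comp, ← CommRingCat.ofHom_comp, e.comm]
  · refine eq_of_cover hY (fun _ : PUnit.{1} => pA) (SchDescent.isCover_singleton pA.left) _ _ fun _ => ?_
    rw [← hl₂, ← hy, Category.assoc]

end Groth.Agent.AlgSpDesc
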