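import Groth.Agent.AlgSpDesc.UnivClosedTest
import Groth.Agent.AlgSpDesc.SepValDescent
import Groth.Agent.AlgSpDesc.ExistLift
import Groth.Agent.AlgSpc.EtLocInst
import Groth.Agent.AlgSpFormal.Mono
import Groth.Agent.AlgStB.SpDiag
import Groth.Agent.DVRDom.Scheme

/-!
Discrete valuation rings suffice over locally Noetherian bases.
-/

set_option autoImplicit false
set_option linter.style.haveILetI false
set_option backward.isDefEq.respectTransparency false

universe u

open CategoryTheory CategoryTheory.Limits AlgebraicGeometry IsLocalRing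

namespace Groth.Agent.AlgSpDesc

open _root_.AlgSp Groth.Agent.AlgSpc

variable {S : Scheme.{u}} {X Y : Sp S} {f : X ⟶ Y}

/-- Spaces locally of finite type over locally Noetherian ones are locally Noetherian. -/
theorem isLocNoethSp_of_lft (hX : IsAlgSpace X) (hf : LocP @LocallyOfFiniteType f) (hY : IsLocNoethSp Y) :
    IsLocNoethSp X := by
  obtain ⟨V, c, hc, hcs, hV⟩ := hY
  obtain ⟨U₀, a₀, h₁, h₂⟩ := hX.atlas
  obtain ⟨U, a, h, ha, has, w⟩ := exists_chart_over f h₁ h₂ hc hcs
  haveI : IsLocallyNoetherian V.left := hV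
  haveI : LocallyOfFiniteType h.left := hf a c h ha hc w
  exact ⟨U, a, ha, has, LocallyOfFiniteType.isLocallyNoetherian h.left⟩

/-- Existence for discrete valuation rings gives universal closedness. -/
theorem isUnivClosedMor_of_dvr (hX : IsAlgSpace X) (hY : IsAlgSpace Y) (hft : LocP @LocallyOfFiniteType f)
    (hq : IsQuasiCompactMor f) (hN : IsLocNoethSp Y)
    (he : ∀ sq : ValSq f, IsDiscreteValuationRing sq.A → sq.HasLiftExt) : IsUnivClosedMor f := by
  obtain ⟨V, p, hp, hps, hV⟩ := hN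
  haveI : IsLocallyNoetherian V.left := hV
  refine isUnivClosedMor_of_affineSpace hX hY hq V p hp hps fun n P fst snd sq => ?_
  let N : Over S := Over.mk ((𝔸(ULift.{u} (Fin n); V.left) ↘ V.left) ≫ V.hom)
  haveI : IsLocallyNoetherian N.left :=
    LocallyOfFiniteType.isLocallyNoetherian (𝔸(ULift.{u} (Fin n); V.left) ↘ V.left)
  intro C hC
  rw [← (Points.schemeHomeo N).isClosed_preimage]
  have hcov : TopologicalSpace.IsOpenCover (fun O : N.left.affineOpens => (O : N.left.Opens)) :=
    iSup_affineOpens_eq_top _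
  refine (hcov.isClosed_iff_coe_preimage).2 fun O => ?_
  let B : Over S := Over.mk ((O : N.left.Opens).ι ≫ N.hom)
  let ι : B ⟶ N := Over.homMk (O : N.left.Opens).ι rfl
  have sB := IsPullback.of_hasPullback snd ((yon S).map ι)
  have hK : ((Points.schemeHomeo N) ⁻¹' (Points.map snd '' C)).preimage (Subtype.val : ↥(O : N.left.Opens) → _) =
      Points.ofScheme B ⁻¹' (Points.map (pullback.snd snd ((yon S).map ι)) ''
        (Points.map (pullback.fst snd ((yon S).map ι)) ⁻¹' C)) := by
    rw [← AlgSpLoc.ofPt_preimage_image sB C]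
    ext x
    change Points.ofScheme N (ι.left x) ∈ Points.map snd '' C ↔ Points.ofPt ((yon S).map ι) x ∈ Points.map snd '' C
    rw [ofPt_pre, pre_map]
  change IsClosed ((Subtype.val : ↥(O : N.left.Opens) → _) ⁻¹' ((Points.schemeHomeo N) ⁻¹' (Points.map snd '' C)))
  rw [hK]
  -- now over a Noetherian affine scheme
  let D : Set (Points (pullback snd ((yon S).map ι))) := Points.map (pullback.fst snd ((yon S).map ι)) ⁻¹' C
  have hD : IsClosed D := hC.preimage (Points.continuous_map _)
  let pB := pullback.snd snd ((yon S).map ι)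
  have sBY := sB.paste_horiz sq
  have hP := isAlgSpace_of_isPullback hX hY (IsAlgSpace.yon_obj B) sBY
  haveI : IsAffine B.left := O.2
  have hPq : IsQuasiCompactSp (pullback snd ((yon S).map ι)) :=
    hq (IsAlgSpace.yon_obj B) ⟨B, 𝟙 _, repWith_id _ _, repWith_id _ _, inferInstance⟩ _ _ _ sBY
  obtain ⟨W, a, hW, ha, has⟩ := (isQuasiCompactSp_iff_affine hP).1 hPq
  haveI := hW
  haveI : IsLocallyNoetherian B.left := isLocallyNoetherian_of_isOpenImmersion (O : N.left.Opens).ι
  let φ : W ⟶ B := pre (a ≫ pB)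
  haveI : LocallyOfFiniteType φ.left :=
    locP_base_change hX hY (IsAlgSpace.yon_obj B) sBY hft a (𝟙 _) φ ha (repWith_id _ _)
      (by rw [Category.comp_id, map_pre])
  have hφ : ∀ w, Points.map pB (Points.ofPt a w) = Points.ofScheme B (φ.left w) := fun w => by
    rw [Points.map_ofPt, ofPt_pre]
  let Cw : TopologicalSpace.Closeds W.left := ⟨Points.ofPt a ⁻¹' D, hD.preimage (Points.continuous_ofPt a)⟩
  let I := Scheme.IdealSheafData.vanishingIdeal Cw
  have hrI : Set.range I.subschemeι = Points.ofPt a ⁻¹' D := by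
    rw [Scheme.IdealSheafData.range_subschemeι, Scheme.IdealSheafData.coe_support_vanishingIdeal]; rfl
  have himg : Points.ofScheme B ⁻¹' (Points.map pB '' D) = φ.left '' (Points.ofPt a ⁻¹' D) := by
    ext t
    constructor
    · rintro ⟨x, hx, hxt⟩
      obtain ⟨w, rfl⟩ := surjective_ofPt has x
      exact ⟨w, hx, (Points.schemeEquiv B).injective ((hφ w).symm.trans hxt)⟩
    · rintro ⟨w, hw, rfl⟩
      exact ⟨_, hw, hφ w⟩
  change IsClosed (Points.ofScheme B ⁻¹' (Points.map pB '' D))
  rw [himg]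
  refine isClosed_of_closure_subset fun t ht => ?_
  have hrg : Set.range (I.subschemeι ≫ φ.left) = φ.left '' (Points.ofPt a ⁻¹' D) := by
    rw [Scheme.Hom.comp_base, TopCat.coe_comp, Set.range_comp, hrI]
  haveI : CompactSpace I.subscheme := QuasiCompact.compactSpace_of_compactSpace I.subschemeι
  haveI : QuasiCompact (I.subschemeι ≫ φ.left) := inferInstance
  obtain ⟨c, hc⟩ := Groth.Agent.LimSch.exists_specializes_of_mem_closure_range (I.subschemeι ≫ φ.left) (hrg.symm ▸ ht)
  let w := I.subschemeι c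
  have hwC : Points.ofPt a w ∈ D := hrI.le ⟨c, rfl⟩
  rw [Scheme.Hom.comp_apply] at hc
  rcases eq_or_ne t (φ.left w) with rfl | hne
  · exact ⟨w, hwC, rfl⟩
  obtain ⟨R, g, hR, hgt, hg⟩ := Groth.Agent.DVRDom.exists_dvr_through_specialization φ.left w t hc hne
  let str : Spec (CommRingCat.of R) ⟶ S := g ≫ B.hom
  let P₁ : Over S := Over.mk (Spec.map (CommRingCat.ofHom (algebraMap R (W.left.residueField w))) ≫ str)
  let z : P₁ ⟶ W := Over.homMk (W.left.fromSpecResidueField w) (by
    change _ = Spec.map (CommRingCat.ofHom R.subtype) ≫ g ≫ B.hom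
    rw [reassoc_of% hg, Over.w φ])
  let zB : Over.mk str ⟶ B := Over.homMk g rfl
  let v₁ : ValSq pB :=
    { A := R, K := W.left.residueField w, str := str, top := (yon S).map z ≫ a, bot := (yon S).map zB,
      comm := by
        rw [Category.assoc, ← map_pre (a ≫ pB), ← Functor.map_comp, ← Functor.map_comp]
        congr 1
        ext
        exact hg.symm }
  let v : ValSq f :=
    { A := R, K := W.left.residueField w, str := str,
      top := v₁.top ≫ pullback.fst snd ((yon S).map ι) ≫ fst,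
      bot := v₁.bot ≫ (yon S).map ι ≫
        (yon S).map (Over.homMk (𝔸(ULift.{u} (Fin n); V.left) ↘ V.left) : N ⟶ V) ≫ p,
      comm := by rw [Category.assoc, sBY.w, ← reassoc_of% v₁.comm] }
  obtain ⟨e, l, hl₁, hl₂⟩ := he v hR
  let pA : e.ptA' ⟶ v.ptA := Over.homMk (Spec.map (CommRingCat.ofHom e.φ)) rfl
  let jA : e.ptK' ⟶ e.ptA' := Over.homMk (Spec.map (CommRingCat.ofHom (algebraMap e.A' e.K'))) rfl
  let jψ : e.ptK' ⟶ v.ptK := Over.homMk (Spec.map (CommRingCat.ofHom e.ψ)) (by
    change Spec.map _ ≫ Spec.map _ ≫ _ = Spec.map _ ≫ Spec.map _ ≫ _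
    rw [← Spec.map_comp_assoc, ← Spec.map_comp_assoc, ← CommRingCat.ofHom_comp,
      ← CommRingCat.ofHom_comp, e.comm])
  change (yon S).map jA ≫ l = (yon S).map jψ ≫ v.top at hl₁
  have hl₂' : l ≫ f = ((yon S).map pA ≫ v₁.bot) ≫ (yon S).map ι ≫
      (yon S).map (Over.homMk (𝔸(ULift.{u} (Fin n); V.left) ↘ V.left) : N ⟶ V) ≫ p := by
    rw [Category.assoc]; exact hl₂
  let l' := sBY.lift l ((yon S).map pA ≫ v₁.bot) hl₂'
  have hl₁' : (yon S).map jA ≫ l' = (yon S).map jψ ≫ (yon S).map z ≫ a := by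
    refine sBY.hom_ext ?_ ?_
    · rw [Category.assoc, sBY.lift_fst, hl₁]; simp [v, v₁]
    · rw [Category.assoc, sBY.lift_snd, Category.assoc, Category.assoc,
        show a ≫ pB = (yon S).map φ from (map_pre _).symm, ← Functor.map_comp_assoc, ← Functor.map_comp,
        ← Functor.map_comp, ← Functor.map_comp]
      congr 1
      ext
      change (Spec.map _ ≫ Spec.map _) ≫ g = Spec.map _ ≫ W.left.fromSpecResidueField w ≫ φ.left
      rw [← hg, ← Spec.map_comp, ← Spec.map_comp_assoc, ← CommRingCat.ofHom_comp, ← CommRingCat.ofHom_comp,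
        e.comm]
      rfl
  let η := (Spec.map (CommRingCat.ofHom (algebraMap e.A' e.K'))) (closedPoint e.K')
  let c' := closedPoint e.A'
  have hmem : Points.ofPt l' η ∈ D := by
    have h1 := congrArg (fun q => Points.ofPt q (closedPoint e.K')) hl₁'
    simp only [ofPt_comp] at h1
    change Points.ofPt l' η = _ at h1
    rw [h1]
    refine (congrArg (Points.ofPt a) ?_).symm ▸ hwC
    exact Scheme.fromSpecResidueField_apply w _
  have hmem' : Points.ofPt l' c' ∈ D :=
    ((IsLocalRing.specializes_closedPoint η).map (Points.continuous_ofPt l')).mem_closed hD hmem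
  have hmap : Points.map pB (Points.ofPt l' c') = Points.ofScheme B t := by
    rw [Points.map_ofPt, sBY.lift_snd, ← Functor.map_comp, ofPt_pre, pre_map, ← hgt]
    haveI := e.isLocalHom
    exact congrArg (fun s => Points.ofScheme B (g s)) (IsLocalRing.comap_closedPoint e.φ)
  obtain ⟨w', hw'⟩ := surjective_ofPt has (Points.ofPt l' c')
  refine ⟨w', show Points.ofPt a w' ∈ D by rw [hw']; exact hmem', (Points.schemeEquiv B).injective ?_⟩
  exact (hφ w').symm.trans ((congrArg (Points.map pB) hw').trans hmap)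

theorem isProperMor_iff_dvr (hX : IsAlgSpace X) (hY : IsAlgSpace Y) (hqs : IsQuasiSeparatedMor f)
    (hft : IsFiniteTypeMor f) (hN : IsLocNoethSp Y) :
    IsProperMor f ↔ ∀ sq : ValSq f, IsDiscreteValuationRing sq.A → sq.HasLift ∧ sq.HasUniq := by
  refine ⟨fun ⟨hs, _, hc⟩ sq _ => ?_, fun h => ?_⟩
  · obtain ⟨e, he⟩ := existVC_of_univClosed hX hY hqs hc sq
    exact ⟨hasLift_of_domExt hX hY hs sq e he, uniqVC_of_isSeparatedMor hs sq⟩
  have hlift : ∀ {X' Y' : Sp S} {f' : X' ⟶ Y'} (sq : ValSq f'), sq.HasLift → sq.HasLiftExt := by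
    intro X' Y' f' sq ⟨l, h₁, h₂⟩
    let d : sq.DomExt :=
      { A' := sq.A, K' := sq.K, φ := RingHom.id _, ψ := RingHom.id _, comm := rfl, isLocalHom := ⟨fun _ h => h⟩ }
    let c : d.ptA' ⟶ sq.ptA := Over.homMk (Spec.map (CommRingCat.ofHom (RingHom.id sq.A))) rfl
    refine ⟨d, (yon S).map c ≫ l, ?_, by rw [Category.assoc, h₂]⟩
    rw [← h₁, ← Functor.map_comp_assoc, ← Functor.map_comp_assoc]
    congr 2
    ext
    change Spec.map _ ≫ Spec.map _ = Spec.map _ ≫ Spec.map _
    rw [← Spec.map_comp, ← Spec.map_comp]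
    rfl
  have hP := isAlgSpace_of_isPullback hX hY hX (IsPullback.of_hasPullback f f)
  have hPN : IsLocNoethSp (pullback f f) :=
    isLocNoethSp_of_lft hP (locP_comp hP hX hY
      (locP_base_change hX hY hX (IsPullback.of_hasPullback f f).flip hft.1) hft.1) hN
  have hΔ : LocP @LocallyOfFiniteType (pullback.diagonal f) := locP_of_repWith EtLoc.precomp
    (repWith_mono (fun _ _ k h => h.1) (AlgStB.representable_lft_mono_diagonal hX f))
  refine ⟨(AlgSpFormal.closedImmersion_iff hX hP).2 ⟨?_, hΔ, inferInstance⟩, hft,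
    isUnivClosedMor_of_dvr hX hY hft.1 hft.2 hN fun sq hR => hlift sq (h sq hR).1⟩
  refine isUnivClosedMor_of_dvr hX hP hΔ (isQuasiCompactMor_of_repWith hqs) hPN fun sq hR => hlift sq ?_
  let l₁ := sq.bot ≫ pullback.fst f f
  let l₂ := sq.bot ≫ pullback.snd f f
  have h₁ : (yon S).map sq.j ≫ l₁ = sq.top := by
    simp only [l₁, ← reassoc_of% sq.comm, pullback.diagonal_fst, Category.comp_id]
  have h₂ : (yon S).map sq.j ≫ l₂ = sq.top := by
    simp only [l₂, ← reassoc_of% sq.comm, pullback.diagonal_snd, Category.comp_id]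
  let sq' : ValSq f :=
    { A := sq.A, K := sq.K, str := sq.str, top := sq.top, bot := l₁ ≫ f,
      comm := by rw [← h₁, Category.assoc] }
  have e : l₁ = l₂ := (h sq' hR).2 l₁ l₂ h₁ rfl h₂ (by
    change (_ ≫ _) ≫ _ = (_ ≫ _) ≫ _
    rw [Category.assoc, Category.assoc, pullback.condition])
  refine ⟨l₁, h₁, ?_⟩
  apply pullback.hom_ext
  · simp [l₁]
  · rw [e]; simp [l₂]

end Groth.Agent.AlgSpDesc
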