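import Groth.Agent.AlgSpDesc.DVRCriterion
import Mathlib.RingTheory.PowerSeries.Inverse

/-!
Points in the closure of the image are reached by discrete valuation rings.
-/

set_option autoImplicit false
set_option linter.style.haveILetI false
set_option backward.isDefEq.respectTransparency false

universe u

open CategoryTheory CategoryTheory.Limits AlgebraicGeometry IsLocalRing

namespace Groth.Agent.AlgSpDesc

open _root_.AlgSp Groth.Agent.AlgSpc

/-- A closure point of the image of a finite type map of schemes is reached by a DVR. -/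
theorem exists_dvr_to_point {W V : Scheme.{u}} [IsLocallyNoetherian V] (φ : W ⟶ V) [LocallyOfFiniteType φ]
    (w : W) (v : V) (h : φ w ⤳ v) :
    ∃ (A : Type u) (_ : CommRing A) (_ : IsDomain A) (_ : IsDiscreteValuationRing A)
      (g : Spec (CommRingCat.of A) ⟶ V) (g' : Spec (CommRingCat.of (FractionRing A)) ⟶ W),
      g (closedPoint A) = v ∧ g' ≫ φ = Spec.map (CommRingCat.ofHom (algebraMap A (FractionRing A))) ≫ g := by
  rcases eq_or_ne v (φ w) with rfl | hne
  · let A := PowerSeries (W.residueField w)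
    refine ⟨A, inferInstance, inferInstance, inferInstance,
      Spec.map (CommRingCat.ofHom (PowerSeries.C (R := W.residueField w))) ≫ W.fromSpecResidueField w ≫ φ,
      Spec.map (CommRingCat.ofHom ((algebraMap A (FractionRing A)).comp PowerSeries.C)) ≫ W.fromSpecResidueField w,
      ?_, ?_⟩
    · rw [← Category.assoc, Scheme.Hom.comp_apply, Scheme.Hom.comp_apply]
      exact congrArg φ (Scheme.fromSpecResidueField_apply w _)
    · rw [CommRingCat.ofHom_comp, Spec.map_comp]; simp only [Category.assoc]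
  · obtain ⟨A, g, hA, hg, hcomm⟩ := Groth.Agent.DVRDom.exists_dvr_through_specialization φ w v h hne
    let e : W.residueField w ≃ₐ[A] FractionRing A := (FractionRing.algEquiv A (W.residueField w)).symm
    have he : CommRingCat.ofHom A.subtype ≫ CommRingCat.ofHom (e : W.residueField w →+* FractionRing A) =
        CommRingCat.ofHom (algebraMap A (FractionRing A)) :=
      CommRingCat.hom_ext (RingHom.ext fun a => e.commutes a)
    exact ⟨A, inferInstance, inferInstance, hA, g,
      Spec.map (CommRingCat.ofHom (e : W.residueField w →+* FractionRing A)) ≫ W.fromSpecResidueField w, hg, by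
        rw [← he, Spec.map_comp, Category.assoc, Category.assoc, hcomm]⟩

variable {S : Scheme.{u}} {X Y : Sp S} {f : X ⟶ Y}

theorem exists_dvr_diagram (hX : IsAlgSpace X) (hY : IsAlgSpace Y) (hft : IsFiniteTypeMor f)
    (hN : IsLocNoethSp Y) (y : Points Y) (hy : y ∈ closure (Set.range (Points.map f))) :
    ∃ (A : Type u) (_ : CommRing A) (_ : IsDomain A) (_ : IsDiscreteValuationRing A)
      (a : Spec (CommRingCat.of A) ⟶ S)
      (α : (yon S).obj (Over.mk a) ⟶ Y)
      (κ : (yon S).obj (Over.mk (Spec.map (CommRingCat.ofHom (algebraMap A (FractionRing A))) ≫ a)) ⟶ X),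
      κ ≫ f = (yon S).map (Over.homMk (Spec.map (CommRingCat.ofHom (algebraMap A (FractionRing A)))) rfl :
        Over.mk (Spec.map (CommRingCat.ofHom (algebraMap A (FractionRing A))) ≫ a) ⟶ Over.mk a) ≫ α ∧
      Points.map α (Points.schemeEquiv (Over.mk a) (IsLocalRing.closedPoint A)) = y := by
  obtain ⟨U₀, c₀, hc₀, hc₀s, hU₀⟩ := hN
  haveI : IsLocallyNoetherian U₀.left := hU₀
  obtain ⟨u₀, hu₀⟩ := surjective_ofPt hc₀s y
  obtain ⟨T, k, t₀, hT, hk, rfl, -⟩ := exists_affine_chart u₀ ⊤ trivial
  haveI := hT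
  haveI := hk
  haveI : IsLocallyNoetherian T.left := isLocallyNoetherian_of_isOpenImmersion k.left
  obtain ⟨c, hc, htc⟩ : ∃ c : (yon S).obj T ⟶ Y, RepWith @Etale c ∧ Points.ofPt c t₀ = y :=
    ⟨(yon S).map k ≫ c₀, repWith_comp ((repWith_yon_map_iff _ _).2 (inferInstanceAs (Etale k.left))) hc₀,
      by rw [ofPt_comp]; exact hu₀⟩
  have sP := IsPullback.of_hasPullback f c
  have hP := isAlgSpace_of_isPullback hX hY (IsAlgSpace.yon_obj T) sP
  have hPq : IsQuasiCompactSp (pullback f c) :=
    hft.2 (IsAlgSpace.yon_obj T) ⟨T, 𝟙 _, repWith_id _ _, repWith_id _ _, inferInstance⟩ c _ _ sP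
  obtain ⟨W, a, hW, ha, has⟩ := (isQuasiCompactSp_iff_affine hP).1 hPq
  haveI := hW
  let φ : W ⟶ T := pre (a ≫ pullback.snd f c)
  haveI : LocallyOfFiniteType φ.left :=
    locP_base_change hX hY (IsAlgSpace.yon_obj T) sP hft.1 a (𝟙 _) φ ha (repWith_id _ _)
      (by rw [Category.comp_id, map_pre])
  have hcl : t₀ ∈ closure (Set.range φ.left) := by
    rw [← htc] at hy
    refine closure_mono ?_ ((isOpenMap_ofPt hc).preimage_closure_subset_closure_preimage hy)
    rintro t ⟨x, hx⟩
    obtain ⟨q, -, hq⟩ := exists_point_of_isPullback sP x (Points.ofScheme T t)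
      (by rw [hx, ← Points.ofPt_eq_map_ofScheme])
    obtain ⟨w, rfl⟩ := surjective_ofPt has q
    refine ⟨w, (Points.schemeEquiv T).injective ?_⟩
    rw [Points.map_ofPt, ofPt_pre] at hq
    exact hq
  haveI : QuasiCompact φ.left := inferInstance
  obtain ⟨w, hw⟩ := Groth.Agent.LimSch.exists_specializes_of_mem_closure_range φ.left hcl
  obtain ⟨A, _, _, hA, g, g', hg, hgg'⟩ := exists_dvr_to_point φ.left w t₀ hw
  let aS : Spec (CommRingCat.of A) ⟶ S := g ≫ T.hom
  let gO : Over.mk aS ⟶ T := Over.homMk g rfl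
  let gW : Over.mk (Spec.map (CommRingCat.ofHom (algebraMap A (FractionRing A))) ≫ aS) ⟶ W :=
    Over.homMk g' (by
      change g' ≫ W.hom = _ ≫ g ≫ T.hom
      rw [← Over.w φ, reassoc_of% hgg'])
  refine ⟨A, inferInstance, inferInstance, hA, aS, (yon S).map gO ≫ c,
    (yon S).map gW ≫ a ≫ pullback.fst f c, ?_, ?_⟩
  · rw [Category.assoc, Category.assoc, pullback.condition, ← Category.assoc a, ← map_pre (a ≫ pullback.snd f c),
      ← Functor.map_comp_assoc, ← Functor.map_comp_assoc]
    congr 2
    ext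
    exact hgg'
  · change Points.map _ (Points.ofScheme (Over.mk aS) (closedPoint A)) = _
    rw [← Points.ofPt_eq_map_ofScheme, ofPt_comp, show gO.left (closedPoint A) = t₀ from hg, htc]

end Groth.Agent.AlgSpDesc
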