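import Groth.Agent.S9900
import Mathlib.CategoryTheory.Limits.Shapes.Diagonal

/-!
Cancellation through diagonals.
-/

set_option autoImplicit false
set_option linter.style.haveILetI false
set_option backward.isDefEq.respectTransparency false

universe u

open CategoryTheory CategoryTheory.Limits AlgebraicGeometry

namespace Groth.Agent.AlgSpDesc

open _root_.AlgSp Groth.Agent.AlgSpc

variable {S : Scheme.{u}}

theorem repWith_mapDesc {P : MorphismProperty Scheme.{u}} [P.IsStableUnderBaseChange] {X Y Z T : Sp S}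
    (f : X ⟶ Z) (g : Y ⟶ Z) (h : Z ⟶ T) (hd : RepWith P (pullback.diagonal h)) :
    RepWith P (pullback.mapDesc f g h) :=
  repWith_of_isPullback (pullback_map_diagonal_isPullback f g h) hd

theorem representable_mapDesc {X Y Z T : Sp S}
    (f : X ⟶ Z) (g : Y ⟶ Z) (h : Z ⟶ T) (hd : Representable (pullback.diagonal h)) :
    Representable (pullback.mapDesc f g h) :=
  representable_of_isPullback (pullback_map_diagonal_isPullback f g h) hd

/-- A factorisation through the graph. -/
theorem graph_fac {Z Y X : Sp S} (a : Z ⟶ Y) (b : Y ⟶ X) :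
    (inv (pullback.fst a (𝟙 Y)) ≫ pullback.mapDesc a (𝟙 Y) b) ≫ pullback.snd (a ≫ b) (𝟙 Y ≫ b) = a := by
  rw [Category.assoc, pullback.lift_snd]
  have h : pullback.snd a (𝟙 Y) = pullback.fst a (𝟙 Y) ≫ a := by
    simpa using (pullback.condition (f := a) (g := 𝟙 Y)).symm
  simp [h]

theorem repWith_of_comp_diagonal {P : MorphismProperty Scheme.{u}} [P.IsStableUnderBaseChange]
    [P.IsStableUnderComposition] [P.ContainsIdentities] {Z Y X : Sp S} (a : Z ⟶ Y) (b : Y ⟶ X)
    (hab : RepWith P (a ≫ b)) (hd : RepWith P (pullback.diagonal b)) : RepWith P a := by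
  haveI : P.RespectsIso := MorphismProperty.IsStableUnderBaseChange.respectsIso
  rw [← graph_fac a b]
  exact repWith_comp (repWith_comp (repWith_iso _) (repWith_mapDesc _ _ b hd))
    (repWith_of_isPullback (IsPullback.of_hasPullback (a ≫ b) (𝟙 Y ≫ b)) (by simpa using hab))

theorem representable_of_comp_diagonal {Z Y X : Sp S} (a : Z ⟶ Y) (b : Y ⟶ X)
    (hab : Representable (a ≫ b)) (hd : Representable (pullback.diagonal b)) : Representable a :=
  (repWith_of_comp_diagonal (P := ⊤) a b ⟨hab, fun _ _ _ _ _ _ => trivial⟩ ⟨hd, fun _ _ _ _ _ _ => trivial⟩).1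

theorem repWith_section {P : MorphismProperty Scheme.{u}} [P.IsStableUnderBaseChange]
    [P.IsStableUnderComposition] [P.ContainsIdentities] {X T : Sp S} {f : X ⟶ T} {s : T ⟶ X} (hs : s ≫ f = 𝟙 T)
    (hd : RepWith P (pullback.diagonal f)) : RepWith P s := by
  haveI : P.RespectsIso := MorphismProperty.IsStableUnderBaseChange.respectsIso
  exact repWith_of_comp_diagonal s f (hs ▸ repWith_iso (𝟙 T)) hd

end Groth.Agent.AlgSpDesc
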