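import Groth.Agent.AlgSpDesc.LqfDim
import Groth.Agent.AlgSpLoc.EtLocMore

/-!
Dimension invariants do not depend on the etale chart.
-/

set_option autoImplicit false
set_option linter.style.haveILetI false
set_option backward.isDefEq.respectTransparency false

universe u

open CategoryTheory CategoryTheory.Limits AlgebraicGeometry

namespace Groth.Agent.AlgSpDesc

open _root_.AlgSp Groth.Agent.AlgSpc

section Scheme

variable {X Y : Scheme.{u}} (f : X ⟶ Y) [Etale f]

theorem coheight_eq_of_etale (x : X) : Order.coheight (f x) = Order.coheight x := by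
  haveI : LocallyQuasiFinite f := AlgSpLoc.locallyQuasiFinite_of_etale f
  exact le_antisymm (coheight_apply_le_of_flat f x) (coheight_le_apply_of_lqf f x)

theorem localDim_eq_of_etale (x : X) : FlatMor.localDim Y (f x) = FlatMor.localDim X x := by
  haveI : LocallyQuasiFinite f := AlgSpLoc.locallyQuasiFinite_of_etale f
  refine le_antisymm (le_iInf fun ⟨(O : X.Opens), hx⟩ => ?_) (le_iInf fun ⟨(O : Y.Opens), hy⟩ => ?_)
  · have hop : IsOpenMap (O.ι ≫ f).base := (O.ι ≫ f).isOpenMap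
    refine (iInf_le _ ⟨⟨Set.range (O.ι ≫ f).base, hop.isOpen_range⟩, ⟨⟨x, hx⟩, rfl⟩⟩).trans ?_
    exact FpqcDescent.topologicalKrullDim_range_le_of_isOpenMap (O.ι ≫ f) hop
  · refine (iInf_le _ ⟨f ⁻¹ᵁ O, hy⟩).trans ?_
    exact topologicalKrullDim_le_of_lqf (f.resLE O (f ⁻¹ᵁ O) le_rfl)

end Scheme

variable {S : Scheme.{u}}

/-- An invariant of points which etale morphisms preserve has one value on all charts. -/
theorem hasAt_unique {α : Type*} (inv : ∀ (U : Scheme.{u}), ↥U → α)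
    (hinv : ∀ {U V : Scheme.{u}} (h : U ⟶ V) [Etale h] (u : U), inv V (h u) = inv U u)
    {X : Sp S} {U V : Over S} {a : (yon S).obj U ⟶ X} {b : (yon S).obj V ⟶ X}
    (ha : RepWith @Etale a) (hb : RepWith @Etale b) {u : ↥U.left} {v : ↥V.left}
    (e : Points.ofPt a u = Points.ofPt b v) : inv U.left u = inv V.left v := by
  obtain ⟨W, fst, snd, sq⟩ := exists_sq hb.1 a
  haveI : Etale snd.left := hb.2 _ _ _ sq
  haveI : Etale (pre fst).left := sq_etale sq ha
  obtain ⟨w, hw₁, hw₂⟩ := exists_point_of_sq sq (Points.ofScheme V v) u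
    (by rw [← Points.ofPt_eq_map_ofScheme]; exact e.symm)
  rw [ofPt_pre] at hw₁
  replace hw₁ : (pre fst).left w = v := by simpa using congrArg (Points.toScheme V) hw₁
  rw [← hw₁, ← hw₂, hinv, hinv]

theorem hasAt_iff_forall {α : Type*} (inv : ∀ (U : Scheme.{u}), ↥U → α)
    (hinv : ∀ {U V : Scheme.{u}} (h : U ⟶ V) [Etale h] (u : U), inv V (h u) = inv U u)
    {X : Sp S} (hX : IsAlgSpace X) (x : Points X) (d : α) :
    HasAt (fun U u => inv U u = d) X x ↔
      ∀ (U : Over S) (a : (yon S).obj U ⟶ X) (u : ↥U.left),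
        RepWith @Etale a → Points.ofPt a u = x → inv U.left u = d := by
  refine ⟨fun ⟨V, b, v, hb, hv, h⟩ U a u ha hu => (hasAt_unique inv hinv ha hb (hu.trans hv.symm)).trans h, fun h => ?_⟩
  obtain ⟨U, a, ha, has⟩ := hX.atlas
  obtain ⟨u, rfl⟩ := surjective_ofPt has x
  exact ⟨U, a, u, ha, rfl, h U a u ha rfl⟩

theorem hasAt_etale_iff {α : Type*} (inv : ∀ (U : Scheme.{u}), ↥U → α)
    (hinv : ∀ {U V : Scheme.{u}} (h : U ⟶ V) [Etale h] (u : U), inv V (h u) = inv U u)
    {X Y : Sp S} (hX : IsAlgSpace X) {f : X ⟶ Y} (hf : IsEtaleMor f) (x : Points X) (d : α) :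
    HasAt (fun U u => inv U u = d) X x ↔ HasAt (fun U u => inv U u = d) Y (Points.map f x) := by
  constructor
  · rintro ⟨U, a, u, ha, rfl, h⟩
    exact ⟨U, a ≫ f, u, hf a ha, (Points.map_ofPt a f u).symm, h⟩
  · rintro ⟨V, b, v, hb, hv, h⟩
    obtain ⟨U, a, ha, has⟩ := hX.atlas
    obtain ⟨u, rfl⟩ := surjective_ofPt has x
    exact ⟨U, a, u, ha, rfl, (hasAt_unique inv hinv (hf a ha) hb (by rw [← Points.map_ofPt]; exact hv.symm)).trans h⟩

theorem stalkDim_eq_of_etale {U V : Scheme.{u}} (h : U ⟶ V) [Etale h] (u : U) :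
    ringKrullDim ↥(V.presheaf.stalk (h u)) = ringKrullDim ↥(U.presheaf.stalk u) := by
  rw [ringKrullDim_stalk_eq_coheight, ringKrullDim_stalk_eq_coheight, coheight_eq_of_etale h u]

end Groth.Agent.AlgSpDesc
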