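import Groth.Agent.AlgSpDesc.FinFibre
import Groth.Agent.AlgSpDesc.OnePoint
import Groth.Agent.AlgSpc.DecentPoint
import Groth.Agent.AlgSpLoc.Cover

/-!
Morphisms from reduced spaces with image a point having a quasi-compact monomorphic representative.
-/

set_option autoImplicit false
set_option linter.style.haveILetI false
set_option backward.isDefEq.respectTransparency false

universe u

open CategoryTheory CategoryTheory.Limits AlgebraicGeometry

namespace Groth.Agent.AlgSpDesc

open _root_.AlgSp Groth.Agent.AlgSpc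

section Scheme

/-- A monomorphism from a reduced discrete scheme with isolated image points is a preimmersion. -/
theorem isPreimmersion_of_mono_discrete {V U : Scheme.{u}} (m : V ⟶ U) [Mono m] [IsReduced V]
    [DiscreteTopology ↥V] (h : ∀ v, ∃ O : Set U, IsOpen O ∧ m v ∈ O ∧ ∀ v', m v' ∈ O → v' = v) :
    IsPreimmersion m := by
  haveI : SurjectiveOnStalks m := by
    constructor
    intro v
    obtain ⟨K, _, i, hi, hiv⟩ := exists_field_open (X := V) (x := v) (isOpen_discrete _)
    haveI := hi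
    haveI : IsPreimmersion (i ≫ m) := isPreimmersion_of_mono_field _
    let z : ↥(Spec (CommRingCat.of K)) := IsLocalRing.closedPoint K
    have := (i ≫ m).stalkMap_surjective z
    rw [Scheme.Hom.stalkMap_comp] at this
    have h2 : Function.Bijective (i.stalkMap z) := ConcreteCategory.bijective_of_isIso _
    obtain rfl := hiv z
    intro y
    obtain ⟨x, hx⟩ := this (i.stalkMap z y)
    exact ⟨x, h2.1 hx⟩
  choose O hO hm huniq using h
  refine { stalkMap_surjective := m.stalkMap_surjective, isEmbedding := ⟨⟨?_⟩, m.injective⟩ }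
  refine le_antisymm m.continuous.le_induced fun s _ => isOpen_induced_iff.2
    ⟨⋃ v ∈ s, O v, isOpen_biUnion fun v _ => hO v, ?_⟩
  ext w
  simp only [Set.mem_preimage, Set.mem_iUnion]
  exact ⟨fun ⟨v, hv, hw⟩ => (huniq v w hw) ▸ hv, fun hw => ⟨w, hw, hm w⟩⟩

theorem exists_lift_of_preimmersion {V P U : Scheme.{u}} [IsReduced V] (h : V ⟶ U) (i : P ⟶ U)
    [IsPreimmersion i] (hr : ∀ v, h v ∈ Set.range i) : ∃ l : V ⟶ P, l ≫ i = h := by
  haveI : IsPreimmersion (pullback.fst h i) :=
    MorphismProperty.of_isPullback (P := @IsPreimmersion) (IsPullback.of_hasPullback h i).flip ‹_›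
  haveI : Surjective (pullback.fst h i) := ⟨fun v => by
    obtain ⟨w, hw⟩ := hr v
    obtain ⟨z, hz, -⟩ := Scheme.Pullback.exists_preimage_pullback (f := h) (g := i) v w hw.symm
    exact ⟨z, hz⟩⟩
  haveI : IsClosedImmersion (pullback.fst h i) := IsClosedImmersion.of_isPreimmersion _
    (by rw [(pullback.fst h i).surjective.range_eq]; exact isClosed_univ)
  haveI : IsIso (pullback.fst h i) := isIso_of_isClosedImmersion_of_surjective _
  exact ⟨inv (pullback.fst h i) ≫ pullback.snd h i, by rw [Category.assoc, ← pullback.condition]; simp⟩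

end Scheme

variable {S : Scheme.{u}}

theorem isolated_of_finite {X : Sp S} {x : Points X}
    (hx : ∀ (V : Over S) (b : (yon S).obj V ⟶ X), IsAffine V.left → RepWith @Etale b →
      (Points.ofPt b ⁻¹' {x}).Finite)
    {U : Over S} {a : (yon S).obj U ⟶ X} (ha : RepWith @Etale a) {u : ↥U.left} (hu : Points.ofPt a u = x) :
    ∃ O : Set U.left, IsOpen O ∧ u ∈ O ∧ ∀ u', Points.ofPt a u' = x → u' ∈ O → u' = u := by
  obtain ⟨A, hA, huA, -⟩ := exists_isAffineOpen_mem_and_subset (show u ∈ (⊤ : U.left.Opens) from trivial)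
  have hE := (finite_preimage_inter hx ha hA).sdiff (t := {u})
  refine ⟨(A : Set U.left) \ ⋃ v ∈ (Points.ofPt a ⁻¹' {x} ∩ (A : Set U.left)) \ {u}, closure {v},
    A.2.sdiff (hE.isClosed_biUnion fun _ _ => isClosed_closure), ⟨huA, ?_⟩, fun u' hu' hu'O => ?_⟩
  · intro h
    obtain ⟨v, hv, hvu⟩ := Set.mem_iUnion₂.1 h
    exact hv.2 (eq_of_specializes_of_finite hx ha hu hv.1.1 (specializes_iff_mem_closure.2 hvu)).symm
  · by_contra hne
    exact hu'O.2 (Set.mem_iUnion₂.2 ⟨u', ⟨⟨hu', hu'O.1⟩, hne⟩, subset_closure rfl⟩)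

theorem exists_factor_point {Y X : Sp S} (hYA : IsAlgSpace Y) (hX : IsAlgSpace X) (f : Y ⟶ X)
    (p : FieldPt X) [Mono p.toHom] (hq : RepWith @QuasiCompact p.toHom)
    (hY : EtaleLocally (fun U => IsReduced U) Y) (hf : ∀ y, Points.map f y = Points.mk p) :
    ∃ g : Y ⟶ (yon S).obj p.pt, g ≫ p.toHom = f := by
  have hx := finite_of_qc_point ⟨p, rfl, ‹Mono p.toHom›, hq⟩
  obtain ⟨U₀, a₀, ha₀, ha₀s, hU₀⟩ := hY
  haveI : IsReduced U₀.left := hU₀
  obtain ⟨U, b, hb, hbs⟩ := hX.atlas
  obtain ⟨V, fstV, sndV, sqV⟩ := exists_sq hb.1 (a₀ ≫ f)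
  haveI : Etale sndV.left := hb.2 _ _ _ sqV
  haveI : IsReduced V.left := SmoothReduced.isReduced_of_smooth_scheme sndV.left
  obtain ⟨P, fst, snd, sP⟩ := exists_sq hb.1 p.toHom
  haveI : Etale snd.left := hb.2 _ _ _ sP
  haveI := isReduced_of_etale_field (k := p.K) snd.left
  haveI := isLocallyArtinian_of_etale_field (k := p.K) snd.left
  haveI : Mono fst := sP.mono_fst_of_mono
  haveI : Mono ((yon S).map (pre fst)) := by rw [map_pre]; infer_instance
  haveI := mono_of_map (pre fst)
  have hP : ∀ z, Points.ofPt b ((pre fst).left z) = Points.mk p := fun z => by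
    have h₁ := ofPt_comp (pre fst) b z
    rw [map_pre, sP.w, ofPt_comp] at h₁
    exact h₁.symm.trans (Points.ofPt_toHom p _)
  haveI : IsPreimmersion (pre fst).left := isPreimmersion_of_mono_discrete _ fun v => by
    obtain ⟨O, hO, hvO, hu⟩ := isolated_of_finite hx hb (hP v)
    exact ⟨O, hO, hvO, fun v' hv' => (pre fst).left.injective (hu _ (hP v') hv')⟩
  obtain ⟨l, hl⟩ := exists_lift_of_preimmersion (pre fstV).left (pre fst).left fun v => by
    have hv : Points.ofPt b ((pre fstV).left v) = Points.mk p := by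
      have h₁ := ofPt_comp (pre fstV) b v
      rw [map_pre, sqV.w, ← Category.assoc, ← Points.map_ofPt, hf] at h₁
      exact h₁.symm
    obtain ⟨z, hz, -⟩ := exists_point_of_sq sP (Points.ofScheme U ((pre fstV).left v))
      (IsLocalRing.closedPoint p.K) (by rw [← Points.ofPt_eq_map_ofScheme, hv, Points.ofPt_toHom])
    rw [ofPt_pre] at hz
    exact ⟨z, by simpa using congrArg (Points.toScheme U) hz⟩
  let L : V ⟶ P := Over.homMk l (by rw [← Over.w (pre fst), reassoc_of% hl]; exact Over.w (pre fstV))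
  have hL : L ≫ pre fst = pre fstV := by ext : 1; exact hl
  have hg : (yon S).map (L ≫ snd) ≫ p.toHom = ((yon S).map sndV ≫ a₀) ≫ f := by
    rw [Functor.map_comp, Category.assoc, ← sP.w, ← Category.assoc, ← map_pre fst, ← Functor.map_comp, hL,
      map_pre, sqV.w, Category.assoc]
  haveI : Epi ((yon S).map sndV ≫ a₀) := AlgSpLoc.epi_of_repWith
    (repWith_comp ((repWith_yon_map_iff _ _).2 (hb.2 _ _ _ sqV)) ha₀)
    (repWith_comp ((repWith_yon_map_iff _ _).2 (hbs.2 _ _ _ sqV)) ha₀s)
  have sW := IsPullback.of_hasPullback f p.toHom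
  haveI : Mono (pullback.fst f p.toHom) := sW.mono_fst_of_mono
  haveI : Epi (pullback.fst f p.toHom) := epi_of_epi_fac (sW.lift_fst _ _ hg.symm)
  haveI : IsIso (pullback.fst f p.toHom) := isIso_of_mono_of_epi _
  exact ⟨inv (pullback.fst f p.toHom) ≫ pullback.snd f p.toHom,
    by rw [Category.assoc, ← pullback.condition, IsIso.inv_hom_id_assoc]⟩

end Groth.Agent.AlgSpDesc
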