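import Groth.Agent.AlgSpc.DecentNoeth
import Mathlib.AlgebraicGeometry.Limits

/-!
Fibre products of affine or quasi-compact schemes over separated or quasi-separated spaces.
-/

set_option autoImplicit false
set_option linter.style.haveILetI false
set_option backward.isDefEq.respectTransparency false

universe u

open CategoryTheory CategoryTheory.Limits AlgebraicGeometry

namespace Groth.Agent.AlgSpDesc

open _root_.AlgSp Groth.Agent.AlgSpc

variable {S : Scheme.{u}} {X : Sp S} {U V P : Over S} {a : (yon S).obj U ⟶ X} {b : (yon S).obj V ⟶ X}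
  {fst : P ⟶ U} {snd : P ⟶ V}

theorem exists_diag_base_change {Q : MorphismProperty Scheme.{u}} (hX : RepWith Q (diag X))
    (h : IsPullback ((yon S).map fst) ((yon S).map snd) a b) :
    ∃ l : P.left ⟶ pullback U.hom V.hom, l ≫ pullback.fst _ _ = fst.left ∧ l ≫ pullback.snd _ _ = snd.left ∧
      Q l := by
  let Q₀ : Over S := Over.mk (pullback.fst U.hom V.hom ≫ U.hom)
  let π₁ : Q₀ ⟶ U := Over.homMk (pullback.fst U.hom V.hom) rfl
  let π₂ : Q₀ ⟶ V := Over.homMk (pullback.snd U.hom V.hom) pullback.condition.symm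
  obtain ⟨l, hl₁, hl₂, sq⟩ := isPullback_diag_chart h (π₁ := π₁) (π₂ := π₂) (IsPullback.of_hasPullback U.hom V.hom)
  rw [pre_map] at hl₁
  exact ⟨l.left, congrArg CommaMorphism.left hl₁, congrArg CommaMorphism.left hl₂, hX.2 _ _ _ sq⟩

theorem compactSpace_fibreProd [QuasiSeparatedSpace ↥S] (hX : IsQuasiSeparatedSp X) [CompactSpace ↥U.left]
    [CompactSpace ↥V.left] (h : IsPullback ((yon S).map fst) ((yon S).map snd) a b) : CompactSpace ↥P.left := by
  obtain ⟨l, -, -, hl⟩ := exists_diag_base_change hX h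
  haveI := hl
  haveI : QuasiCompact V.hom := quasiCompact_of_compactSpace V.hom
  haveI : CompactSpace ↥(pullback U.hom V.hom) := inferInstance
  exact QuasiCompact.compactSpace_of_compactSpace l

/-- In a pushout of rings the two maps generate. -/
theorem surjective_productMap_of_isPushout {A B C R : CommRingCat.{u}} {f : R ⟶ A} {g : R ⟶ B} {i : A ⟶ C}
    {j : B ⟶ C} (h : IsPushout f g i j) :
    Function.Surjective (Algebra.TensorProduct.productMap i.hom.toIntAlgHom j.hom.toIntAlgHom) := by
  let m := (Algebra.TensorProduct.productMap i.hom.toIntAlgHom j.hom.toIntAlgHom).toRingHom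
  let C' : CommRingCat.{u} := CommRingCat.of m.range
  let ι : C' ⟶ C := CommRingCat.ofHom m.range.subtype
  have hi : ∀ x, i.hom x ∈ m.range := fun x => ⟨TensorProduct.tmul ℤ x 1, by simp [m]⟩
  have hj : ∀ x, j.hom x ∈ m.range := fun x => ⟨TensorProduct.tmul ℤ 1 x, by simp [m]⟩
  let i' : A ⟶ C' := CommRingCat.ofHom (i.hom.codRestrict m.range hi)
  let j' : B ⟶ C' := CommRingCat.ofHom (j.hom.codRestrict m.range hj)
  have w : f ≫ i' = g ≫ j' := by
    ext x
    exact congrArg (fun k => k.hom x) h.w
  have e : h.desc i' j' w ≫ ι = 𝟙 C := by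
    apply h.hom_ext
    · rw [h.inl_desc_assoc, Category.comp_id]; rfl
    · rw [h.inr_desc_assoc, Category.comp_id]; rfl
  intro y
  have hy : ((h.desc i' j' w).hom y).1 = y := congrArg (fun k => k.hom y) e
  obtain ⟨t, ht⟩ := ((h.desc i' j' w).hom y).2
  exact ⟨t, ht.trans hy⟩

theorem affine_fibreProd [S.IsSeparated] (hX : IsSeparatedSp X) [IsAffine U.left]
    [IsAffine V.left] (h : IsPullback ((yon S).map fst) ((yon S).map snd) a b) :
    IsAffine P.left ∧ Function.Surjective
      (Algebra.TensorProduct.productMap fst.left.appTop.hom.toIntAlgHom snd.left.appTop.hom.toIntAlgHom) := by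
  obtain ⟨l, hl₁, hl₂, hl⟩ := exists_diag_base_change hX h
  haveI := hl
  let t := terminal.from S
  let W := pullback (U.hom ≫ t) (V.hom ≫ t)
  let n : P.left ⟶ W := l ≫ pullback.mapDesc U.hom V.hom t
  haveI : IsClosedImmersion n := inferInstance
  haveI : IsAffine (⊤_ Scheme.{u}) :=
    .of_isIso (specULiftZIsTerminal.uniqueUpToIso terminalIsTerminal).inv
  have sW : IsPullback (pullback.fst (U.hom ≫ t) (V.hom ≫ t)) (pullback.snd _ _) (U.hom ≫ t) (V.hom ≫ t) :=
    IsPullback.of_hasPullback _ _
  haveI : IsAffine W := .of_isPullback sW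
  haveI : IsAffine P.left := isAffine_of_isAffineHom n
  refine ⟨inferInstance, fun y => ?_⟩
  obtain ⟨w, rfl⟩ := (IsClosedImmersion.isAffine_surjective_of_isAffine n).2 y
  obtain ⟨q, rfl⟩ := surjective_productMap_of_isPushout (isPushout_appTop_of_isPullback sW) w
  refine ⟨q, ?_⟩
  have e₁ : (pullback.fst (U.hom ≫ t) (V.hom ≫ t)).appTop ≫ n.appTop = fst.left.appTop := by
    rw [← Scheme.Hom.comp_appTop]; congr 1; simp [n, hl₁]
  have e₂ : (pullback.snd (U.hom ≫ t) (V.hom ≫ t)).appTop ≫ n.appTop = snd.left.appTop := by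
    rw [← Scheme.Hom.comp_appTop]; congr 1; simp [n, hl₂]
  induction q using TensorProduct.induction_on with
  | zero => simp
  | add p q hp hq => simp [map_add, hp, hq]
  | tmul p q =>
    simp only [Algebra.TensorProduct.productMap_apply_tmul, map_mul]
    exact congrArg₂ (· * ·) (congrArg (fun k => k.hom p) e₁).symm (congrArg (fun k => k.hom q) e₂).symm

end Groth.Agent.AlgSpDesc
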