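import Groth.Agent.AlgSpc.Decent2
import Groth.Agent.AlgSpc.LocP

/-!
Points with finite fibres in etale charts.
-/

set_option autoImplicit false
set_option linter.style.haveILetI false
set_option backward.isDefEq.respectTransparency false

universe u

open CategoryTheory CategoryTheory.Limits AlgebraicGeometry

namespace Groth.Agent.AlgSpDesc

open _root_.AlgSp Groth.Agent.AlgSpc

variable {S : Scheme.{u}}

/-- Finiteness of the fibre over a point given by a quasi-compact field valued point. -/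
theorem finite_preimage_of_qc {X : Sp S} {U : Over S} [CompactSpace ↥U.left]
    {a : (yon S).obj U ⟶ X} (ha : RepWith @Etale a) (p : FieldPt X) (hq : RepWith @QuasiCompact p.toHom) :
    (Points.ofPt a ⁻¹' {Points.mk p}).Finite := by
  obtain ⟨V, fst, snd, sq⟩ := exists_sq ha.1 p.toHom
  haveI := compactSpace_fibre_of_repWith_qc a p hq (Points.ofPt_toHom p _) sq
  haveI := (finite_of_compact_fibre ha sq).1
  refine (Set.finite_range (pre fst).left).subset fun u hu => ?_
  obtain ⟨v, hv, -⟩ := exists_point_of_sq sq (Points.ofScheme U u) (IsLocalRing.closedPoint p.K)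
    (by rw [← Points.ofPt_eq_map_ofScheme, Points.ofPt_toHom]; exact hu)
  refine ⟨v, ?_⟩
  have := congrArg (Points.toScheme U) hv
  rwa [← map_pre fst, Points.toScheme_ofPt, Points.toScheme_ofScheme] at this

/-- Finiteness of fibres in affine charts, restricted to affine opens of any chart. -/
theorem finite_preimage_inter {X : Sp S} {x : Points X}
    (hx : ∀ (V : Over S) (b : (yon S).obj V ⟶ X), IsAffine V.left → RepWith @Etale b →
      (Points.ofPt b ⁻¹' {x}).Finite)
    {U : Over S} {a : (yon S).obj U ⟶ X} (ha : RepWith @Etale a) {A : U.left.Opens} (hA : IsAffineOpen A) :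
    (Points.ofPt a ⁻¹' {x} ∩ (A : Set U.left)).Finite := by
  let U' : Over S := Over.mk (A.ι ≫ U.hom)
  let j : U' ⟶ U := Over.homMk A.ι rfl
  have h := hx U' ((yon S).map j ≫ a) hA
    (repWith_comp ((repWith_yon_map_iff _ j).2 (inferInstanceAs (Etale A.ι))) ha)
  refine (h.image j.left).subset ?_
  rintro u ⟨hu, huA⟩
  refine ⟨(⟨u, huA⟩ : (A : Scheme.{u})), ?_, rfl⟩
  change Points.ofPt ((yon S).map j ≫ a) _ = x
  rw [ofPt_comp]
  exact hu

/-- No specialisations in a fibre which is finite on affine charts. -/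
theorem eq_of_specializes_of_finite {X : Sp S} {x : Points X}
    (hx : ∀ (V : Over S) (b : (yon S).obj V ⟶ X), IsAffine V.left → RepWith @Etale b →
      (Points.ofPt b ⁻¹' {x}).Finite)
    {U : Over S} {a : (yon S).obj U ⟶ X} (ha : RepWith @Etale a) {u u' : ↥U.left}
    (hu : Points.ofPt a u = x) (hu' : Points.ofPt a u' = x) (hs : u' ⤳ u) : u = u' := by
  obtain ⟨W, fst, snd, sq⟩ := exists_sq ha.1 a
  haveI : Etale (pre fst).left := sq_etale sq ha
  haveI : Etale snd.left := ha.2 _ _ _ sq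
  haveI : LocallyQuasiFinite (pre fst).left := AlgSpLoc.locallyQuasiFinite_of_etale _
  obtain ⟨A, hA, huA, -⟩ := exists_isAffineOpen_mem_and_subset (show u ∈ (⊤ : U.left.Opens) from trivial)
  by_contra hne
  let E : Set U.left := Points.ofPt a ⁻¹' {x} ∩ (A : Set U.left)
  have hE : E.Finite := finite_preimage_inter hx ha hA
  let M : Set U.left := {v' | v' ∈ E ∧ ∃ v ∈ E, v' ⤳ v ∧ v ≠ v'}
  have hu'E : u' ∈ E := ⟨hu', hs.mem_open A.2 huA⟩
  have hM : M.Nonempty := ⟨u', hu'E, u, ⟨hu, huA⟩, hs, hne⟩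
  obtain ⟨v', ⟨hv'E, v, hvE, hvv', hvne⟩, hmin⟩ :=
    Set.exists_min_image M (fun z => ({w | w ∈ E ∧ w ⤳ z} : Set U.left).ncard)
      (hE.subset fun z hz => hz.1) hM
  obtain ⟨r, hr₁, hr₂⟩ := exists_point_of_sq sq (Points.ofScheme U v') v
    (by rw [← Points.ofPt_eq_map_ofScheme]; exact hv'E.1.trans hvE.1.symm)
  have hr₁' : (pre fst).left r = v' := by
    have := congrArg (Points.toScheme U) hr₁
    rwa [← map_pre fst, Points.toScheme_ofPt, Points.toScheme_ofScheme] at this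
  obtain ⟨r', hr', hr'₂⟩ := Flat.generalizingMap snd.left (hr₂.symm ▸ hvv' : v' ⤳ snd.left r)
  let v'' := (pre fst).left r'
  have hs'' : v'' ⤳ v' := hr₁' ▸ hr'.map (pre fst).left.continuous
  have hne' : v'' ≠ v' := by
    intro h
    have := ((pre fst).left.isDiscrete_preimage_singleton v').eq_of_specializes hr' h hr₁'
    rw [this, hr₂] at hr'₂
    exact hvne hr'₂
  have hv''E : v'' ∈ E := by
    refine ⟨?_, hs''.mem_open A.2 hv'E.2⟩
    have h₁ := ofPt_comp (pre fst) a r'
    rw [map_pre, sq.w, ofPt_comp, hr'₂] at h₁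
    exact h₁.symm.trans hv'E.1
  refine absurd (hmin v'' ⟨hv''E, v', hv'E, hs'', hne'.symm⟩) (not_le.2 ?_)
  refine Set.ncard_lt_ncard ⟨fun w hw => ⟨hw.1, hw.2.trans hs''⟩, fun h => ?_⟩
    (hE.subset fun w hw => hw.1)
  exact hne' (hs''.antisymm (h (show v' ∈ {w | w ∈ E ∧ w ⤳ v'} from ⟨hv'E, specializes_rfl⟩)).2).eq

/-- Generalisations with finite fibres lift to etale charts. -/
theorem exists_lift_of_finite {X : Sp S} {y : Points X}
    (hy : ∀ (V : Over S) (b : (yon S).obj V ⟶ X), IsAffine V.left → RepWith @Etale b →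
      (Points.ofPt b ⁻¹' {y}).Finite)
    {U : Over S} {a : (yon S).obj U ⟶ X} (ha : RepWith @Etale a) {u : ↥U.left}
    (hs : y ⤳ Points.ofPt a u) : ∃ u', u' ⤳ u ∧ Points.ofPt a u' = y := by
  obtain ⟨A, hA, huA, -⟩ := exists_isAffineOpen_mem_and_subset (show u ∈ (⊤ : U.left.Opens) from trivial)
  have hE := finite_preimage_inter hy ha hA
  by_contra! hne
  have : ∀ v ∈ Points.ofPt a ⁻¹' {y} ∩ (A : Set U.left), ∃ O : Set U.left, IsOpen O ∧ u ∈ O ∧ v ∉ O := by
    intro v hv
    simpa [specializes_iff_forall_open] using fun h => hne v h hv.1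
  choose! O hO₁ hO₂ hO₃ using this
  let O' : Set U.left := (A : Set U.left) ∩ ⋂ v ∈ Points.ofPt a ⁻¹' {y} ∩ (A : Set U.left), O v
  have hO' : IsOpen O' := A.2.inter (hE.isOpen_biInter hO₁)
  obtain ⟨v, hv, hvy⟩ := hs.mem_open (isOpenMap_ofPt ha O' hO')
    ⟨u, ⟨huA, Set.mem_iInter₂.2 hO₂⟩, rfl⟩
  exact hO₃ v ⟨hvy, hv.1⟩ (Set.mem_iInter₂.1 hv.2 v ⟨hvy, hv.1⟩)

theorem finite_of_qc_point {X : Sp S} {x : Points X}
    (hx : ∃ p : FieldPt X, Points.mk p = x ∧ Mono p.toHom ∧ RepWith @QuasiCompact p.toHom)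
    (V : Over S) (b : (yon S).obj V ⟶ X) (hV : IsAffine V.left) (hb : RepWith @Etale b) :
    (Points.ofPt b ⁻¹' {x}).Finite := by
  haveI := hV
  obtain ⟨p, rfl, -, hq⟩ := hx
  exact finite_preimage_of_qc hb p hq

/-- Generalisations lift along flat morphisms at points with quasi-compact representatives. -/
theorem exists_generalization_of_flat {Y X : Sp S} (hY : IsAlgSpace Y) (hX : IsAlgSpace X) {f : Y ⟶ X}
    (hf : LocP @Flat f) {x' : Points X}
    (hx' : ∀ (V : Over S) (b : (yon S).obj V ⟶ X), IsAffine V.left → RepWith @Etale b →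
      (Points.ofPt b ⁻¹' {x'}).Finite)
    (y : Points Y) (h : x' ⤳ Points.map f y) : ∃ y', y' ⤳ y ∧ Points.map f y' = x' := by
  obtain ⟨V, U, a, b, k, ha, has, hb, -, w⟩ := exists_chart hY hX f
  obtain ⟨v, rfl⟩ := surjective_ofPt has y
  haveI : Flat k.left := hf a b k ha hb w
  have e : ∀ v, Points.map f (Points.ofPt a v) = Points.ofPt b (k.left v) := fun v => by
    rw [Points.map_ofPt, w, ofPt_comp]
  rw [e] at h
  obtain ⟨u', hu', hu'x⟩ := exists_lift_of_finite hx' hb h
  obtain ⟨v', hv', hv'u⟩ := Flat.generalizingMap k.left hu'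
  exact ⟨Points.ofPt a v', hv'.map (Points.continuous_ofPt a), by rw [e, hv'u, hu'x]⟩

/-- Finite fibres on a covering family give finite fibres on all affine charts. -/
theorem finite_preimage_of_family {X : Sp S} {x : Points X} {ι : Type u} (U : ι → Over S)
    (φ : ∀ i, (yon S).obj (U i) ⟶ X) (hφ : ∀ i, RepWith @Etale (φ i))
    (hsurj : ∀ y : Points X, ∃ (i : ι) (v : ↥(U i).left), Points.ofPt (φ i) v = y)
    (hfin : ∀ i, (Points.ofPt (φ i) ⁻¹' {x}).Finite)
    {V : Over S} [IsAffine V.left] (ψ : (yon S).obj V ⟶ X) (hψ : RepWith @Etale ψ) :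
    (Points.ofPt ψ ⁻¹' {x}).Finite := by
  have key : ∀ v : ↥V.left, ∃ O : Set V.left, IsOpen O ∧ v ∈ O ∧ (Points.ofPt ψ ⁻¹' {x} ∩ O).Finite := by
    intro v
    obtain ⟨i, u, hu⟩ := hsurj (Points.ofPt ψ v)
    obtain ⟨W, fst, snd, sq⟩ := exists_sq (hφ i).1 ψ
    obtain ⟨w, hw₁, hw₂⟩ := exists_point_of_sq sq (Points.ofScheme (U i) u) v
      (by rw [← Points.ofPt_eq_map_ofScheme]; exact hu)
    haveI : Etale snd.left := (hφ i).2 _ _ _ sq
    haveI : Etale (pre fst).left := sq_etale sq hψ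
    haveI : LocallyQuasiFinite (pre fst).left := AlgSpLoc.locallyQuasiFinite_of_etale _
    obtain ⟨A, hA, huA, -⟩ := exists_isAffineOpen_mem_and_subset
      (show (pre fst).left w ∈ (⊤ : (U i).left.Opens) from trivial)
    obtain ⟨O, hO, hwO, hOA⟩ := exists_isAffineOpen_mem_and_subset
      (show w ∈ (pre fst).left ⁻¹ᵁ A from huA)
    refine ⟨snd.left '' O, snd.left.isOpenMap _ O.2, ⟨w, hwO, hw₂⟩, ?_⟩
    haveI : IsAffine (O : W.left.Opens).toScheme := hO
    haveI : IsAffine (A : (U i).left.Opens).toScheme := hA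
    haveI : LocallyQuasiFinite ((pre fst).left.resLE A O hOA) := inferInstance
    haveI : QuasiCompact ((pre fst).left.resLE A O hOA) :=
      (quasiCompact_iff_compactSpace _).2 inferInstance
    have hA' : (A.ι ⁻¹' (Points.ofPt (φ i) ⁻¹' {x})).Finite :=
      (hfin i).preimage A.ι.isOpenEmbedding.injective.injOn
    refine ((((pre fst).left.resLE A O hOA).finite_preimage hA').image fun z => snd.left (O.ι z)).subset ?_
    rintro _ ⟨hz, z, hzO, rfl⟩
    refine ⟨⟨z, hzO⟩, ?_, rfl⟩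
    simp only [Set.mem_preimage, Set.mem_singleton_iff]
    have e : A.ι ((pre fst).left.resLE A O hOA ⟨z, hzO⟩) = (pre fst).left z := by
      rw [← Scheme.Hom.comp_apply, Scheme.Hom.resLE_comp_ι]; rfl
    rw [e, ← ofPt_comp, map_pre, sq.w, ofPt_comp]
    exact hz
  choose O hO hvO hfO using key
  obtain ⟨t, ht⟩ := isCompact_univ.elim_finite_subcover O hO fun v _ => Set.mem_iUnion.2 ⟨v, hvO v⟩
  refine (t.finite_toSet.biUnion fun v _ => hfO v).subset fun v hv => ?_
  obtain ⟨v₀, h₀, h₁⟩ := Set.mem_iUnion₂.1 (ht (Set.mem_univ v))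
  exact Set.mem_iUnion₂.2 ⟨v₀, h₀, hv, h₁⟩

end Groth.Agent.AlgSpDesc
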