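import Groth.Agent.AlgSpDesc.ExistLift
import Mathlib.AlgebraicGeometry.Morphisms.FormallyUnramified
import Mathlib.RingTheory.Unramified.Field

/-!
In the existence criterion finite separable extensions suffice.
-/

set_option autoImplicit false
set_option linter.style.haveILetI false
set_option backward.isDefEq.respectTransparency false

universe u

open CategoryTheory CategoryTheory.Limits AlgebraicGeometry IsLocalRing

namespace Groth.Agent.AlgSpDesc

open _root_.AlgSp Groth.Agent.AlgSpc

/-- Residue fields of schemes etale over a field are finite separable. -/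
theorem finite_separable_residue {k : Type u} [Field k] {V : Scheme.{u}} (g : V ⟶ Spec (CommRingCat.of k))
    [Etale g] (v : V) (ψ : k →+* V.residueField v)
    (hψ : Spec.map (CommRingCat.ofHom ψ) = V.fromSpecResidueField v ≫ g) :
    (letI := ψ.toAlgebra; Module.Finite k (V.residueField v) ∧ Algebra.IsSeparable k (V.residueField v)) := by
  haveI : IsLocallyArtinian V := isLocallyArtinian_of_etale_field (k := k) g
  haveI : IsClosedImmersion (V.fromSpecResidueField v) :=
    (isClosed_singleton_iff_isClosedImmersion (x := v)).1 (isClosed_discrete _)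
  have h₁ : FormallyUnramified (Spec.map (CommRingCat.ofHom ψ)) := by
    rw [hψ]
    haveI : FormallyUnramified (V.fromSpecResidueField v) := inferInstance
    exact MorphismProperty.comp_mem _ _ _ ‹_› (inferInstance : FormallyUnramified g)
  have h₂ : LocallyOfFiniteType (Spec.map (CommRingCat.ofHom ψ)) := by rw [hψ]; infer_instance
  rw [HasRingHomProperty.Spec_iff (P := @FormallyUnramified)] at h₁
  rw [HasRingHomProperty.Spec_iff (P := @LocallyOfFiniteType)] at h₂
  letI := ψ.toAlgebra
  haveI : Algebra.FormallyUnramified k (V.residueField v) := h₁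
  haveI : Algebra.FiniteType k (V.residueField v) := h₂
  exact ⟨Algebra.FormallyUnramified.finite_of_free k (V.residueField v),
    Algebra.FormallyUnramified.isSeparable k (V.residueField v)⟩

theorem exists_finSep_domExt {S : Scheme.{u}} {X Y : Sp S} (hX : IsAlgSpace X) (hY : IsAlgSpace Y) {f : X ⟶ Y}
    (hf : ExistVC f) (sq : ValSq f) :
    ∃ e : sq.DomExt, (letI := e.ψ.toAlgebra; Module.Finite sq.K e.K' ∧ Algebra.IsSeparable sq.K e.K') ∧
      e.HasLift := by
  obtain ⟨e, l, hl₁, hl₂⟩ := hf sq
  haveI := e.isLocalHom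
  have sP := IsPullback.of_hasPullback f sq.bot
  have hP := isAlgSpace_of_isPullback hX hY (IsAlgSpace.yon_obj sq.ptA) sP
  let p := pullback.snd f sq.bot
  let pA : e.ptA' ⟶ sq.ptA := Over.homMk (Spec.map (CommRingCat.ofHom e.φ)) rfl
  let jA : e.ptK' ⟶ e.ptA' := Over.homMk (Spec.map (CommRingCat.ofHom (algebraMap e.A' e.K'))) rfl
  let jψ : e.ptK' ⟶ sq.ptK := Over.homMk (Spec.map (CommRingCat.ofHom e.ψ)) (by
    change Spec.map _ ≫ Spec.map _ ≫ _ = Spec.map _ ≫ Spec.map _ ≫ _
    rw [← Spec.map_comp_assoc, ← Spec.map_comp_assoc, ← CommRingCat.ofHom_comp,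
      ← CommRingCat.ofHom_comp, e.comm])
  change (yon S).map jA ≫ l = (yon S).map jψ ≫ sq.top at hl₁
  change l ≫ f = (yon S).map pA ≫ sq.bot at hl₂
  let l' := pullback.lift l ((yon S).map pA) hl₂
  let top' := pullback.lift sq.top ((yon S).map sq.j) sq.comm
  have hjl : (yon S).map jA ≫ l' = (yon S).map jψ ≫ top' := by
    apply pullback.hom_ext
    · simp only [l', top', Category.assoc, pullback.lift_fst]; exact hl₁
    · simp only [l', top', Category.assoc, pullback.lift_snd, ← Functor.map_comp]
      congr 1
      ext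
      change Spec.map _ ≫ Spec.map _ = Spec.map _ ≫ Spec.map _
      rw [← Spec.map_comp, ← Spec.map_comp, ← CommRingCat.ofHom_comp, ← CommRingCat.ofHom_comp, e.comm]
  obtain ⟨U, a, ha, has⟩ := hP.atlas
  obtain ⟨u', hu'⟩ := surjective_ofPt has (Points.ofPt l' (closedPoint e.A'))
  -- a generization of `u'` over the generic point
  obtain ⟨W, wU, wA, sW⟩ := exists_sq ha.1 l'
  haveI : Etale wA.left := ha.2 _ _ _ sW
  obtain ⟨w', hw'₁, hw'₂⟩ := exists_point_of_sq sW (Points.ofScheme U u') (closedPoint e.A')
    (by rw [← Points.ofPt_eq_map_ofScheme]; exact hu')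
  have hη : jA.left (closedPoint e.K') ⤳ wA.left w' := by
    rw [hw'₂]; exact IsLocalRing.specializes_closedPoint _
  obtain ⟨w, hw, hwA⟩ := Flat.generalizingMap wA.left hη
  obtain ⟨V, fst, snd, sV⟩ := exists_sq ha.1 top'
  haveI : Etale snd.left := ha.2 _ _ _ sV
  let u := (pre wU).left w
  have hu : u ⤳ u' := by
    rw [ofPt_pre] at hw'₁
    rw [← (Points.schemeEquiv U).injective hw'₁]
    exact hw.map (pre wU).left.continuous
  have hau : Points.map a (Points.ofScheme U u) = Points.ofPt top' (closedPoint sq.K) := by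
    rw [← Points.ofPt_eq_map_ofScheme, ← ofPt_comp, map_pre, sW.w, ofPt_comp, hwA, ← ofPt_comp, hjl, ofPt_comp]
    exact congrArg (Points.ofPt top') (@Subsingleton.elim (PrimeSpectrum sq.K) _ _ _)
  obtain ⟨v, hv, -⟩ := exists_point_of_sq sV (Points.ofScheme U u) (closedPoint sq.K) hau
  rw [ofPt_pre] at hv
  have hvu : (pre fst).left v = u := (Points.schemeEquiv U).injective hv
  let ψ₀ : CommRingCat.of sq.K ⟶ V.left.residueField v :=
    Spec.preimage (V.left.fromSpecResidueField v ≫ snd.left)
  let iV : extPt sq ψ₀.hom ⟶ V := Over.homMk (V.left.fromSpecResidueField v) (by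
    change _ = Spec.map ψ₀ ≫ sq.ptK.hom
    rw [Spec.map_preimage, Category.assoc, Over.w snd])
  have hiV : iV ≫ snd = extHom sq ψ₀.hom := by ext; exact (Spec.map_preimage _).symm
  let g : U ⟶ sq.ptA := pre (a ≫ p)
  have hg : g.left u' = closedPoint sq.A := by
    refine (Points.schemeEquiv sq.ptA).injective ?_
    change Points.ofScheme sq.ptA (g.left u') = _
    rw [← ofPt_pre, ← Points.map_ofPt, hu', Points.map_ofPt, pullback.lift_snd, ofPt_pre, pre_map]
    exact congrArg (Points.ofScheme sq.ptA) (IsLocalRing.comap_closedPoint e.φ)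
  obtain ⟨A', φ, hc, hlc, h⟩ := exists_domExt_of_chart sq (a ≫ pullback.fst f sq.bot) g
    (by rw [Category.assoc, pullback.condition, map_pre, Category.assoc])
    ψ₀.hom (iV ≫ pre fst)
    (by
      refine (yon S).map_injective ?_
      rw [Category.assoc, Functor.map_comp, Functor.map_comp, map_pre, map_pre, ← Category.assoc fst, sV.w,
        Category.assoc, pullback.lift_snd, ← Functor.map_comp, ← Functor.map_comp, ← Category.assoc, hiV])
    (by
      rw [Functor.map_comp, map_pre, Category.assoc, ← Category.assoc fst, sV.w, Category.assoc,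
        pullback.lift_fst, ← Functor.map_comp_assoc, hiV])
    u' hg
    (by
      rw [Over.comp_left, Scheme.Hom.comp_apply,
        show iV.left (closedPoint (V.left.residueField v)) = v from Scheme.fromSpecResidueField_apply v _, hvu]
      exact hu)
  exact ⟨_, finite_separable_residue (k := sq.K) snd.left v ψ₀.hom (Spec.map_preimage _), h⟩

end Groth.Agent.AlgSpDesc
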