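import Groth.Agent.AlgSpDesc.ResTrdeg
import Groth.Agent.AlgSpDesc.DimInvariant
import Groth.Agent.AlgStB.LocQApps
import Groth.Agent.FibreDimChart.Smooth
import Groth.Agent.DimFormula.Scheme
import Groth.Agent.FlatLocalDepth.FibreStalk
import Groth.Agent.DimTheory.IrrFibres
import Mathlib.RingTheory.Ideal.KrullsHeightTheorem

/-!
The local dimension of the source of a flat morphism of constant relative dimension.
-/

set_option autoImplicit false
set_option linter.style.haveILetI false
set_option backward.isDefEq.respectTransparency false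

universe u

open CategoryTheory CategoryTheory.Limits AlgebraicGeometry IsLocalRing

namespace Groth.Agent.AlgSpDesc

theorem ringKrullDim_eq_add_of_flat {A B : Type u} [CommRing A] [CommRing B] [IsLocalRing A] [IsLocalRing B]
    [IsNoetherianRing A] [IsNoetherianRing B] (φ : A →+* B) [IsLocalHom φ] (hφ : φ.Flat) :
    ringKrullDim B = ringKrullDim A + ringKrullDim (B ⧸ (maximalIdeal A).map φ) := by
  letI := φ.toAlgebra
  haveI : Module.Flat A B := hφ
  haveI : (maximalIdeal B).LiesOver (maximalIdeal A) := ⟨(maximalIdeal_comap φ).symm⟩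
  have h := Ideal.height_eq_height_add_of_liesOver_of_hasGoingDown (maximalIdeal A) (maximalIdeal B)
  haveI : Nontrivial (B ⧸ (maximalIdeal A).map φ) :=
    Ideal.Quotient.nontrivial_iff.2 fun e =>
      (maximalIdeal.isMaximal B).ne_top (top_unique (e ▸ map_maximalIdeal_le φ))
  haveI : IsLocalRing (B ⧸ (maximalIdeal A).map φ) :=
    IsLocalRing.of_surjective' _ Ideal.Quotient.mk_surjective
  have hm : (maximalIdeal B).map (Ideal.Quotient.mk ((maximalIdeal A).map φ)) = maximalIdeal _ :=
    IsLocalRing.eq_maximalIdeal ((Ideal.map_eq_top_or_isMaximal_of_surjective _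
      Ideal.Quotient.mk_surjective (maximalIdeal.isMaximal B)).resolve_left fun e => by
        have := congrArg (Ideal.comap (Ideal.Quotient.mk ((maximalIdeal A).map φ))) e
        rw [Ideal.comap_map_of_surjective' _ Ideal.Quotient.mk_surjective, Ideal.mk_ker,
          sup_eq_left.2 (map_maximalIdeal_le φ), Ideal.comap_top] at this
        exact (maximalIdeal.isMaximal B).ne_top this)
  rw [show algebraMap A B = φ from rfl, hm] at h
  rw [← maximalIdeal_height_eq_ringKrullDim, ← maximalIdeal_height_eq_ringKrullDim,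
    ← maximalIdeal_height_eq_ringKrullDim, h, WithBot.coe_add]

variable {X Y : Scheme.{u}}

theorem stalkDim_eq_add [IsLocallyNoetherian X] [IsLocallyNoetherian Y] (f : X ⟶ Y) [Flat f] (x : X) :
    ringKrullDim ↥(X.presheaf.stalk x) = ringKrullDim ↥(Y.presheaf.stalk (f x)) +
      ringKrullDim ↥((f.fiber (f x)).presheaf.stalk (f.asFiber x)) := by
  obtain ⟨e⟩ := FlatLocalDepth.nonempty_asFiber_stalk_equiv f x
  rw [← ringKrullDim_eq_of_ringEquiv e]
  exact ringKrullDim_eq_add_of_flat _ (Flat.stalkMap f x)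

theorem stalkDim_add_resTrdeg [IsLocallyNoetherian X] [IsLocallyNoetherian Y] (f : X ⟶ Y) [Flat f]
    [LocallyOfFiniteType f] (x : X) :
    ringKrullDim ↥(X.presheaf.stalk x) + ((Cardinal.toENat (Dual3.resTrdeg f x) : ℕ∞) : WithBot ℕ∞) =
      ringKrullDim ↥(Y.presheaf.stalk (f x)) + FlatMor.fibreDimAt f x := by
  rw [stalkDim_eq_add f x, fibreDimAt_eq_stalk_add_resTrdeg f x, add_assoc]

theorem topologicalKrullDim_opens_eq (U : X.Opens) :
    topologicalKrullDim ↥U = ⨆ x : ↥U, ringKrullDim ↥(X.presheaf.stalk x.1) :=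
  (DimFormula.topologicalKrullDim_eq_iSup_stalk (U : Scheme.{u})).trans
    (iSup_congr fun x => (stalkDim_eq_of_etale U.ι x).symm)

theorem localDim_eq_add_of_flat [IsLocallyNoetherian X] [IsLocallyNoetherian Y] (f : X ⟶ Y) [Flat f]
    [LocallyOfFiniteType f] (d : ℕ) (hd : ∀ x, FlatMor.fibreDimAt f x = (d : WithBot ℕ∞)) (x : X) :
    FlatMor.localDim X x = FlatMor.localDim Y (f x) + (d : WithBot ℕ∞) := by
  refine le_antisymm ?_ ?_
  · obtain ⟨V, hy, hV⟩ := TopDimLib.exists_localDim_eq (f x)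
    let V' : Y.Opens := V
    refine (iInf_le _ (⟨f ⁻¹ᵁ V', hy⟩ : {O : TopologicalSpace.Opens X // x ∈ O})).trans ?_
    change topologicalKrullDim ↥(f ⁻¹ᵁ V') ≤ _
    rw [← hV]
    change _ ≤ topologicalKrullDim ↥V' + _
    rw [topologicalKrullDim_opens_eq]
    refine iSup_le fun a => ?_
    calc ringKrullDim ↥(X.presheaf.stalk a.1)
        ≤ ringKrullDim ↥(X.presheaf.stalk a.1) + ((Cardinal.toENat (Dual3.resTrdeg f a.1) : ℕ∞) : WithBot ℕ∞) :=
          le_add_of_nonneg_right (WithBot.coe_le_coe.2 zero_le)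
      _ = ringKrullDim ↥(Y.presheaf.stalk (f a.1)) + (d : WithBot ℕ∞) := by rw [stalkDim_add_resTrdeg f, hd]
      _ ≤ _ := by
        gcongr
        rw [topologicalKrullDim_opens_eq]
        exact le_iSup (fun v : ↥V' => ringKrullDim ↥(Y.presheaf.stalk v.1)) ⟨f a.1, a.2⟩
  · haveI : LocallyOfFinitePresentation f := AlgStB.lfp_of_lft_noetherian f
    obtain ⟨U, hx, hU⟩ := TopDimLib.exists_localDim_eq x
    let U' : X.Opens := U
    let V : Y.Opens := ⟨f '' (U' : Set X), f.isOpenMap _ U'.2⟩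
    rw [← hU]
    change _ ≤ topologicalKrullDim ↥U'
    refine (add_le_add (iInf_le _ (⟨V, ⟨x, hx, rfl⟩⟩ : {O : TopologicalSpace.Opens Y // f x ∈ O})) le_rfl).trans ?_
    change topologicalKrullDim ↥V + _ ≤ _
    haveI : Nonempty ↥V := ⟨⟨f x, x, hx, rfl⟩⟩
    haveI : Nonempty ↥U' := ⟨⟨x, hx⟩⟩
    rw [topologicalKrullDim_opens_eq, topologicalKrullDim_opens_eq]
    simp only [ringKrullDim_stalk_eq_coheight]
    rw [← WithBot.coe_iSup (OrderTop.bddAbove _), ← WithBot.coe_iSup (OrderTop.bddAbove _),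
      ← WithBot.coe_natCast, ← WithBot.coe_add, ENat.iSup_add, WithBot.coe_le_coe]
    refine iSup_le fun ⟨v, hv⟩ => ?_
    obtain ⟨a, ha, rfl⟩ := hv
    haveI : LocallyOfFiniteType (f.fiberToSpecResidueField (f a)) :=
      MorphismProperty.pullback_snd _ _ inferInstance
    obtain ⟨z, hz, hzc⟩ := DimTheory.exists_closedPoint_mem (f.fiberToSpecResidueField (f a))
      (U'.2.preimage (f.fiberι (f a)).continuous) ⟨f.asFiber a, show f.fiberι (f a) (f.asFiber a) ∈ U' by
        rw [f.fiberι_asFiber]; exact ha⟩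
    have hfz : f (f.fiberι (f a) z) = f a :=
      (f.range_fiberι (f a)).le ⟨z, rfl⟩
    obtain ⟨n, hn, hn'⟩ := DimTheory.exists_height_eq (k := Y.residueField (f a))
      (f.fiberToSpecResidueField (f a)) z
    rw [DimTheory.height_eq_zero_of_isClosed hzc] at hn'
    rw [FlatEquidim.resTrdeg_fiber_eq, show n = 0 by exact_mod_cast hn'.symm, Nat.cast_zero] at hn
    have := stalkDim_add_resTrdeg f (f.fiberι (f a) z)
    rw [show Dual3.resTrdeg f (f.fiberι (f a) z) = 0 from hn, hd, hfz, ringKrullDim_stalk_eq_coheight,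
      ringKrullDim_stalk_eq_coheight, map_zero, WithBot.coe_zero, add_zero, ← WithBot.coe_natCast,
      ← WithBot.coe_add, WithBot.coe_inj] at this
    exact this.symm.le.trans (le_iSup (fun w : ↥U' => Order.coheight w.1) ⟨f.fiberι (f a) z, hz⟩)

theorem localDim_eq_add_of_smooth [IsLocallyNoetherian X] [IsLocallyNoetherian Y] (f : X ⟶ Y) [Smooth f] (x : X) :
    FlatMor.localDim X x = FlatMor.localDim Y (f x) + FlatMor.fibreDimAt f x := by
  obtain ⟨n, U, hU, V, hV, hx, e, hf⟩ := FibreDimChart.exists_relDim_chart f x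
  haveI : IsLocallyNoetherian (V : Scheme.{u}) := LocallyOfFiniteType.isLocallyNoetherian V.ι
  have h := localDim_eq_add_of_flat (V.ι ≫ f) n (fun v => by
    rw [fibreDimAt_etale_comp]; exact FibreDimChart.fibreDimAt_of_chart n f _ U hU V hV v.2 e hf) ⟨x, hx⟩
  rw [← localDim_eq_of_etale V.ι] at h
  rw [FibreDimChart.fibreDimAt_of_chart n f x U hU V hV hx e hf]
  simpa using h

end Groth.Agent.AlgSpDesc
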