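import Groth.Agent.AlgSpDesc.Valuative
import Groth.Agent.AlgSpc.EtLocInst

/-!
Lifting maps from spectra of valuation rings along flat morphisms.
-/

set_option autoImplicit false
set_option linter.style.haveILetI false
set_option backward.isDefEq.respectTransparency false

universe u

open CategoryTheory CategoryTheory.Limits AlgebraicGeometry IsLocalRing

namespace Groth.Agent.AlgSpDesc

open _root_.AlgSp Groth.Agent.AlgSpc

variable {S : Scheme.{u}} {X Y : Sp S}

/-- A flat scheme over a valuation ring with a point over the closed point receives a dominating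
valuation ring. -/
theorem exists_flat_lift_scheme {A : Type u} [CommRing A] [IsDomain A] [ValuationRing A] {U : Scheme.{u}}
    (g : U ⟶ Spec (CommRingCat.of A)) [Flat g] (u' : U) (hu' : g u' = closedPoint A) :
    ∃ (A' : Type u) (_ : CommRing A') (_ : IsDomain A') (_ : ValuationRing A') (φ : A →+* A')
      (g' : Spec (CommRingCat.of A') ⟶ U),
      Function.Injective φ ∧ IsLocalHom φ ∧ g' ≫ g = Spec.map (CommRingCat.ofHom φ) := by
  let η : ↥(Spec (CommRingCat.of A)) := (⟨⊥, Ideal.bot_prime⟩ : PrimeSpectrum A)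
  have hη : η ⤳ g u' := by rw [hu']; exact IsLocalRing.specializes_closedPoint _
  obtain ⟨u, hu, hgu⟩ := Flat.generalizingMap g hη
  let α₀ : U.presheaf.stalk u' ⟶ U.residueField u := U.presheaf.stalkSpecializes hu ≫ U.residue u
  obtain ⟨A', hA', hloc⟩ := IsLocalRing.exists_factor_valuationRing α₀.hom
  let α : U.presheaf.stalk u' →+* A' := α₀.hom.codRestrict A'.toSubring hA'
  haveI : IsLocalHom α := hloc
  let g' : Spec (CommRingCat.of A') ⟶ U := Spec.map (CommRingCat.ofHom α) ≫ U.fromSpecStalk u'
  have hgen : Spec.map (CommRingCat.ofHom A'.subtype) ≫ g' = U.fromSpecResidueField u := by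
    rw [← Spec.map_comp_assoc, show CommRingCat.ofHom α ≫ CommRingCat.ofHom A'.subtype = α₀ from rfl]
    simp only [α₀, Spec.map_comp, Category.assoc, Scheme.SpecMap_stalkSpecializes_fromSpecStalk]
    rfl
  let φ : A →+* A' := (Spec.preimage (g' ≫ g)).hom
  have hφ : Spec.map (CommRingCat.ofHom φ) = g' ≫ g := Spec.map_preimage _
  refine ⟨A', inferInstance, inferInstance, inferInstance, φ, g', ?_, ?_, hφ.symm⟩
  · have h1 : (Spec.map (CommRingCat.ofHom A'.subtype) ≫ Spec.map (CommRingCat.ofHom φ))
        (closedPoint (U.residueField u)) = (⟨⊥, Ideal.bot_prime⟩ : PrimeSpectrum A) := by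
      rw [hφ, reassoc_of% hgen, Scheme.Hom.comp_apply]
      refine (congrArg g (Scheme.fromSpecResidueField_apply u _)).trans ?_
      exact hgu
    have h2 : (closedPoint (U.residueField u)).asIdeal.comap (A'.subtype.comp φ) = ⊥ := by
      rw [← Spec.map_comp, ← CommRingCat.ofHom_comp] at h1
      exact congrArg PrimeSpectrum.asIdeal h1
    refine (injective_iff_map_eq_zero φ).2 fun a ha => ?_
    rw [← Ideal.mem_bot, ← h2, Ideal.mem_comap, RingHom.comp_apply, ha, map_zero]
    exact zero_mem _
  · refine ((IsLocalRing.local_hom_TFAE φ).out 4 0).mp ?_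
    have h1 : (Spec.map (CommRingCat.ofHom φ)) (closedPoint A') = closedPoint A := by
      rw [hφ, Scheme.Hom.comp_apply, ValDense.closedPoint_specMap α]
      exact hu'
    exact congrArg PrimeSpectrum.asIdeal h1

theorem exists_flat_lift (hX : IsAlgSpace X) (hY : IsAlgSpace Y) {f : X ⟶ Y} (hf : LocP @Flat f)
    (A : Type u) [CommRing A] [IsDomain A] [ValuationRing A]
    (str : Spec (.of A) ⟶ S) (b : (yon S).obj (Over.mk str) ⟶ Y)
    (hb : Points.ofPt b (IsLocalRing.closedPoint A) ∈ Set.range (Points.map f)) :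
    ∃ (A' : Type u) (_ : CommRing A') (_ : IsDomain A') (_ : ValuationRing A') (φ : A →+* A'),
      Function.Injective φ ∧ IsLocalHom φ ∧
      ∃ l : (yon S).obj (Over.mk (Spec.map (CommRingCat.ofHom φ) ≫ str)) ⟶ X,
        l ≫ f = (yon S).map (Over.homMk (Spec.map (CommRingCat.ofHom φ)) rfl :
          Over.mk (Spec.map (CommRingCat.ofHom φ) ≫ str) ⟶ Over.mk str) ≫ b := by
  have sP := IsPullback.of_hasPullback f b
  have hP := isAlgSpace_of_isPullback hX hY (IsAlgSpace.yon_obj _) sP
  have hp := locP_base_change hX hY (IsAlgSpace.yon_obj _) sP hf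
  obtain ⟨x, hx⟩ := hb
  obtain ⟨w, hw₁, hw₂⟩ := exists_point_of_isPullback sP x
    (Points.ofScheme (Over.mk str) (IsLocalRing.closedPoint A)) (by rw [hx, ← Points.ofPt_eq_map_ofScheme])
  obtain ⟨U, a, ha, has⟩ := hP.atlas
  obtain ⟨u', rfl⟩ := surjective_ofPt has w
  let g : U ⟶ Over.mk str := pre (a ≫ pullback.snd f b)
  haveI : Flat g.left :=
    hp a (𝟙 _) g ha (repWith_id _ _) (by rw [Category.comp_id, map_pre])
  have hu' : g.left u' = IsLocalRing.closedPoint A := by
    refine (Points.schemeEquiv (Over.mk str)).injective ?_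
    change Points.ofScheme _ (g.left u') = _
    rw [← ofPt_pre, ← Points.map_ofPt]
    exact hw₂
  obtain ⟨A', _, _, _, φ, g', hinj, hl, hg'⟩ := exists_flat_lift_scheme (A := A) g.left u' hu'
  refine ⟨A', inferInstance, inferInstance, inferInstance, φ, hinj, hl, ?_⟩
  let gO : Over.mk (Spec.map (CommRingCat.ofHom φ) ≫ str) ⟶ U := Over.homMk g' (by
    change g' ≫ U.hom = Spec.map (CommRingCat.ofHom φ) ≫ str
    rw [← hg', Category.assoc]
    exact congrArg (g' ≫ ·) (Over.w g).symm)
  refine ⟨(yon S).map gO ≫ a ≫ pullback.fst f b, ?_⟩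
  rw [Category.assoc, Category.assoc, pullback.condition, ← Category.assoc a, ← map_pre (a ≫ pullback.snd f b),
    ← Functor.map_comp_assoc]
  congr 2
  ext
  exact hg'

end Groth.Agent.AlgSpDesc
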