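import Groth.Agent.AlgSpLoc.Glue
import Groth.Agent.AlgSpc.EtLocInst
import Groth.Agent.AlgSpLoc.EtLocMore
import Groth.Agent.SchDescent.Effective
import Groth.Agent.S1402
import Mathlib.AlgebraicGeometry.Morphisms.LocalFlatDescent

/-!
Algebraic spaces are sheaves for the fpqc topology.
-/

set_option autoImplicit false
set_option linter.style.haveILetI false
set_option backward.isDefEq.respectTransparency false

universe u w

open CategoryTheory CategoryTheory.Limits AlgebraicGeometry Opposite Desc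

namespace Groth.Agent.AlgSpDesc

open _root_.AlgSp Groth.Agent.AlgSpc

variable {S : Scheme.{u}}

/-- Maps from a scheme into an algebraic space are determined on an fpqc cover. -/
theorem eq_of_cover {X : Sp S} (hX : IsAlgSpace X) {T : Over S} {κ : Type w} {W : κ → Over S}
    (c : ∀ k, W k ⟶ T) (hc : SchDescent.IsCover (fun k => (c k).left)) (x y : (yon S).obj T ⟶ X)
    (h : ∀ k, (yon S).map (c k) ≫ x = (yon S).map (c k) ≫ y) : x = y := by
  obtain ⟨E, a, e, sq⟩ := exists_sq hX.diag (prod.lift x y)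
  have hl : ∀ k, ∃ l : W k ⟶ E, l ≫ e = c k := fun k => by
    have w : ((yon S).map (c k) ≫ x) ≫ diag X = (yon S).map (c k) ≫ prod.lift x y := by
      apply Limits.prod.hom_ext <;> simp [h k]
    exact ⟨pre (sq.lift _ _ w), (yon S).map_injective (by rw [Functor.map_comp, map_pre, sq.lift_snd])⟩
  have hmono : ∀ {Z : Over S} (a₁ a₂ : Z ⟶ E), a₁ ≫ e = a₂ ≫ e → a₁ = a₂ := fun a₁ a₂ w => by
    refine (yon S).map_injective (sq.hom_ext ?_ ?_)
    · rw [← cancel_mono (diag X), Category.assoc, Category.assoc, sq.w, ← Functor.map_comp_assoc,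
        ← Functor.map_comp_assoc, w]
    · rw [← Functor.map_comp, ← Functor.map_comp, w]
  choose l hl using hl
  obtain ⟨t, ht, -⟩ := SchDescent.existsUnique_glue hc (fun k => (l k).left) fun k k' Z p q hpq => by
    have hq : q ≫ (W k').hom = p ≫ (W k).hom := by
      rw [← Over.w (c k), ← Over.w (c k'), reassoc_of% hpq]
    exact congrArg CommaMorphism.left (hmono (Over.homMk p rfl ≫ l k)
      ((Over.homMk q hq : Over.mk (p ≫ (W k).hom) ⟶ W k') ≫ l k') (by
        rw [Category.assoc, Category.assoc, hl, hl]; ext; exact hpq))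
  have hte : t ≫ e.left = 𝟙 T.left := SchDescent.hom_ext hc fun k => by
    rw [reassoc_of% ht k, ← Over.comp_left, hl, Category.comp_id]
  have htS : t ≫ E.hom = T.hom := by rw [← Over.w e, reassoc_of% hte]
  let t' : T ⟶ E := Over.homMk t htS
  have he : t' ≫ e = 𝟙 T := by ext; exact hte
  have hw := congrArg (fun z => (yon S).map t' ≫ z) sq.w
  simp only [← Functor.map_comp_assoc, he, CategoryTheory.Functor.map_id, Category.id_comp] at hw
  have h1 : x = (yon S).map t' ≫ a := by simpa using (congrArg (· ≫ Limits.prod.fst) hw).symm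
  have h2 : y = (yon S).map t' ≫ a := by simpa using (congrArg (· ≫ Limits.prod.snd) hw).symm
  rw [h1, h2]

theorem isCover_of_etale {T : Over S} {κ : Type u} {W : κ → Over S} (c : ∀ k, W k ⟶ T)
    (h : ∀ k, Etale (c k).left) (hs : ∀ t : ↥T.left, ∃ k, t ∈ Set.range (c k).left) :
    SchDescent.IsCover (fun k => (c k).left) := by
  refine Scheme.fppfPrecoverage_le_fpqcPrecoverage _ ?_
  rw [Scheme.fppfPrecoverage, Scheme.ofArrows_mem_precoverage_iff]
  exact ⟨hs, fun k => haveI := h k; ⟨inferInstance, inferInstance⟩⟩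

/-- Descending one affine etale chart along a single fpqc morphism. -/
theorem exists_desc_chart {X : Sp S} {T W A : Over S} (a : (yon S).obj A ⟶ X) (ha : RepWith @Etale a)
    (hA : IsAffine A.left) (p : W ⟶ T) [Flat p.left] [Surjective p.left] [QuasiCompact p.left]
    (x : (yon S).obj W ⟶ X)
    (hx : ∀ ⦃Z : Over S⦄ (z z' : Z ⟶ W), z ≫ p = z' ≫ p → (yon S).map z ≫ x = (yon S).map z' ≫ x) :
    ∃ (V : Over S) (v : V ⟶ T) (g : V ⟶ A), Etale v.left ∧
      (∀ ⦃Z : Over S⦄ (q : Z ⟶ W) (r : Z ⟶ V), q ≫ p = r ≫ v →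
        (yon S).map (r ≫ g) ≫ a = (yon S).map q ≫ x) ∧
      ∀ (w : ↥W.left) (z : ↥A.left), Points.ofPt a z = Points.ofPt x w → p.left w ∈ Set.range v.left := by
  obtain ⟨V, fst, snd, sq⟩ := exists_sq ha.1 x
  haveI : Etale snd.left := ha.2 _ _ _ sq
  haveI : IsSeparated snd.left := by
    let m : V.left ⟶ pullback A.hom W.hom :=
      pullback.lift (pre fst).left snd.left (by rw [Over.w (pre fst), Over.w snd])
    haveI : Mono m := ⟨fun {Z} g g' e => by
      have e₁ : g ≫ (pre fst).left = g' ≫ (pre fst).left := by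
        have := congrArg (· ≫ pullback.fst _ _) e
        simpa [m] using this
      have e₂ : g ≫ snd.left = g' ≫ snd.left := by
        have := congrArg (· ≫ pullback.snd _ _) e
        simpa [m] using this
      have hg : g' ≫ V.hom = g ≫ V.hom := by rw [← Over.w snd, reassoc_of% e₂]
      refine congrArg CommaMorphism.left (show (Over.homMk g rfl : Over.mk (g ≫ V.hom) ⟶ V) = Over.homMk g' hg from
        (yon S).map_injective (sq.hom_ext ?_ ?_))
      · rw [← map_pre fst, ← Functor.map_comp, ← Functor.map_comp]; congr 1; ext; exact e₁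
      · rw [← Functor.map_comp, ← Functor.map_comp]; congr 1; ext; exact e₂⟩
    haveI : IsSeparated A.hom := inferInstance
    rw [show snd.left = m ≫ pullback.snd A.hom W.hom from (pullback.lift_snd _ _ _).symm]
    infer_instance
  haveI : LocallyQuasiFinite snd.left := AlgSpLoc.locallyQuasiFinite_of_etale _
  have exun : ∀ {Z : Scheme.{u}} (x₀ x₁ : Z ⟶ W.left) (_ : x₀ ≫ p.left = x₁ ≫ p.left)
      (v : Lifts (Over.mk snd.left) x₀),
      ∃ v' : Lifts (Over.mk snd.left) x₁, v'.1 ≫ (pre fst).left = v.1 ≫ (pre fst).left := by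
    intro Z x₀ x₁ h ⟨v, hv⟩
    change v ≫ snd.left = x₀ at hv
    have h₁ : x₁ ≫ W.hom = x₀ ≫ W.hom := by rw [← Over.w p, reassoc_of% h]
    have hvS : v ≫ V.hom = x₀ ≫ W.hom := by rw [← Over.w snd, reassoc_of% hv]
    let Z' : Over S := Over.mk (x₀ ≫ W.hom)
    let z₀ : Z' ⟶ W := Over.homMk x₀ rfl
    let z₁ : Z' ⟶ W := Over.homMk x₁ h₁
    let v₀ : Z' ⟶ V := Over.homMk v hvS
    have hz : v₀ ≫ snd = z₀ := by ext; exact hv
    have hxz := hx z₀ z₁ (by ext; exact h)
    let l := sq.lift ((yon S).map v₀ ≫ fst) ((yon S).map z₁)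
      (by rw [Category.assoc, sq.w, ← Functor.map_comp_assoc, hz, hxz])
    refine ⟨⟨(pre l).left, congrArg CommaMorphism.left (show pre l ≫ snd = z₁ from (yon S).map_injective
      (by rw [Functor.map_comp, map_pre, sq.lift_snd]))⟩, ?_⟩
    exact congrArg CommaMorphism.left (show pre l ≫ pre fst = v₀ ≫ pre fst from (yon S).map_injective
      (by rw [Functor.map_comp, map_pre, map_pre, sq.lift_fst, Functor.map_comp, map_pre]))
  have uniq : ∀ {Z : Scheme.{u}} {x₀ : Z ⟶ W.left} (v v' : Lifts (Over.mk snd.left) x₀),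
      v.1 ≫ (pre fst).left = v'.1 ≫ (pre fst).left → v = v' := by
    intro Z x₀ v v' e₁
    have e₂ : v.1 ≫ snd.left = v'.1 ≫ snd.left := v.2.trans v'.2.symm
    have hg : v'.1 ≫ V.hom = v.1 ≫ V.hom := by rw [← Over.w snd, reassoc_of% e₂]
    refine Subtype.ext (congrArg CommaMorphism.left
      (show (Over.homMk v.1 rfl : Over.mk (v.1 ≫ V.hom) ⟶ V) = Over.homMk v'.1 hg from
        (yon S).map_injective (sq.hom_ext ?_ ?_)))
    · rw [← map_pre fst, ← Functor.map_comp, ← Functor.map_comp]; congr 1; ext; exact e₁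
    · rw [← Functor.map_comp, ← Functor.map_comp]; congr 1; ext; exact e₂
  choose φ hφ using @exun
  let D : SchDD p.left :=
    { obj := Over.mk snd.left
      φ := fun Z x₀ x₁ h =>
        { toFun := φ x₀ x₁ h
          invFun := φ x₁ x₀ h.symm
          left_inv := fun v => uniq _ _ (by rw [hφ, hφ])
          right_inv := fun v => uniq _ _ (by rw [hφ, hφ]) }
      φ_natural := fun Z Z' g x₀ x₁ h h' v v' hv' => by
        have := uniq (φ (g ≫ x₀) (g ≫ x₁) h' v')
          ⟨g ≫ (φ x₀ x₁ h v).1, by rw [Category.assoc, (φ x₀ x₁ h v).2]⟩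
          (by rw [hφ, hv', Category.assoc, Category.assoc, hφ])
        exact congrArg Subtype.val this
      φ_self := fun Z z v => uniq _ _ (by change (φ z z rfl v).1 ≫ _ = _; rw [hφ])
      φ_comp := fun Z x₀ x₁ x₂ h₀₁ h₁₂ v => uniq _ _ (by
        change (φ x₁ x₂ h₁₂ (φ x₀ x₁ h₀₁ v)).1 ≫ _ = (φ x₀ x₂ _ v).1 ≫ _
        rw [hφ, hφ, hφ]) }
  obtain ⟨U, ⟨e⟩⟩ := SchDescent.effective_of_indQuasiAffine (SchDescent.isCover_singleton p.left) D
    (S1402.result snd.left)
  let el : pullback p.left U.hom ⟶ V.left := e.hom.hom.left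
  let ei : V.left ⟶ pullback p.left U.hom := e.inv.hom.left
  have hei : ei ≫ el = 𝟙 V.left := congrArg (fun m : D ⟶ D => m.hom.left) e.inv_hom_id
  have hei' : el ≫ ei = 𝟙 _ := congrArg (fun m : (toDD p.left).obj U ⟶ (toDD p.left).obj U => m.hom.left) e.hom_inv_id
  have hes : el ≫ snd.left = pullback.fst p.left U.hom := Over.w e.hom.hom
  haveI : IsIso el := ⟨ei, hei', hei⟩
  have hπ : SchDescent.IsCover (fun _ : PUnit.{1} => pullback.snd p.left U.hom) :=
    SchDescent.isCover_singleton _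
  obtain ⟨g, hg, -⟩ := SchDescent.existsUnique_glue hπ (fun _ => el ≫ (pre fst).left) fun _ _ Z z z' hzz => by
    have h : (z ≫ pullback.fst p.left U.hom) ≫ p.left = (z' ≫ pullback.fst p.left U.hom) ≫ p.left := by
      rw [Category.assoc, Category.assoc, pullback.condition, reassoc_of% hzz]
    let v : Lifts ((toDD p.left).obj U).obj (z ≫ pullback.fst p.left U.hom) := ⟨z, rfl⟩
    let v' : Lifts D.obj (z ≫ pullback.fst p.left U.hom) :=
      ⟨z ≫ el, by change (z ≫ el) ≫ snd.left = _; rw [Category.assoc, hes]⟩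
    have hc := e.hom.comm _ (z' ≫ pullback.fst p.left U.hom) h v v' rfl
    have hcan : (((toDD p.left).obj U).φ _ _ h v).1 = z' := by
      apply pullback.hom_ext
      · exact (((toDD p.left).obj U).φ _ _ h v).2
      · exact (pullback.lift_snd _ _ _).trans hzz
    rw [hcan] at hc
    change (φ _ _ h v').1 = z' ≫ el at hc
    rw [← Category.assoc, ← Category.assoc, ← hc, hφ]
  have hgS : g ≫ A.hom = U.hom ≫ T.hom := SchDescent.hom_ext hπ fun k => by
    rw [reassoc_of% hg k, Over.w (pre fst), ← Over.w snd, reassoc_of% hes, Over.w p |>.symm,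
      pullback.condition_assoc]
  let V' : Over S := Over.mk (U.hom ≫ T.hom)
  refine ⟨V', Over.homMk U.hom rfl, Over.homMk g hgS, ?_, ?_, ?_⟩
  · refine MorphismProperty.of_pullback_fst_of_descendsAlong (P := @Etale)
      (Q := (@Surjective ⊓ @Flat ⊓ @QuasiCompact : MorphismProperty Scheme.{u})) (f := p.left)
      ⟨⟨‹_›, ‹_›⟩, ‹_›⟩ ?_
    change Etale (pullback.fst p.left U.hom)
    rw [← hes]
    infer_instance
  · intro Z q r hqr
    have hqr' : q.left ≫ p.left = r.left ≫ U.hom := congrArg CommaMorphism.left hqr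
    let l := pullback.lift q.left r.left hqr' ≫ el
    have hls : l ≫ snd.left = q.left := by rw [Category.assoc, hes, pullback.lift_fst]
    let l' : Z ⟶ V := Over.homMk l (by rw [← Over.w snd, reassoc_of% hls, Over.w q])
    have h1 : l' ≫ pre fst = r ≫ Over.homMk g hgS := by
      ext
      change (pullback.lift q.left r.left hqr' ≫ el) ≫ (pre fst).left = r.left ≫ g
      rw [Category.assoc, ← hg PUnit.unit, pullback.lift_snd_assoc]
    have h2 : l' ≫ snd = q := by ext; exact hls
    rw [← h1, ← h2, Functor.map_comp, map_pre, Category.assoc, sq.w, Functor.map_comp, Category.assoc]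
  · intro w z hz
    obtain ⟨v, -, hv⟩ := exists_point_of_sq sq (Points.ofScheme A z) w
      (by rw [← Points.ofPt_eq_map_ofScheme]; exact hz)
    refine ⟨pullback.snd p.left U.hom (ei v), ?_⟩
    change U.hom (pullback.snd p.left U.hom (ei v)) = _
    rw [← hv, ← Scheme.Hom.comp_apply, ← Scheme.Hom.comp_apply, ← pullback.condition, ← hes,
      Category.assoc, reassoc_of% hei, Scheme.Hom.comp_apply]

/-- Descending along a single fpqc morphism. -/
theorem exists_desc_single {X : Sp S} (hX : IsAlgSpace X) {T W : Over S} (p : W ⟶ T)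
    [Flat p.left] [Surjective p.left] [QuasiCompact p.left] (x : (yon S).obj W ⟶ X)
    (hx : ∀ ⦃Z : Over S⦄ (z z' : Z ⟶ W), z ≫ p = z' ≫ p → (yon S).map z ≫ x = (yon S).map z' ≫ x) :
    ∃ y : (yon S).obj T ⟶ X, (yon S).map p ≫ y = x := by
  obtain ⟨U₀, a₀, ha₀, ha₀s⟩ := hX.atlas
  let A : U₀.left.affineOpens → Over S := fun j => AlgSpLoc.openSub U₀ j.1
  let a : ∀ j, (yon S).obj (A j) ⟶ X := fun j => (yon S).map (AlgSpLoc.openSubι U₀ j.1) ≫ a₀
  have ha : ∀ j, RepWith @Etale (a j) := fun j =>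
    repWith_comp ((repWith_yon_map_iff _ _).2 (inferInstanceAs (Etale j.1.ι))) ha₀
  choose V v g hv key hs using fun j => exists_desc_chart (a j) (ha j) j.2 p x hx
  have hsurj : ∀ t : ↥T.left, ∃ j, t ∈ Set.range (v j).left := fun t => by
    obtain ⟨w, rfl⟩ := p.left.surjective t
    obtain ⟨z, hz⟩ := surjective_ofPt ha₀s (Points.ofPt x w)
    obtain ⟨_, ⟨O, hO, rfl⟩, hzO, -⟩ :=
      U₀.left.isBasis_affineOpens.exists_subset_of_mem_open (Set.mem_univ z) isOpen_univ
    exact ⟨⟨O, hO⟩, hs ⟨O, hO⟩ w ⟨z, hzO⟩ (by rw [ofPt_comp]; exact hz)⟩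
  have compat : ∀ (j j' : U₀.left.affineOpens) ⦃Z : Over S⦄ (r : Z ⟶ V j) (r' : Z ⟶ V j'),
      r ≫ v j = r' ≫ v j' → (yon S).map (r ≫ g j) ≫ a j = (yon S).map (r' ≫ g j') ≫ a j' := by
    intro j j' Z r r' h
    let Z' : Over S := Over.mk (pullback.fst (r ≫ v j).left p.left ≫ Z.hom)
    let c : Z' ⟶ Z := Over.homMk (pullback.fst (r ≫ v j).left p.left) rfl
    let q : Z' ⟶ W := Over.homMk (pullback.snd (r ≫ v j).left p.left) (by
      change _ = pullback.fst (r ≫ v j).left p.left ≫ Z.hom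
      rw [← Over.w p, ← pullback.condition_assoc, Over.w])
    have hq : q ≫ p = c ≫ r ≫ v j := by ext; exact pullback.condition.symm
    refine eq_of_cover hX (fun _ : PUnit.{1} => c)
      (SchDescent.isCover_singleton (pullback.fst (r ≫ v j).left p.left)) _ _ fun _ => ?_
    have e₁ := key j q (c ≫ r) (by rw [hq, Category.assoc])
    have e₂ := key j' q (c ≫ r') (by rw [hq, h, Category.assoc])
    simp only [Category.assoc, Functor.map_comp] at e₁ e₂ ⊢
    exact e₁.trans e₂.symm
  have hmem := AlgSpLoc.ofArrows_mem_J V v (fun j => haveI := hv j; inferInstance)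
    (fun j => haveI := hv j; inferInstance) hsurj
  have hX' : Presieve.IsSheafFor X.obj (Presieve.ofArrows V v) :=
    (Presieve.isSheafFor_iff_generate _).2 (((isSheaf_iff_isSheaf_of_type _ _).1 X.property) _ hmem)
  rw [Presieve.isSheafFor_arrows_iff] at hX'
  obtain ⟨t, ht, -⟩ := hX' (fun j => (J S).uliftYonedaEquiv ((yon S).map (g j) ≫ a j)) fun j j' Z r r' h => by
    rw [GrothendieckTopology.uliftYonedaEquiv_naturality, GrothendieckTopology.uliftYonedaEquiv_naturality,
      ← Functor.map_comp_assoc, ← Functor.map_comp_assoc]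
    exact congrArg _ (compat j j' r r' h)
  refine ⟨(J S).uliftYonedaEquiv.symm t, ?_⟩
  have hy : ∀ j, (yon S).map (v j) ≫ (J S).uliftYonedaEquiv.symm t = (yon S).map (g j) ≫ a j := fun j => by
    apply (J S).uliftYonedaEquiv.injective
    rw [← GrothendieckTopology.uliftYonedaEquiv_naturality, Equiv.apply_symm_apply]
    exact ht j
  let W' : U₀.left.affineOpens → Over S := fun j => Over.mk (pullback.fst p.left (v j).left ≫ W.hom)
  let c : ∀ j, W' j ⟶ W := fun j => Over.homMk (pullback.fst p.left (v j).left) rfl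
  let r : ∀ j, W' j ⟶ V j := fun j => Over.homMk (pullback.snd p.left (v j).left) (by
    change _ = pullback.fst p.left (v j).left ≫ W.hom
    rw [← Over.w (v j), ← pullback.condition_assoc, Over.w])
  refine eq_of_cover hX c (isCover_of_etale c (fun j => ?_) fun w => ?_) _ _ fun j => ?_
  · haveI := hv j
    exact inferInstanceAs (Etale (pullback.fst p.left (v j).left))
  · obtain ⟨j, hj⟩ := hsurj (p.left w)
    refine ⟨j, ?_⟩
    exact (Scheme.Pullback.range_fst (f := p.left) (g := (v j).left)).ge hj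
  · have hcr : c j ≫ p = r j ≫ v j := by ext; exact pullback.condition
    rw [← Functor.map_comp_assoc, hcr, Functor.map_comp_assoc, hy, ← Functor.map_comp_assoc,
      key j (c j) (r j) hcr]

/-- Descending along an fpqc cover, over an affine open of the base. -/
theorem exists_desc_affine {X : Sp S} (hX : IsAlgSpace X) {T : Over S} {κ : Type w} {W : κ → Over S}
    (c : ∀ k, W k ⟶ T) (hc : SchDescent.IsCover (fun k => (c k).left)) (x : ∀ k, (yon S).obj (W k) ⟶ X)
    (hx : ∀ (k k' : κ) ⦃Z : Over S⦄ (z : Z ⟶ W k) (z' : Z ⟶ W k'), z ≫ c k = z' ≫ c k' →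
      (yon S).map z ≫ x k = (yon S).map z' ≫ x k')
    (O : T.left.Opens) (hO : IsAffineOpen O) :
    ∃ y : (yon S).obj (AlgSpLoc.openSub T O) ⟶ X,
      ∀ (k : κ) ⦃Z : Over S⦄ (q : Z ⟶ W k) (r : Z ⟶ AlgSpLoc.openSub T O),
        q ≫ c k = r ≫ AlgSpLoc.openSubι T O → (yon S).map r ≫ y = (yon S).map q ≫ x k := by
  obtain ⟨n, idx, V, hV, hVO⟩ := SchDescent.exists_finite hc hO
  let W' : Fin n → Over S := fun m => AlgSpLoc.openSub (W (idx m)) (V m)
  let inc : ∀ m, W' m ⟶ W (idx m) := fun m => AlgSpLoc.openSubι (W (idx m)) (V m)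
  let Wc : Over S := Over.mk (Sigma.desc fun m => (W' m).hom)
  let ι : ∀ m, W' m ⟶ Wc := fun m => Over.homMk (Sigma.ι (fun m => (W' m).left) m) (Sigma.ι_desc _ m)
  have hι : ∀ m, IsOpenImmersion (ι m).left := fun m => (sigmaOpenCover _).map_prop m
  have hιs : ∀ w : ↥Wc.left, ∃ m, w ∈ Set.range (ι m).left := fun w =>
    SchDescent.exists_mem_range (SchDescent.sigma_isCover (Y := fun m => (W' m).left)) w
  have hle : ∀ m, Set.range ((inc m).left ≫ (c (idx m)).left) ⊆ Set.range O.ι := fun m => by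
    rw [Scheme.Opens.range_ι, ← hVO]
    rintro _ ⟨v, rfl⟩
    exact Set.mem_iUnion.2 ⟨m, (inc m).left v, v.2, rfl⟩
  let l : ∀ m, (W' m).left ⟶ (O : Scheme.{u}) := fun m =>
    IsOpenImmersion.lift O.ι ((inc m).left ≫ (c (idx m)).left) (hle m)
  have hl : ∀ m, l m ≫ O.ι = (inc m).left ≫ (c (idx m)).left := fun m => IsOpenImmersion.lift_fac _ _ _
  let p : Wc ⟶ AlgSpLoc.openSub T O := Over.homMk (Sigma.desc l) (Sigma.hom_ext _ _ fun m => by
    change Sigma.ι (fun m => (W' m).left) m ≫ Sigma.desc l ≫ O.ι ≫ T.hom =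
      Sigma.ι (fun m => (W' m).left) m ≫ Sigma.desc (fun m => (W' m).hom)
    rw [Sigma.ι_desc_assoc, Sigma.ι_desc, reassoc_of% hl m, Over.w (c (idx m)), Over.w (inc m)])
  have hιp : ∀ m, ι m ≫ p ≫ AlgSpLoc.openSubι T O = inc m ≫ c (idx m) := fun m => by
    ext
    change Sigma.ι (fun m => (W' m).left) m ≫ Sigma.desc l ≫ O.ι = _
    rw [Sigma.ι_desc_assoc, hl]
    rfl
  haveI hflat : Flat p.left := IsZariskiLocalAtSource.sigmaDesc fun m => by
    haveI := SchDescent.flat_of_isCover hc (idx m)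
    haveI : Flat (l m ≫ O.ι) := by
      rw [hl]; exact inferInstanceAs (Flat ((V m).ι ≫ (c (idx m)).left))
    exact MorphismProperty.of_postcomp @Flat (W' := @IsOpenImmersion) (l m) O.ι inferInstance this
  haveI : Surjective p.left := by
    refine Surjective.sigmaDesc_of_union_range_eq_univ ?_
    ext t
    simp only [Set.mem_iUnion, Set.mem_univ, iff_true]
    have ht : O.ι t ∈ ⋃ m, (c (idx m)).left '' (V m) := by rw [hVO]; exact t.2
    obtain ⟨m, v, hv, hvt⟩ := Set.mem_iUnion.1 ht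
    refine ⟨m, ⟨v, hv⟩, O.ι.isOpenEmbedding.injective ?_⟩
    rw [← hvt]
    exact congr($(hl m) ⟨v, hv⟩)
  haveI : IsAffine (AlgSpLoc.openSub T O).left := hO
  haveI : ∀ m, IsAffine (W' m).left := hV
  haveI : IsAffine Wc.left := inferInstanceAs (IsAffine (∐ fun m => (W' m).left))
  haveI : QuasiCompact p.left := inferInstance
  obtain ⟨xc, hxc, -⟩ := AlgSpLoc.existsUnique_glue W' ι hι hιs (fun m => (yon S).map (inc m) ≫ x (idx m))
    fun m m' Z z z' h => by
      rw [← Functor.map_comp_assoc, ← Functor.map_comp_assoc]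
      refine hx _ _ _ _ ?_
      rw [Category.assoc, Category.assoc, ← hιp, ← hιp, reassoc_of% h]
  -- pieces of a test scheme on which a map to the coproduct lands in one summand
  have pieces : ∀ ⦃Z : Over S⦄ (z : Z ⟶ Wc) (m : Fin n),
      ∃ z' : AlgSpLoc.openSub Z (z.left ⁻¹ᵁ (ι m).left.opensRange) ⟶ W' m,
        z' ≫ ι m = AlgSpLoc.openSubι Z _ ≫ z := fun Z z m => by
    haveI := hι m
    have hr : Set.range ((z.left ⁻¹ᵁ (ι m).left.opensRange).ι ≫ z.left) ⊆ Set.range (ι m).left := by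
      rintro _ ⟨a, rfl⟩; exact a.2
    refine ⟨Over.homMk (IsOpenImmersion.lift (ι m).left _ hr) ?_, by
      ext; exact IsOpenImmersion.lift_fac _ _ _⟩
    rw [← Over.w (ι m), IsOpenImmersion.lift_fac_assoc, Category.assoc, Over.w z]
    rfl
  have key : ∀ (k : κ) ⦃Z : Over S⦄ (z : Z ⟶ Wc) (q : Z ⟶ W k),
      z ≫ p ≫ AlgSpLoc.openSubι T O = q ≫ c k → (yon S).map z ≫ xc = (yon S).map q ≫ x k := by
    intro k Z z q h
    refine AlgSpLoc.hom_ext_of_openCover (fun m => AlgSpLoc.openSub Z (z.left ⁻¹ᵁ (ι m).left.opensRange))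
      (fun m => AlgSpLoc.openSubι Z _) (fun m => inferInstance) (fun t => ?_) fun m => ?_
    · obtain ⟨m, hm⟩ := hιs (z.left t)
      exact ⟨m, ⟨t, hm⟩, rfl⟩
    · obtain ⟨z', hz'⟩ := pieces z m
      rw [← Functor.map_comp_assoc, ← hz', Functor.map_comp_assoc, hxc, ← Functor.map_comp_assoc,
        ← Functor.map_comp_assoc]
      refine hx _ _ _ _ ?_
      rw [Category.assoc, ← hιp, reassoc_of% hz', h, Category.assoc]
  obtain ⟨y, hy⟩ := exists_desc_single hX p xc fun Z z z' h => by
    refine AlgSpLoc.hom_ext_of_openCover (fun m => AlgSpLoc.openSub Z (z'.left ⁻¹ᵁ (ι m).left.opensRange))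
      (fun m => AlgSpLoc.openSubι Z _) (fun m => inferInstance) (fun t => ?_) fun m => ?_
    · obtain ⟨m, hm⟩ := hιs (z'.left t)
      exact ⟨m, ⟨t, hm⟩, rfl⟩
    · obtain ⟨z'', hz''⟩ := pieces z' m
      rw [← Functor.map_comp_assoc, ← Functor.map_comp_assoc, ← hz'', Functor.map_comp (yon S) z'' (ι m),
        Category.assoc, hxc,
        ← Functor.map_comp_assoc (yon S) z'' (inc m)]
      refine key _ _ _ ?_
      rw [Category.assoc, Category.assoc, reassoc_of% h, ← reassoc_of% hz'', hιp]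
  refine ⟨y, fun k Z q r h => ?_⟩
  let Z' : Over S := Over.mk (pullback.fst r.left p.left ≫ Z.hom)
  let e : Z' ⟶ Z := Over.homMk (pullback.fst r.left p.left) rfl
  let z : Z' ⟶ Wc := Over.homMk (pullback.snd r.left p.left) (by
    change _ = pullback.fst r.left p.left ≫ Z.hom
    rw [← Over.w p, ← pullback.condition_assoc, Over.w r])
  have hz : e ≫ r = z ≫ p := by ext; exact pullback.condition
  refine eq_of_cover hX (fun _ : PUnit.{1} => e)
    (SchDescent.isCover_singleton (pullback.fst r.left p.left)) _ _ fun _ => ?_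
  rw [← Functor.map_comp_assoc, hz, Functor.map_comp_assoc, hy, ← Functor.map_comp_assoc]
  exact key k z (e ≫ q) (by rw [← reassoc_of% hz, Category.assoc, h])

/-- Descending along an fpqc cover. -/
theorem existsUnique_desc {X : Sp S} (hX : IsAlgSpace X) {T : Over S} {κ : Type w} {W : κ → Over S}
    (c : ∀ k, W k ⟶ T) (hc : SchDescent.IsCover (fun k => (c k).left)) (x : ∀ k, (yon S).obj (W k) ⟶ X)
    (hx : ∀ (k k' : κ) ⦃Z : Over S⦄ (z : Z ⟶ W k) (z' : Z ⟶ W k'), z ≫ c k = z' ≫ c k' →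
      (yon S).map z ≫ x k = (yon S).map z' ≫ x k') :
    ∃! y : (yon S).obj T ⟶ X, ∀ k, (yon S).map (c k) ≫ y = x k := by
  choose yO hyO using fun O : T.left.affineOpens => exists_desc_affine hX c hc x hx O.1 O.2
  obtain ⟨y, hy, -⟩ := AlgSpLoc.existsUnique_glue (fun O : T.left.affineOpens => AlgSpLoc.openSub T O.1)
    (fun O => AlgSpLoc.openSubι T O.1) (fun O => inferInstance) (fun t => by
      obtain ⟨_, ⟨O, hO, rfl⟩, ht, -⟩ :=
        T.left.isBasis_affineOpens.exists_subset_of_mem_open (Set.mem_univ t) isOpen_univ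
      exact ⟨⟨O, hO⟩, ⟨t, ht⟩, rfl⟩) yO fun O O' Z z z' h => by
    let Z' : κ → Over S := fun k =>
      Over.mk (pullback.fst (z ≫ AlgSpLoc.openSubι T O.1).left (c k).left ≫ Z.hom)
    let e : ∀ k, Z' k ⟶ Z := fun k => Over.homMk (pullback.fst _ _) rfl
    let q : ∀ k, Z' k ⟶ W k := fun k => Over.homMk (pullback.snd _ _) (by
      change _ = pullback.fst (z ≫ AlgSpLoc.openSubι T O.1).left (c k).left ≫ Z.hom
      rw [← Over.w (c k), ← pullback.condition_assoc, Over.w])
    have he : ∀ k, q k ≫ c k = e k ≫ z ≫ AlgSpLoc.openSubι T O.1 := fun k => by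
      ext; exact pullback.condition.symm
    refine eq_of_cover hX e (SchDescent.isCover_pullback hc (z ≫ AlgSpLoc.openSubι T O.1).left) _ _ fun k => ?_
    rw [← Functor.map_comp_assoc, ← Functor.map_comp_assoc,
      hyO O k (q k) (e k ≫ z) (by rw [he, Category.assoc]),
      hyO O' k (q k) (e k ≫ z') (by rw [he, Category.assoc, h])]
  refine ⟨y, fun k => ?_, fun y' hy' => ?_⟩
  · refine AlgSpLoc.hom_ext_of_openCover (fun O : T.left.affineOpens => AlgSpLoc.openSub (W k) ((c k).left ⁻¹ᵁ O.1))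
      (fun O => AlgSpLoc.openSubι (W k) _) (fun O => inferInstance) (fun w => ?_) fun O => ?_
    · obtain ⟨_, ⟨O, hO, rfl⟩, ht, -⟩ :=
        T.left.isBasis_affineOpens.exists_subset_of_mem_open (Set.mem_univ ((c k).left w)) isOpen_univ
      exact ⟨⟨O, hO⟩, ⟨w, ht⟩, rfl⟩
    · let r : AlgSpLoc.openSub (W k) ((c k).left ⁻¹ᵁ O.1) ⟶ AlgSpLoc.openSub T O.1 :=
        Over.homMk ((c k).left ∣_ O.1) (by
          change _ ≫ O.1.ι ≫ T.hom = ((c k).left ⁻¹ᵁ O.1).ι ≫ (W k).hom
          rw [morphismRestrict_ι_assoc, Over.w])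
      have hr : AlgSpLoc.openSubι (W k) _ ≫ c k = r ≫ AlgSpLoc.openSubι T O.1 := by
        ext; exact (morphismRestrict_ι _ _).symm
      rw [← Functor.map_comp_assoc, hr, Functor.map_comp_assoc, hy, hyO O k _ r hr]
  · refine eq_of_cover hX c hc _ _ fun k => ?_
    rw [hy' k]
    refine AlgSpLoc.hom_ext_of_openCover (fun O : T.left.affineOpens => AlgSpLoc.openSub (W k) ((c k).left ⁻¹ᵁ O.1))
      (fun O => AlgSpLoc.openSubι (W k) _) (fun O => inferInstance) (fun w => ?_) fun O => ?_
    · obtain ⟨_, ⟨O, hO, rfl⟩, ht, -⟩ :=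
        T.left.isBasis_affineOpens.exists_subset_of_mem_open (Set.mem_univ ((c k).left w)) isOpen_univ
      exact ⟨⟨O, hO⟩, ⟨w, ht⟩, rfl⟩
    · let r : AlgSpLoc.openSub (W k) ((c k).left ⁻¹ᵁ O.1) ⟶ AlgSpLoc.openSub T O.1 :=
        Over.homMk ((c k).left ∣_ O.1) (by
          change _ ≫ O.1.ι ≫ T.hom = ((c k).left ⁻¹ᵁ O.1).ι ≫ (W k).hom
          rw [morphismRestrict_ι_assoc, Over.w])
      have hr : AlgSpLoc.openSubι (W k) _ ≫ c k = r ≫ AlgSpLoc.openSubι T O.1 := by
        ext; exact (morphismRestrict_ι _ _).symm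
      rw [← Functor.map_comp_assoc, hr, Functor.map_comp_assoc, hy,
        hyO O k _ r hr]

/-- An algebraic space is an fpqc sheaf. -/
theorem isSheaf_fpqc {X : Sp S} (hX : IsAlgSpace X) :
    Presheaf.IsSheaf (Scheme.fpqcTopology.over S) X.obj := by
  rw [isSheaf_iff_isSheaf_of_type,
    show Scheme.fpqcTopology.over S = (Scheme.fpqcPrecoverage.comap (Over.forget S)).toGrothendieck from
      over_toGrothendieck_eq_toGrothendieck_comap_forget _ S,
    Precoverage.isSheaf_toGrothendieck_iff_of_isStableUnderBaseChange]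
  intro T R hR
  obtain ⟨E, rfl⟩ := R.exists_eq_preZeroHypercover
  have hc : SchDescent.IsCover (fun k => (E.f k).left) := by
    have := hR
    rw [Precoverage.mem_comap_iff, PreZeroHypercover.presieve₀, Presieve.map_ofArrows] at this
    exact this
  rw [PreZeroHypercover.presieve₀, Presieve.isSheafFor_arrows_iff]
  intro x hx
  obtain ⟨y, hy, huniq⟩ := existsUnique_desc hX E.f hc (fun k => (J S).uliftYonedaEquiv.symm (x k))
    fun k k' Z z z' h => by
      apply (J S).uliftYonedaEquiv.injective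
      rw [← GrothendieckTopology.uliftYonedaEquiv_naturality, ← GrothendieckTopology.uliftYonedaEquiv_naturality,
        Equiv.apply_symm_apply, Equiv.apply_symm_apply]
      exact hx k k' Z z z' h
  refine ⟨(J S).uliftYonedaEquiv y, fun k => ?_, fun t ht => ?_⟩
  · rw [GrothendieckTopology.uliftYonedaEquiv_naturality, hy k, Equiv.apply_symm_apply]
  · rw [← huniq ((J S).uliftYonedaEquiv.symm t) fun k => ?_, Equiv.apply_symm_apply]
    apply (J S).uliftYonedaEquiv.injective
    rw [← GrothendieckTopology.uliftYonedaEquiv_naturality, Equiv.apply_symm_apply, Equiv.apply_symm_apply]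
    exact ht k

end Groth.Agent.AlgSpDesc
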