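import Groth.Agent.FtPtsLib.Basic
import Groth.Agent.AlgSpc.LocP
import Groth.Agent.AlgSpc.EtLocInst
import Groth.Agent.AlgSpc.Basic
import Mathlib

/-!
Finite type points of algebraic spaces: chart criterion, and existence in locally closed sets.
-/

universe u

open CategoryTheory CategoryTheory.Limits AlgebraicGeometry Opposite

set_option backward.isDefEq.respectTransparency false

namespace Groth.Agent.AlgSpDesc

open _root_.AlgSp Groth.Agent.AlgSpc Groth.Agent.FtPtsLib

variable {S : Scheme.{u}}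

/-- `x` is represented by a locally finite type morphism from the spectrum of a field. -/
def IsFtPoint {F : Sp S} (x : Points F) : Prop :=
  ∃ (k : Type u) (_ : Field k) (str : Spec (CommRingCat.of k) ⟶ S)
    (ξ : (yon S).obj (Over.mk str) ⟶ F),
    LocP @LocallyOfFiniteType ξ ∧ Points.ofPt ξ (IsLocalRing.closedPoint k) = x

/-- A nonempty locally closed subset of a scheme has a point closed in some affine open. -/
theorem exists_closedInAffine {U : Scheme.{u}} {Z : Set U} (hZ : IsLocallyClosed Z)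
    (hne : Z.Nonempty) : ∃ z ∈ Z, ClosedInAffine z := by
  obtain ⟨O, C, hO, hC, rfl⟩ := hZ
  obtain ⟨z, hzO, hzC⟩ := hne
  obtain ⟨_, ⟨W, hW, rfl⟩, hzW, hWO⟩ :=
    U.isBasis_affineOpens.exists_subset_of_mem_open hzO hO
  haveI : CompactSpace W := isCompact_iff_compactSpace.mp hW.isCompact
  let Z' : Set W := Subtype.val ⁻¹' C
  have hZc : IsClosed Z' := hC.preimage continuous_subtype_val
  obtain ⟨c, hc, hcl⟩ := hZc.exists_closed_singleton (show Z'.Nonempty from ⟨⟨z, hzW⟩, hzC⟩)
  exact ⟨c.1, ⟨hWO c.2, hc⟩, W, hW, c.2, hcl⟩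

theorem isFtPoint_of_chart {F : Sp S} (hF : IsAlgSpace F) {U : Over S}
    {φ : (yon S).obj U ⟶ F} (hφ : RepWith @Etale φ) {u : ↥U.left} (hu : ClosedInAffine u) :
    IsFtPoint (Points.ofPt φ u) := by
  haveI := locallyOfFiniteType_fromSpecResidueField hu
  let T : Over S := Over.mk (U.left.fromSpecResidueField u ≫ U.hom)
  let j : T ⟶ U := Over.homMk (U.left.fromSpecResidueField u) rfl
  have hj : LocP @LocallyOfFiniteType ((yon S).map j) :=
    locP_of_repWith (fun e f he hf => MorphismProperty.comp_mem @LocallyOfFiniteType e f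
      (haveI : Etale e := he; inferInstance) hf)
      ((repWith_yon_map_iff _ j).2 (inferInstanceAs (LocallyOfFiniteType (U.left.fromSpecResidueField u))))
  have hφ' : LocP @LocallyOfFiniteType φ :=
    locP_of_repWith (fun e f he hf => MorphismProperty.comp_mem @LocallyOfFiniteType e f
      (haveI : Etale e := he; inferInstance) hf)
      (repWith_mono (P := @Etale) (Q := @LocallyOfFiniteType) (fun X Y f h => (haveI : Etale f := h; inferInstance)) hφ)
  refine ⟨↥(U.left.residueField u), inferInstance, U.left.fromSpecResidueField u ≫ U.hom,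
    (yon S).map j ≫ φ,
    locP_comp (IsAlgSpace.yon_obj T) (IsAlgSpace.yon_obj U) hF hj hφ', ?_⟩
  exact (ofPt_comp j φ _).trans (congrArg _ (Scheme.fromSpecResidueField_apply _ _))

theorem exists_chart_of_isFtPoint {F : Sp S} {U₀ : Over S} {b : (yon S).obj U₀ ⟶ F}
    (hb : RepWith @Etale b) (hbs : RepWith @Surjective b) {x : Points F} (hx : IsFtPoint x) :
    ∃ u : ↥U₀.left, ClosedInAffine u ∧ Points.ofPt b u = x := by
  obtain ⟨k, _, str, ξ, hξ, rfl⟩ := hx
  obtain ⟨V, fst, snd, sq⟩ := exists_sq hb.1 ξ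
  haveI : Etale snd.left := hb.2 _ _ _ sq
  haveI : Surjective snd.left := hbs.2 _ _ _ sq
  have hlft : LocallyOfFiniteType (pre fst).left :=
    hξ ((yon S).map snd) b (pre fst)
      ((repWith_yon_map_iff _ snd).2 inferInstance) hb (by rw [map_pre, sq.w])
  obtain ⟨v₀, -⟩ := snd.left.surjective (IsLocalRing.closedPoint k)
  obtain ⟨v, -, hv⟩ := exists_closedInAffine (Z := (Set.univ : Set ↥V.left)) isClosed_univ.isLocallyClosed
    ⟨v₀, trivial⟩
  haveI := locallyOfFiniteType_fromSpecResidueField hv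
  have hu := closedInAffine_of_specField (V.left.fromSpecResidueField v ≫ (pre fst).left) default
  rw [Scheme.Hom.comp_apply] at hu
  replace hu : ClosedInAffine ((pre fst).left v) :=
    (congrArg (fun z => ClosedInAffine ((pre fst).left z)) (Scheme.fromSpecResidueField_apply _ _)).mp hu
  refine ⟨_, hu, ?_⟩
  haveI : Subsingleton ↥(Over.mk str).left :=
    inferInstanceAs (Subsingleton (PrimeSpectrum k))
  rw [← ofPt_comp, map_pre, ← Subsingleton.elim (snd.left v) (IsLocalRing.closedPoint k),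
    ← ofPt_comp, ← sq.w, ← Points.map_ofPt]

theorem isFtPoint_iff {F : Sp S} (hF : IsAlgSpace F) (x : Points F) :
    IsFtPoint x ↔ ∃ (U : Over S) (φ : (yon S).obj U ⟶ F) (u : ↥U.left),
      RepWith @Etale φ ∧ IsClosed ({u} : Set ↥U.left) ∧ Points.ofPt φ u = x := by
  constructor
  · intro hx
    obtain ⟨U₀, b, hb, hbs⟩ := hF.atlas
    obtain ⟨u, ⟨W, -, huW, hcl⟩, rfl⟩ := exists_chart_of_isFtPoint hb hbs hx
    refine ⟨Over.mk (W.ι ≫ U₀.hom), (yon S).map (Over.homMk W.ι rfl) ≫ b, ⟨u, huW⟩,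
      repWith_comp ((repWith_yon_map_iff _ _).2 (inferInstanceAs (Etale W.ι))) hb, hcl, ?_⟩
    exact ofPt_comp _ _ _
  · rintro ⟨U, φ, u, hφ, hcl, rfl⟩
    obtain ⟨_, ⟨W, hW, rfl⟩, huW, -⟩ :=
      U.left.isBasis_affineOpens.exists_subset_of_mem_open (Set.mem_univ u) isOpen_univ
    refine isFtPoint_of_chart hF hφ ⟨W, hW, huW, ?_⟩
    rw [show ({⟨u, huW⟩} : Set ↥W) = Subtype.val ⁻¹' ({u} : Set ↥U.left) from
      Set.ext fun y => by simp [Subtype.ext_iff]]
    exact hcl.preimage continuous_subtype_val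

/-- Every nonempty locally closed set of points contains a finite type point. -/
theorem exists_isFtPoint {F : Sp S} (hF : IsAlgSpace F) {T : Set (Points F)}
    (hT : IsLocallyClosed T) (hne : T.Nonempty) : ∃ x ∈ T, IsFtPoint x := by
  obtain ⟨U, a, ha, has⟩ := hF.atlas
  obtain ⟨x, hx⟩ := hne
  obtain ⟨u, rfl⟩ := surjective_ofPt has x
  obtain ⟨z, hz, hzc⟩ := exists_closedInAffine
    (hT.preimage (Points.continuous_ofPt a)) ⟨u, hx⟩
  exact ⟨_, hz, isFtPoint_of_chart hF ha hzc⟩

/-- Finite type points lift along surjective morphisms. -/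
theorem exists_isFtPoint_lift {F G : Sp S} (hF : IsAlgSpace F) (hG : IsAlgSpace G) {f : F ⟶ G}
    (hs : Function.Surjective (Points.map f)) {y : Points G} (hy : IsFtPoint y) :
    ∃ x : Points F, Points.map f x = y ∧ IsFtPoint x := by
  obtain ⟨V, b, v, hb, hcl, rfl⟩ := (isFtPoint_iff hG y).1 hy
  obtain ⟨U₀, a₀, ha, has⟩ := hF.atlas
  obtain ⟨W, fst, snd, sq⟩ := exists_sq hb.1 (a₀ ≫ f)
  obtain ⟨x, hx⟩ := hs (Points.ofPt b v)
  obtain ⟨u, rfl⟩ := surjective_ofPt has x
  obtain ⟨w, hw₁, hw₂⟩ := exists_point_of_sq sq (Points.ofScheme V v) u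
    (by rw [← Points.ofPt_eq_map_ofScheme, ← hx, Points.map_ofPt])
  have hw₃ : (pre fst).left w = v := by
    have := congrArg (Points.toScheme V) hw₁
    rwa [ofPt_pre, Points.toScheme_ofScheme, Points.toScheme_ofScheme] at this
  obtain ⟨w', hw', hw'c⟩ := exists_closedInAffine
    ((hcl.preimage (pre fst).left.continuous).isLocallyClosed) ⟨w, hw₃⟩
  refine ⟨Points.ofPt ((yon S).map snd ≫ a₀) w', ?_, isFtPoint_of_chart hF
    (repWith_comp ((repWith_yon_map_iff _ _).2 (hb.2 _ _ _ sq)) ha) hw'c⟩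
  rw [Points.map_ofPt, Category.assoc, ← sq.w, ← map_pre fst, ofPt_comp]
  exact congrArg _ hw'

end Groth.Agent.AlgSpDesc
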