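import Groth.Agent.AlgSpc.Basic
import Groth.Agent.AlgSpc.EtLocInst
import Groth.Agent.AlgSpc.FibreProd
import Mathlib.AlgebraicGeometry.AlgClosed.Basic
import Mathlib.FieldTheory.IsAlgClosed.AlgebraicClosure

/-!
Surjectivity of morphisms locally of finite type and geometric points.
-/

universe u

open CategoryTheory CategoryTheory.Limits AlgebraicGeometry

set_option backward.isDefEq.respectTransparency false
set_option linter.style.haveILetI false

namespace Groth.Agent.AlgSpDesc

open _root_.AlgSp Groth.Agent.AlgSpc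

variable {S : Scheme.{u}} {X Y : Sp S} {f : X ⟶ Y}

theorem exists_point_lift_algClosed (hX : IsAlgSpace X) (hY : IsAlgSpace Y)
    (hf : LocP @LocallyOfFiniteType f) (hs : Function.Surjective (Points.map f))
    {k : Type u} [Field k] [IsAlgClosed k] {str : Spec (CommRingCat.of k) ⟶ S}
    (y : (yon S).obj (Over.mk str) ⟶ Y) :
    ∃ x : (yon S).obj (Over.mk str) ⟶ X, x ≫ f = y := by
  have sq : IsPullback (pullback.fst f y) (pullback.snd f y) f y := IsPullback.of_hasPullback _ _
  have hP := isAlgSpace_of_isPullback hX hY (IsAlgSpace.yon_obj _) sq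
  have hl := locP_base_change hX hY (IsAlgSpace.yon_obj _) sq hf
  obtain ⟨x, hx⟩ := hs (Points.ofPt y (IsLocalRing.closedPoint k))
  obtain ⟨z, -, -⟩ := exists_point_of_isPullback sq x (Points.ofScheme _ (IsLocalRing.closedPoint k))
    (by rw [hx, Points.ofPt_eq_map_ofScheme])
  obtain ⟨W, c, hc, hcs⟩ := hP.atlas
  obtain ⟨w, -⟩ := surjective_ofPt hcs z
  let g := pre (c ≫ pullback.snd f y)
  haveI : LocallyOfFiniteType g.left :=
    hl c (𝟙 _) g hc (repWith_id _ _) (by rw [map_pre, Category.comp_id])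
  haveI : JacobsonSpace ↥(Over.mk str).left := inferInstanceAs (JacobsonSpace (PrimeSpectrum k))
  haveI : JacobsonSpace ↥W.left := LocallyOfFiniteType.jacobsonSpace g.left
  obtain ⟨v, -, hv⟩ := nonempty_inter_closedPoints (Z := (Set.univ : Set ↥W.left)) ⟨w, trivial⟩
    isClosed_univ.isLocallyClosed
  let P₀ := pointOfClosedPoint (K := k) g.left v hv
  have hP₀ : P₀ ≫ g.left = 𝟙 _ := pointOfClosedPoint_comp g.left v hv
  let e : Over.mk str ⟶ W := Over.homMk P₀ (by
    have := Over.w g
    change P₀ ≫ W.hom = str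
    rw [← this]
    exact ((Category.assoc _ _ _).symm.trans (congrArg (· ≫ str) hP₀)).trans (Category.id_comp _))
  refine ⟨(yon S).map e ≫ c ≫ pullback.fst f y, ?_⟩
  rw [Category.assoc, Category.assoc, pullback.condition, ← Category.assoc c, ← map_pre (c ≫ pullback.snd f y),
    ← Category.assoc, ← Functor.map_comp, show e ≫ g = 𝟙 (Over.mk str) from Over.OverMorphism.ext hP₀,
    CategoryTheory.Functor.map_id, Category.id_comp]

theorem surjective_of_point_lift_algClosed
    (h : ∀ (k : Type u) [Field k] [IsAlgClosed k] (str : Spec (CommRingCat.of k) ⟶ S)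
      (y : (yon S).obj (Over.mk str) ⟶ Y),
      ∃ x : (yon S).obj (Over.mk str) ⟶ X, x ≫ f = y) :
    Function.Surjective (Points.map f) := by
  intro y
  induction y using Points.ind with
  | h p =>
  let L := AlgebraicClosure p.K
  let j : Over.mk (Spec.map (CommRingCat.ofHom (algebraMap p.K L)) ≫ p.str) ⟶ p.pt :=
    Over.homMk (Spec.map (CommRingCat.ofHom (algebraMap p.K L))) rfl
  obtain ⟨x, hx⟩ := h L _ ((yon S).map j ≫ p.toHom)
  refine ⟨Points.ofPt x (IsLocalRing.closedPoint L), ?_⟩
  rw [Points.map_ofPt, hx, ofPt_comp]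
  exact Points.ofPt_toHom p _

end Groth.Agent.AlgSpDesc
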