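import Groth.Agent.AlgSpc.SepProper
import Groth.Agent.AlgSpc.FibreProd

/-!
Graph factorisation over a separated target.
-/

set_option autoImplicit false
set_option linter.style.haveILetI false
set_option backward.isDefEq.respectTransparency false

universe u

open CategoryTheory CategoryTheory.Limits AlgebraicGeometry

namespace Groth.Agent.AlgSpDesc

open _root_.AlgSp Groth.Agent.AlgSpc

variable {S : Scheme.{u}} {X Y B : Sp S} (hX : IsAlgSpace X) (hY : IsAlgSpace Y) (hB : IsAlgSpace B)
  {f : X ⟶ Y} {q : Y ⟶ B}

include hX hY hB in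
theorem univClosed_of_comp_separated (hq : IsSeparatedMor q) (hp : IsUnivClosedMor (f ≫ q)) :
    IsUnivClosedMor f ∧ IsClosed (Set.range (Points.map f)) := by
  let gr : X ⟶ pullback (f ≫ q) q := pullback.lift (𝟙 X) f (by simp)
  have hP := isAlgSpace_of_isPullback hX hB hY (IsPullback.of_hasPullback (f ≫ q) q)
  have h : IsUnivClosedMor f := by
    rw [show f = gr ≫ pullback.snd _ _ by simp [gr]]
    exact univSp_comp isClosedMor_comp hP hY
      (univSp_base_change (pullback_lift_diagonal_isPullback f q) (isProperMor_of_repWith_closedImmersion hq).2.2)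
      (univSp_base_change (IsPullback.of_hasPullback _ _) hp)
  exact ⟨h, (show IsClosedMap (Points.map f) from h hY (𝟙 Y) (𝟙 X) f (IsPullback.id_horiz f)).isClosed_range⟩

include hX hY hB in
theorem isProperMor_of_comp_separated (hq : IsSeparatedMor q) (hp : IsProperMor (f ≫ q)) :
    IsProperMor f := by
  let gr : X ⟶ pullback (f ≫ q) q := pullback.lift (𝟙 X) f (by simp)
  have hP := isAlgSpace_of_isPullback hX hB hY (IsPullback.of_hasPullback (f ≫ q) q)
  rw [show f = gr ≫ pullback.snd _ _ by simp [gr]]
  refine isProperMor_comp hX hP hY (isProperMor_base_change hY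
    (isAlgSpace_of_isPullback hY hB hY (IsPullback.of_hasPullback q q)) hP
    (pullback_lift_diagonal_isPullback f q) (isProperMor_of_repWith_closedImmersion hq)) ?_
  exact isProperMor_base_change hX hB hY (IsPullback.of_hasPullback _ _) hp

end Groth.Agent.AlgSpDesc
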