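import Groth.Agent.FieldEmb.Large
import Groth.Agent.FlatMorLib.FiberPoints
import Groth.Agent.AlgSpc.Basic
import Groth.Agent.AlgSpc.LocP
import Groth.Agent.AlgSpc.EtNbhdCof
import Groth.Agent.AlgSpLoc.DescendPropSp
import Mathlib.FieldTheory.Finite.Basic

/-!
Lifting points to large algebraically closed fields.
-/

universe u

open CategoryTheory CategoryTheory.Limits AlgebraicGeometry Cardinal

set_option backward.isDefEq.respectTransparency false
set_option linter.style.haveILetI false

namespace Groth.Agent.AlgSpDesc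

open _root_.AlgSp Groth.Agent.AlgSpc

variable {S : Scheme.{u}} {X Y : Sp S}

theorem card_residueField_lt {W U : Scheme.{u}} (e : W ⟶ U) [Etale e] (w : W) {K : Type u}
    [Field K] [IsAlgClosed K] (h : #(U.residueField (e w)) < #K) : #(W.residueField w) < #K := by
  haveI : LocallyQuasiFinite e := AlgSpLoc.locallyQuasiFinite_of_etale _
  have hfin : (e.residueFieldMap w).hom.Finite := (FlatMorLib.isClosed_singleton_asFiber_iff e w).1
    ((FlatMorLib.quasiFiniteAt_iff_isClosed_and_maximal e w).1 (e.quasiFiniteAt w)).1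
  algebraize [(e.residueFieldMap w).hom]
  rcases finite_or_infinite ↥(U.residueField (e w)) with hf | hi
  · haveI : Finite ↥(W.residueField w) := Module.finite_of_finite ↥(U.residueField (e w))
    exact (lt_aleph0_of_finite _).trans_le (aleph0_le_mk K)
  · refine lt_of_le_of_lt (Algebra.IsAlgebraic.cardinalMk_le_max ↥(U.residueField (e w))
      ↥(W.residueField w)) ?_
    exact max_lt h (lt_of_le_of_lt (aleph0_le_mk _) h)

theorem exists_point_lift_of_card {W V : Scheme.{u}} (q : W ⟶ V) {K : Type u} [Field K] [IsAlgClosed K]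
    (v : Spec (CommRingCat.of K) ⟶ V) (w : W) (hw : q w = v (IsLocalRing.closedPoint K))
    (h : #(W.residueField w) < #K) :
    ∃ σ : Spec (CommRingCat.of K) ⟶ W, σ ≫ q = v ∧ σ (IsLocalRing.closedPoint K) = w := by
  let g : V.residueField (v (IsLocalRing.closedPoint K)) ⟶ CommRingCat.of K :=
    V.descResidueField (K := K) (Scheme.stalkClosedPointTo v)
  have hg : Spec.map g ≫ V.fromSpecResidueField _ = v :=
    Scheme.descResidueField_stalkClosedPointTo_fromSpecResidueField K V v
  let j : V.residueField (v (IsLocalRing.closedPoint K)) ⟶ W.residueField w :=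
    (V.residueFieldCongr hw).inv ≫ q.residueFieldMap w
  have hj : Spec.map j ≫ V.fromSpecResidueField _ = W.fromSpecResidueField w ≫ q := by
    rw [← Scheme.Hom.SpecMap_residueFieldMap_fromSpecResidueField]
    simp [j]
  letI := j.hom.toAlgebra
  letI := g.hom.toAlgebra
  obtain ⟨φ⟩ := FieldEmb.exists_algHom_of_card_lt (k := ↥(V.residueField (v (IsLocalRing.closedPoint K)))) h
  refine ⟨Spec.map (CommRingCat.ofHom φ.toRingHom) ≫ W.fromSpecResidueField w, ?_,
    (Scheme.Hom.comp_apply _ _ _).trans (Scheme.fromSpecResidueField_apply _ _)⟩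
  have hjg : j ≫ CommRingCat.ofHom φ.toRingHom = g :=
    CommRingCat.hom_ext (RingHom.ext fun z => φ.commutes z)
  rw [Category.assoc, ← hj, ← Category.assoc, ← Spec.map_comp, hjg, hg]

theorem exists_geometric_lift (hY : IsAlgSpace Y) (f : X ⟶ Y) {U : Over S}
    {a : (yon S).obj U ⟶ X} (has : RepWith @Surjective a)
    (p : FieldPt Y) (hp : p.IsGeometric)
    (hk : ∀ u : ↥U.left, #(U.left.residueField u) < #p.K) (x : Points X)
    (hx : Points.map f x = Points.mk p) :
    ∃ xbar : (yon S).obj p.pt ⟶ X, xbar ≫ f = p.toHom ∧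
      Points.ofPt xbar (IsLocalRing.closedPoint p.K) = x := by
  haveI : IsAlgClosed p.K := hp
  obtain ⟨u, rfl⟩ := surjective_ofPt has x
  obtain ⟨V, b, hb, hbs⟩ := hY.atlas
  obtain ⟨Z, r, t, sqZ⟩ := exists_sq hb.1 p.toHom
  haveI : Etale t.left := hb.2 _ _ _ sqZ
  haveI : Surjective t.left := hbs.2 _ _ _ sqZ
  obtain ⟨s, hs⟩ := exists_section_of_isAlgClosed (K := p.K) t.left
  let s' : p.pt ⟶ Z := Over.homMk s (by rw [← Over.w t, ← Category.assoc, hs]; exact Category.id_comp _)
  have hs' : s' ≫ t = 𝟙 _ := Over.OverMorphism.ext hs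
  let vbar : p.pt ⟶ V := s' ≫ pre r
  have hv : (yon S).map vbar ≫ b = p.toHom := by
    rw [Functor.map_comp, Category.assoc, map_pre, sqZ.w, ← Category.assoc, ← Functor.map_comp, hs',
      CategoryTheory.Functor.map_id, Category.id_comp]
  let c := IsLocalRing.closedPoint p.K
  obtain ⟨W, q, e, sq⟩ := exists_sq hb.1 (a ≫ f)
  haveI : Etale e.left := hb.2 _ _ _ sq
  have hy : Points.map b (Points.ofScheme V (vbar.left c)) = Points.ofPt (a ≫ f) u := by
    rw [← Points.ofPt_eq_map_ofScheme, ← Points.map_ofPt, hx, ← ofPt_comp, hv]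
    exact Points.ofPt_toHom p _
  obtain ⟨w, hw₁, hw₂⟩ := exists_point_of_sq sq _ u hy
  have hw₁' : (pre q).left w = vbar.left c := by
    have := congrArg (Points.toScheme V) hw₁
    rwa [ofPt_pre, Points.toScheme_ofScheme, Points.toScheme_ofScheme] at this
  have hcard : #(W.left.residueField w) < #p.K := card_residueField_lt e.left w (hk _)
  obtain ⟨σ, hσ, hσw⟩ := exists_point_lift_of_card (pre q).left vbar.left w hw₁' hcard
  let σ' : p.pt ⟶ W := Over.homMk σ (by
    rw [← Over.w (pre q), ← Category.assoc, hσ]; exact Over.w vbar)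
  have hσ' : σ' ≫ pre q = vbar := Over.OverMorphism.ext hσ
  refine ⟨(yon S).map (σ' ≫ e) ≫ a, ?_, ?_⟩
  · rw [Category.assoc, Functor.map_comp, Category.assoc, ← sq.w, ← map_pre q, ← Category.assoc,
      ← Functor.map_comp, hσ', hv]
  · refine (ofPt_comp (σ' ≫ e) a _).trans (congrArg _ ?_)
    change e.left (σ c) = u
    rw [← hw₂]
    exact congrArg _ hσw

end Groth.Agent.AlgSpDesc
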