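import Groth.Agent.AlgSpc.DecentDim
import Groth.Agent.AlgSpc.EtLocInst

/-!
Dimension inequalities for locally quasi-finite morphisms.
-/

set_option autoImplicit false
set_option linter.style.haveILetI false
set_option backward.isDefEq.respectTransparency false

universe u

open CategoryTheory CategoryTheory.Limits AlgebraicGeometry

namespace Groth.Agent.AlgSpDesc

open _root_.AlgSp Groth.Agent.AlgSpc

section Scheme

variable {X Y : Scheme.{u}} (f : X ⟶ Y)

theorem coheight_apply_le_of_flat [Flat f] (x : X) : Order.coheight (f x) ≤ Order.coheight x := by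
  have key : ∀ (s : LTSeries Y) (a : X), f a = s.head → ∃ t : LTSeries X, t.head = a ∧ t.length = s.length := by
    intro s
    induction s using RelSeries.inductionOn with
    | singleton b => exact fun a _ ↦ ⟨RelSeries.singleton _ a, rfl, rfl⟩
    | cons p b hbp ih =>
      intro a ha
      simp only [RelSeries.head_cons] at ha
      obtain ⟨a', ha', hfa'⟩ := Flat.generalizingMap f
        (show p.head ⤳ f a from ha ▸ (show b < p.head from hbp).le)
      obtain ⟨t, ht, htl⟩ := ih a' hfa'
      have hlt : b < p.head := hbp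
      have hne : a ≠ a' := fun h ↦ hlt.ne (by rw [← hfa', ← h, ha])
      refine ⟨t.cons a ?_, RelSeries.head_cons _ _ _, ?_⟩
      · rw [ht]; exact lt_of_le_not_ge (show a ≤ a' from ha') fun h' => hne ((show a' ⤳ a from ha').antisymm h').eq.symm
      · simp [htl]
  refine Order.coheight_le fun s hs => ?_
  obtain ⟨t, ht, htl⟩ := key s x hs.symm
  rw [← htl]
  exact Order.length_le_coheight (ht.symm.le)

theorem coheight_le_apply_of_lqf [LocallyQuasiFinite f] (x : X) :
    Order.coheight x ≤ Order.coheight (f x) :=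
  Order.coheight_le_coheight_apply_of_strictMono f (fun a b h => lt_of_le_not_ge
    (show f b ⤳ f a from (show b ⤳ a from h.le).map f.continuous) fun e => h.ne
      ((f.isDiscrete_preimage_singleton (f a)).eq_of_specializes (show b ⤳ a from h.le)
        (show f b = f a from (((show b ⤳ a from h.le).map f.continuous).antisymm e).eq) (show f a = f a from rfl)).symm) x

theorem topologicalKrullDim_le_of_lqf [LocallyQuasiFinite f] : topologicalKrullDim X ≤ topologicalKrullDim Y :=
  topologicalKrullDim_le_of_injOn_fibres f f.continuous fun a _ h e =>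
    (f.isDiscrete_preimage_singleton (f a)).eq_of_specializes h rfl e.symm

end Scheme

variable {S : Scheme.{u}} {X Y : Sp S} {f : X ⟶ Y}

theorem dim_le_of_lqf (hY : IsAlgSpace Y) (hf : LocP (@LocallyQuasiFinite ⊓ @LocallyOfFiniteType) f) :
    AlgSp.dim X ≤ AlgSp.dim Y := by
  refine iSup_le fun U => iSup_le fun a => iSup_le fun ha => ?_
  obtain ⟨V, b, hb, hbs⟩ := hY.atlas
  obtain ⟨W, fst, snd, sq⟩ := exists_sq hb.1 (a ≫ f)
  haveI : Etale snd.left := hb.2 _ _ _ sq
  haveI : Surjective snd.left := hbs.2 _ _ _ sq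
  haveI : LocallyQuasiFinite (pre fst).left := (hf ((yon S).map snd ≫ a) b (pre fst)
    (repWith_comp ((repWith_yon_map_iff _ snd).2 ‹_›) ha) hb (by rw [map_pre, Category.assoc, sq.w])).1
  refine ((FpqcDescent.topologicalKrullDim_le_of_generalizingMap snd.left (Flat.generalizingMap snd.left)
    snd.left.surjective).trans (topologicalKrullDim_le_of_lqf (pre fst).left)).trans ?_
  exact le_iSup_of_le V (le_iSup_of_le b (le_iSup_of_le hb le_rfl))

theorem stalk_dim_le_of_lqf (hf : LocP (@LocallyQuasiFinite ⊓ @LocallyOfFiniteType) f) {x : Points X}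
    {d e : WithBot ℕ∞} (hx : HasAt (fun U u => ringKrullDim ↥(U.presheaf.stalk u) = d) X x)
    (hy : HasAt (fun V v => ringKrullDim ↥(V.presheaf.stalk v) = e) Y (Points.map f x)) : d ≤ e := by
  obtain ⟨U, a, u, ha, rfl, rfl⟩ := hx
  obtain ⟨V, b, v, hb, hv, rfl⟩ := hy
  obtain ⟨W, fst, snd, sq⟩ := exists_sq hb.1 (a ≫ f)
  obtain ⟨w, hw₁, hw₂⟩ := exists_point_of_sq sq (Points.ofScheme V v) u
    (by rw [← Points.ofPt_eq_map_ofScheme, hv, Points.map_ofPt])
  rw [ofPt_pre] at hw₁
  replace hw₁ : (pre fst).left w = v := by simpa using congrArg (Points.toScheme V) hw₁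
  haveI : Etale snd.left := hb.2 _ _ _ sq
  haveI : LocallyQuasiFinite (pre fst).left := (hf ((yon S).map snd ≫ a) b (pre fst)
    (repWith_comp ((repWith_yon_map_iff _ snd).2 ‹_›) ha) hb (by rw [map_pre, Category.assoc, sq.w])).1
  rw [ringKrullDim_stalk_eq_coheight, ringKrullDim_stalk_eq_coheight, ← hw₁, ← hw₂]
  exact WithBot.coe_le_coe.2 ((coheight_apply_le_of_flat snd.left w).trans
    (coheight_le_apply_of_lqf (pre fst).left w))

end Groth.Agent.AlgSpDesc
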