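import Groth.Agent.AlgSpDesc.NoethFibre
import Groth.Agent.AlgSpDesc.OnePoint
import Groth.Agent.AlgSpDesc.DVRCriterion
import Groth.Agent.AlgSpc.FibreProd
import Groth.Agent.AlgSpc.SepLQF2
import Mathlib.AlgebraicGeometry.Morphisms.QuasiFinite

/-!
Locally quasi-finite morphisms are those with discrete fibres.
-/

universe u

open CategoryTheory CategoryTheory.Limits AlgebraicGeometry

set_option backward.isDefEq.respectTransparency false
set_option linter.style.haveILetI false

namespace Groth.Agent.AlgSpDesc

open _root_.AlgSp Groth.Agent.AlgSpc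

variable {S : Scheme.{u}} {X Y : Sp S} {f : X ⟶ Y}

/-- The fibres of a locally quasi-finite morphism over field points are discrete. -/
theorem discrete_fibre_of_lqf (hX : IsAlgSpace X) (hY : IsAlgSpace Y)
    (hf : LocP (@LocallyQuasiFinite ⊓ @LocallyOfFiniteType) f)
    {k : Type u} [Field k] {str : Spec (CommRingCat.of k) ⟶ S}
    {y : (yon S).obj (Over.mk str) ⟶ Y} {P : Sp S} {fst : P ⟶ X}
    {snd : P ⟶ (yon S).obj (Over.mk str)} (sq : IsPullback fst snd f y) :
    DiscreteTopology (Points P) := by
  have hP := isAlgSpace_of_isPullback hX hY (IsAlgSpace.yon_obj _) sq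
  have h := locP_base_change hX hY (IsAlgSpace.yon_obj _) sq hf
  obtain ⟨U, a, ha, has⟩ := hP.atlas
  have hU := h a (𝟙 _) (pre (a ≫ snd)) ha (repWith_id _ _) (by rw [map_pre, Category.comp_id])
  haveI : LocallyQuasiFinite (pre (a ≫ snd)).left := hU.1
  haveI : DiscreteTopology ↥U.left := discreteTopology_of_lqf_to_field (pre (a ≫ snd)).left
  refine discreteTopology_iff_isOpen_singleton.2 fun p => ?_
  obtain ⟨u, rfl⟩ := surjective_ofPt has p
  simpa using isOpenMap_ofPt ha {u} (isOpen_discrete _)

/-- A chart of a space with discrete points, lft over a field, is discrete. -/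
theorem discrete_chart {P : Sp S} (hP : IsAlgSpace P) [DiscreteTopology (Points P)]
    {k : Type u} [Field k] {str : Spec (CommRingCat.of k) ⟶ S}
    {g : P ⟶ (yon S).obj (Over.mk str)} (hg : LocP @LocallyOfFiniteType g)
    {W : Over S} {c : (yon S).obj W ⟶ P} (hc : RepWith @Etale c) :
    DiscreteTopology ↥W.left := by
  have hN : IsLocNoethSp P := isLocNoethSp_of_lft hP hg
    ⟨Over.mk str, 𝟙 _, repWith_id _ _, repWith_id _ _,
      inferInstanceAs (IsLocallyNoetherian (Spec (CommRingCat.of k)))⟩
  haveI := AlgSpLoc.isLocallyNoetherian_chart hN hc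
  refine discreteTopology_of_maximal fun u u' h => (eq_of_specializes_of_isLocNoethSp hN hc ?_ h).symm
  exact ((h.map (Points.continuous_ofPt c)).eq).symm

/-- Discrete fibres make a morphism locally of finite type locally quasi-finite. -/
theorem lqf_of_discrete_fibres (hX : IsAlgSpace X) (hY : IsAlgSpace Y)
    (hf : LocP @LocallyOfFiniteType f)
    (hd : ∀ (k : Type u) [Field k] (str : Spec (CommRingCat.of k) ⟶ S)
      (y : (yon S).obj (Over.mk str) ⟶ Y) (P : Sp S) (fst : P ⟶ X)
      (snd : P ⟶ (yon S).obj (Over.mk str)), IsPullback fst snd f y → DiscreteTopology (Points P)) :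
    LocP (@LocallyQuasiFinite ⊓ @LocallyOfFiniteType) f := by
  intro U V a b h ha hb w
  haveI : LocallyOfFiniteType h.left := hf a b h ha hb w
  refine ⟨?_, ‹_›⟩
  rw [locallyQuasiFinite_iff_isDiscrete_preimage_singleton]
  intro v
  let T : Over S := Over.mk (V.left.fromSpecResidueField v ≫ V.hom)
  let j : T ⟶ V := Over.homMk (V.left.fromSpecResidueField v) rfl
  let y : (yon S).obj T ⟶ Y := (yon S).map j ≫ b
  have sq : IsPullback (pullback.fst f y) (pullback.snd f y) f y := IsPullback.of_hasPullback _ _
  have hP := isAlgSpace_of_isPullback hX hY (IsAlgSpace.yon_obj T) sq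
  haveI : DiscreteTopology (Points (pullback f y)) := hd _ _ y _ _ _ sq
  have hg := locP_base_change hX hY (IsAlgSpace.yon_obj T) sq hf
  obtain ⟨W, q, d, sqd⟩ := exists_sq (hY.representable_from_yon (a ≫ f)) y
  let c := sq.lift (q ≫ a) ((yon S).map d) (by rw [Category.assoc]; exact sqd.w)
  have sqc : IsPullback q c a (pullback.fst f y) :=
    IsPullback.of_bot (by simpa only [c, IsPullback.lift_snd] using sqd)
      (sq.lift_fst _ _ _).symm sq
  haveI := discrete_chart hP hg (c := c) (repWith_of_isPullback sqc ha)
  let F : Over S := pullback h j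
  have hcond : pullback.fst h j ≫ h = pullback.snd h j ≫ j := pullback.condition
  have w₁ : ((yon S).map (pullback.fst h j) ≫ a) ≫ f = (yon S).map (pullback.snd h j) ≫ y := by
    rw [Category.assoc, w, ← Category.assoc, ← Functor.map_comp, hcond, Functor.map_comp, Category.assoc]
  let l := pre (sqc.lift ((yon S).map (pullback.fst h j)) (sq.lift _ _ w₁) (sq.lift_fst _ _ w₁).symm)
  have hl : l ≫ pre q = pullback.fst h j := (yon S).map_injective (by simp [l])
  have hF : IsPullback (pullback.fst h j).left (pullback.snd h j).left h.left j.left :=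
    (IsPullback.of_hasPullback h j).map (Over.forget S)
  haveI : IsPreimmersion (pullback.fst h j).left :=
    MorphismProperty.of_isPullback (P := @IsPreimmersion) hF.flip
      (inferInstanceAs (IsPreimmersion (V.left.fromSpecResidueField v)))
  have hi := (pullback.fst h j).left.isEmbedding
  have hinj : Function.Injective l.left := fun x x' e => hi.injective (by
    rw [← hl, Over.comp_left, Scheme.Hom.comp_apply, Scheme.Hom.comp_apply, e])
  haveI : DiscreteTopology ↥(pullback h j).left := DiscreteTopology.of_continuous_injective l.left.continuous hinj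
  have hrange : h.left ⁻¹' {v} = Set.range (pullback.fst h j).left := by
    have e := hF.isoPullback_hom_fst
    rw [← e, Scheme.Hom.comp_base, TopCat.coe_comp, Set.range_comp,
      Set.range_eq_univ.2 hF.isoPullback.hom.surjective, Set.image_univ, Scheme.Pullback.range_fst]
    change _ = h.left ⁻¹' Set.range (V.left.fromSpecResidueField v)
    rw [Scheme.range_fromSpecResidueField]
  rw [hrange, isDiscrete_iff_discreteTopology]
  exact hi.toHomeomorph.symm.isEmbedding.discreteTopology

end Groth.Agent.AlgSpDesc
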