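import Groth.Agent.AlgSpDesc.Pointwise
import Groth.Agent.AlgSpDesc.OnePoint
import Groth.Agent.AlgSpc.EtLocInst
import Groth.Agent.TopDimLib.Basic
import Mathlib.AlgebraicGeometry.ZariskisMainTheorem

/-!
Local quasi-finiteness through fibres.
-/

set_option autoImplicit false
set_option linter.style.haveILetI false
set_option backward.isDefEq.respectTransparency false

universe u

open CategoryTheory CategoryTheory.Limits AlgebraicGeometry

namespace Groth.Agent.AlgSpDesc

open _root_.AlgSp Groth.Agent.AlgSpc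

section Scheme

variable {X Y : Scheme.{u}} (f : X ⟶ Y) [LocallyOfFiniteType f]

theorem isOpen_singleton_of_localDim_zero {Z : Scheme.{u}} [IsLocallyNoetherian Z] {z : Z}
    (h : FlatMor.localDim Z z = 0) : IsOpen ({z} : Set Z) := by
  obtain ⟨O, hzO, hO⟩ := TopDimLib.exists_localDim_eq z
  let O' : Z.Opens := O
  haveI : IsLocallyArtinian (O' : Scheme.{u}) :=
    IsLocallyArtinian.of_topologicalKrullDim_le_zero (X := (O' : Scheme.{u})) (hO.trans h).le
  simpa using O'.2.isOpenMap_subtype_val {(⟨z, hzO⟩ : O')} (isOpen_discrete (α := ↥(O' : Scheme.{u})) _)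

theorem quasiFiniteAt_iff_fibreDimAt (x : X) : f.QuasiFiniteAt x ↔ FlatMor.fibreDimAt f x = 0 := by
  rw [Scheme.Hom.quasiFiniteAt_iff_isOpen_singleton_asFiber]
  haveI : LocallyOfFiniteType (f.fiberToSpecResidueField (f x)) :=
    MorphismProperty.pullback_snd (P := @LocallyOfFiniteType) f _ ‹_›
  haveI : IsLocallyNoetherian (f.fiber (f x)) :=
    LocallyOfFiniteType.isLocallyNoetherian (f.fiberToSpecResidueField (f x))
  refine ⟨fun h => ?_, fun h => isOpen_singleton_of_localDim_zero h⟩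
  have hdisc : DiscreteTopology ↥({f.asFiber x} : Set (f.fiber (f x))) :=
    discreteTopology_iff_forall_isOpen.2 fun s => by
      rcases Set.Subsingleton.eq_empty_or_singleton (s := s) (fun a _ b _ => Subtype.ext (a.2.trans b.2.symm)) with rfl | ⟨a, rfl⟩
      · exact isOpen_empty
      · convert isOpen_univ
        exact Set.eq_univ_of_forall fun b => Subtype.ext (b.2.trans a.2.symm)
  obtain ⟨O, hxO, hO⟩ := TopDimLib.exists_localDim_eq (f.asFiber x)
  refine le_antisymm ((iInf_le _ ⟨⟨_, h⟩, rfl⟩).trans (topologicalKrullDim_zero_of_discreteTopology _)) ?_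
  change (0 : WithBot ℕ∞) ≤ FlatMor.localDim _ _
  rw [← hO]
  have : Nonempty (TopologicalSpace.IrreducibleCloseds (O : Set (f.fiber (f x)))) :=
    ⟨⟨closure {⟨f.asFiber x, hxO⟩}, isIrreducible_singleton.closure, isClosed_closure⟩⟩
  exact Order.krullDim_nonneg

theorem lqf_restrict_quasiFiniteLocus :
    (@LocallyQuasiFinite ⊓ @LocallyOfFiniteType : MorphismProperty Scheme.{u}) (f.quasiFiniteLocus.ι ≫ f) := by
  haveI : LocallyOfFiniteType (f.quasiFiniteLocus.ι ≫ f) := inferInstance
  refine ⟨(Scheme.Hom.quasiFiniteLocus_eq_top_iff _).1 ?_, ‹_›⟩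
  rw [Scheme.Hom.quasiFiniteLocus_comp]
  exact Scheme.Opens.ι_preimage_self _

end Scheme

variable {S : Scheme.{u}} {X Y : Sp S} {f : X ⟶ Y}

theorem lqf_iff_relDim_zero (hX : IsAlgSpace X) (hY : IsAlgSpace Y) (hf : LocP @LocallyOfFiniteType f) :
    LocP (@LocallyQuasiFinite ⊓ @LocallyOfFiniteType) f ↔
      ∀ x : Points X, HasAtMor (fun _ _ h u => FlatMor.fibreDimAt h u = 0) f x := by
  constructor
  · intro h x
    obtain ⟨U, V, a, b, k, ha, has, hb, -, w⟩ := exists_chart hX hY f
    obtain ⟨u, rfl⟩ := surjective_ofPt has x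
    obtain ⟨h1, h2⟩ := h a b k ha hb w
    haveI := h1; haveI := h2
    exact ⟨U, V, a, b, k, u, ha, hb, w, rfl, (quasiFiniteAt_iff_fibreDimAt k.left u).1 (k.left.quasiFiniteAt u)⟩
  · intro h
    refine (locP_iff_hasAtMor hX hY f).2 fun x => ?_
    obtain ⟨U, V, a, b, k, u, ha, hb, w, hu, hd⟩ := h x
    haveI : LocallyOfFiniteType k.left := hf a b k ha hb w
    exact ⟨U, V, a, b, k, u, ha, hb, w, hu, k.left.quasiFiniteLocus,
      (quasiFiniteAt_iff_fibreDimAt k.left u).2 hd, lqf_restrict_quasiFiniteLocus k.left⟩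

end Groth.Agent.AlgSpDesc
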