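import Groth.Agent.AlgSpDesc.RelDimBC
import Groth.Agent.AlgSpDesc.LqfFibre
import Groth.Agent.AlgSpLoc.OpenSubspace
import Groth.Agent.FibreDimChart.Mono

/-!
The locally quasi-finite locus of a morphism of algebraic spaces.
-/

set_option autoImplicit false
set_option linter.style.haveILetI false
set_option backward.isDefEq.respectTransparency false

universe u

open CategoryTheory CategoryTheory.Limits AlgebraicGeometry

namespace Groth.Agent.AlgSpDesc

open _root_.AlgSp Groth.Agent.AlgSpc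

theorem fibreDimAt_eq_zero_of_lqf_near {X Y : Scheme.{u}} {h : X ⟶ Y} {u : X} (W : X.Opens) (hu : u ∈ W)
    (h1 : LocallyQuasiFinite (W.ι ≫ h)) (h2 : LocallyOfFiniteType (W.ι ≫ h)) :
    FlatMor.fibreDimAt h u = 0 := by
  have := (quasiFiniteAt_iff_fibreDimAt (W.ι ≫ h) ⟨u, hu⟩).1 ((W.ι ≫ h).quasiFiniteAt _)
  rwa [fibreDimAt_etale_comp] at this

theorem fibreDimAt_le_zero_iff {X Y : Scheme.{u}} (h : X ⟶ Y) [LocallyOfFiniteType h] (u : X) :
    FlatMor.fibreDimAt h u ≤ ((0 : ℕ) : WithBot ℕ∞) ↔ FlatMor.fibreDimAt h u = 0 :=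
  ⟨fun hle => le_antisymm (by simpa using hle) (FibreDimChart.zero_le_fibreDimAt h u),
    fun e => by simp [e]⟩

theorem one_le_of_not_le_zero {X Y : Scheme.{u}} (h : X ⟶ Y) [LocallyOfFiniteType h] (u : X)
    (hu : ¬ FlatMor.fibreDimAt h u ≤ ((0 : ℕ) : WithBot ℕ∞)) : 1 ≤ FlatMor.fibreDimAt h u := by
  obtain ⟨n, hn⟩ := FibreDimChart.exists_nat_fibreDimAt_eq h u
  rw [hn] at hu ⊢
  obtain _ | n := n
  · exact absurd le_rfl hu
  · exact_mod_cast Nat.succ_pos n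

variable {S : Scheme.{u}}

/-- The open subspace where a morphism is locally quasi-finite. -/
theorem exists_lqf_locus {X Y : Space S} (f : X ⟶ Y) (hf : LocP @LocallyOfFiniteType f.hom) :
    ∃ (X' : Space S) (j : X' ⟶ X), RepWith @IsOpenImmersion j.hom ∧
      LocP (@LocallyQuasiFinite ⊓ @LocallyOfFiniteType) (j ≫ f).hom ∧
      Set.range (Points.map j.hom) =
        {x | HasAtMor (fun _ _ h u => FlatMor.fibreDimAt h u ≤ ((0 : ℕ) : WithBot ℕ∞)) f.hom x} := by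
  obtain ⟨U, V, a, b, k, ha, has, hb, -, w⟩ := exists_chart X.property Y.property f.hom
  haveI : LocallyOfFiniteType k.left := hf a b k ha hb w
  have hO : IsOpen {x : Points X.obj |
      HasAtMor (fun _ _ h u => FlatMor.fibreDimAt h u ≤ ((0 : ℕ) : WithBot ℕ∞)) f.hom x} := by
    rw [← (isQuotientMap_ofPt ha has).isOpen_preimage]
    convert! FibreDimChart.isOpen_fibreDimAt_le k.left 0
    ext u
    exact hasAtMor_fibreDimAt_iff (· ≤ ((0 : ℕ) : WithBot ℕ∞)) ha hb w u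
  obtain ⟨X', j, hj, hr⟩ := AlgSpLoc.exists_openSubspace X hO
  refine ⟨X', j, hj, (locP_iff_hasAtMor X'.property Y.property _).2 fun x' => ?_, hr⟩
  obtain ⟨u, hu⟩ := surjective_ofPt has (Points.map j.hom x')
  obtain ⟨U', q, r, sq⟩ := exists_sq hj.1 a
  haveI : IsOpenImmersion r.left := hj.2 _ _ _ sq
  have hq : RepWith @Etale q := repWith_of_isPullback sq.flip ha
  obtain ⟨t, ht₁, rfl⟩ := exists_point_of_sq sq x' u hu.symm
  have wq : q ≫ (j ≫ f).hom = (yon S).map (r ≫ k) ≫ b := by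
    rw [ObjectProperty.FullSubcategory.comp_hom, reassoc_of% sq.w, w, Functor.map_comp, Category.assoc]
  haveI : LocallyOfFiniteType (r ≫ k).left := by rw [Over.comp_left]; infer_instance
  have h0 : FlatMor.fibreDimAt (r ≫ k).left t = 0 := by
    rw [Over.comp_left, fibreDimAt_etale_comp, ← fibreDimAt_le_zero_iff]
    exact (hasAtMor_fibreDimAt_iff (· ≤ ((0 : ℕ) : WithBot ℕ∞)) ha hb w _).1
      (hu ▸ hr.le ⟨x', rfl⟩)
  exact ⟨U', V, q, b, r ≫ k, t, hq, hb, wq, ht₁, _, (quasiFiniteAt_iff_fibreDimAt _ t).2 h0,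
    lqf_restrict_quasiFiniteLocus _⟩

theorem lqf_locus_baseChange {X Y Y'' X'' : Space S} {f : X ⟶ Y} {g : Y'' ⟶ Y} {b : X'' ⟶ X} {f'' : X'' ⟶ Y''}
    (hf : LocP @LocallyOfFiniteType f.hom) (sq : IsPullback b.hom f''.hom f.hom g.hom) (x'' : Points X''.obj) :
    HasAtMor (fun _ _ h u => FlatMor.fibreDimAt h u ≤ ((0 : ℕ) : WithBot ℕ∞)) f.hom (Points.map b.hom x'') ↔
      HasAtMor (fun U _ h u => ∃ W : U.Opens, u ∈ W ∧ LocallyQuasiFinite (W.ι ≫ h) ∧ LocallyOfFiniteType (W.ι ≫ h))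
        f''.hom x'' := by
  obtain ⟨U, V, U', V', a, c, a', c', k, k', ω, wU, u', ha, hc, ha', hc', w, w', sU, rfl, hu⟩ :=
    exists_charts_isPullback sq x''
  haveI : LocallyOfFiniteType k.left := hf a c k ha hc w
  haveI : LocallyOfFiniteType k'.left := MorphismProperty.of_isPullback sU ‹_›
  rw [← hu, hasAtMor_fibreDimAt_iff (· ≤ ((0 : ℕ) : WithBot ℕ∞)) ha hc w,
    ← FibreDimChart.fibreDimAt_of_isPullback k.left ω.left wU.left k'.left sU u', fibreDimAt_le_zero_iff]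
  refine ⟨fun h0 => ⟨U', V', a', c', k', u', ha', hc', w', rfl, _, (quasiFiniteAt_iff_fibreDimAt _ u').2 h0,
    (lqf_restrict_quasiFiniteLocus k'.left).1, (lqf_restrict_quasiFiniteLocus k'.left).2⟩, ?_⟩
  rintro ⟨U₁, V₁, a₁, b₁, k₁, u₁, ha₁, hb₁, w₁, e, W, hW, h1, h2⟩
  rw [← fibreDimAt_unique ha₁ hb₁ w₁ ha' hc' w' e]
  exact fibreDimAt_eq_zero_of_lqf_near W hW h1 h2

end Groth.Agent.AlgSpDesc
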