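import Groth.Agent.AlgSpc.Basic
import Groth.Agent.AlgSpc.LocP
import Groth.Agent.AlgSpLoc.AffineMor
import Groth.Agent.AlgSpLoc.Cover
import Mathlib.AlgebraicGeometry.Morphisms.LocalFlatDescent

/-!
A monomorphism to the spectrum of a field.
-/

set_option autoImplicit false
set_option linter.style.haveILetI false
set_option backward.isDefEq.respectTransparency false

universe u

open CategoryTheory CategoryTheory.Limits AlgebraicGeometry

namespace Groth.Agent.AlgSpDesc

open _root_.AlgSp Groth.Agent.AlgSpc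

variable {S : Scheme.{u}}

theorem isIso_of_mono_field {k : Type u} [Field k] {str : Spec (CommRingCat.of k) ⟶ S} {Z : Sp S}
    (hZ : IsAlgSpace Z) (f : Z ⟶ (yon S).obj (Over.mk str)) [Mono f] (z : Points Z) : IsIso f := by
  obtain ⟨U, p, hp, hps⟩ := hZ.atlas
  obtain ⟨u, -⟩ := surjective_ofPt hps z
  obtain ⟨A, hA, huA, -⟩ := exists_isAffineOpen_mem_and_subset (show u ∈ (⊤ : U.left.Opens) from trivial)
  let U₀ : Over S := Over.mk (hA.fromSpec ≫ U.hom)
  let j : U₀ ⟶ U := Over.homMk hA.fromSpec rfl
  obtain ⟨a, ha⟩ : ∃ a : (yon S).obj U₀ ⟶ Z, RepWith @Etale a :=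
    ⟨(yon S).map j ≫ p, repWith_comp ((repWith_yon_map_iff _ j).2 (inferInstanceAs (Etale hA.fromSpec))) hp⟩
  haveI : Nonempty ↥U₀.left := ⟨hA.primeIdealOf ⟨u, huA⟩⟩
  haveI : IsAffine U₀.left := inferInstanceAs (IsAffine (Spec _))
  let v : U₀ ⟶ Over.mk str := pre (a ≫ f)
  obtain ⟨φ, hφ⟩ : ∃ φ : CommRingCat.of k ⟶ Γ(U.left, A), Spec.map φ = v.left := Spec.map_surjective v.left
  haveI : Flat v.left := by
    rw [← hφ, Flat.SpecMap_iff]
    algebraize [φ.hom]
    exact inferInstanceAs (Module.Flat k Γ(U.left, A))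
  haveI : Surjective v.left := ⟨fun t => ⟨Classical.arbitrary _, Subsingleton.elim (α := PrimeSpectrum k) _ t⟩⟩
  haveI : IsAffine (Over.mk str).left := inferInstanceAs (IsAffine (Spec _))
  haveI : QuasiCompact v.left := (quasiCompact_iff_compactSpace v.left).2 inferInstance
  obtain ⟨W, fst, snd, sq⟩ := exists_sq ha.1 a
  haveI : Etale snd.left := ha.2 _ _ _ sq
  obtain ⟨fst, rfl⟩ := (yon S).map_surjective fst
  have hv : (yon S).map v = a ≫ f := map_pre _
  have w : (yon S).map fst ≫ (yon S).map v = (yon S).map snd ≫ (yon S).map v := by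
    rw [hv, ← Category.assoc, ← Category.assoc, sq.w]
  have sv : IsPullback ((yon S).map fst) ((yon S).map snd) ((yon S).map v) ((yon S).map v) := by
    have hc : ∀ s : PullbackCone ((yon S).map v) ((yon S).map v), s.fst ≫ a = s.snd ≫ a := fun s => by
      rw [← cancel_mono f, Category.assoc, Category.assoc, ← hv]
      exact s.condition
    exact ⟨⟨w⟩, ⟨PullbackCone.IsLimit.mk w (fun s => sq.lift s.fst s.snd (hc s))
      (fun s => sq.lift_fst _ _ _) (fun s => sq.lift_snd _ _ _)
      fun s m h1 h2 => sq.hom_ext (by rw [sq.lift_fst]; exact h1) (by rw [sq.lift_snd]; exact h2)⟩⟩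
  have sv' : IsPullback fst.left snd.left v.left v.left :=
    (IsPullback.of_map (yon S) ((yon S).map_injective (by simpa using w)) sv).map (Over.forget S)
  haveI : Etale v.left := MorphismProperty.of_isPullback_of_descendsAlong
    (Q := @Surjective ⊓ @Flat ⊓ @QuasiCompact) (P := @Etale) sv'.flip
    ⟨⟨inferInstance, inferInstance⟩, inferInstance⟩ ‹_›
  refine AlgSpLoc.isIso_of_mono_of_sq f fun T g => ?_
  refine ⟨pullback (pre g) v, pullback.fst _ _, (yon S).map (pullback.snd _ _) ≫ a, ?_, ?_, ?_, ?_⟩
  iterate 3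
    · have h := ((IsPullback.of_hasPullback (pre g) v).map (Over.forget S))
      first
        | exact MorphismProperty.of_isPullback (P := @Flat) h.flip (inferInstance : Flat v.left)
        | exact MorphismProperty.of_isPullback (P := @Surjective) h.flip (inferInstance : Surjective v.left)
        | exact MorphismProperty.of_isPullback (P := @LocallyOfFinitePresentation) h.flip (inferInstance : LocallyOfFinitePresentation v.left)
  · rw [Category.assoc, ← hv, ← Functor.map_comp, ← pullback.condition, Functor.map_comp, map_pre]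

end Groth.Agent.AlgSpDesc
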