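import Groth.Agent.AlgSpc.Basic
import Groth.Agent.AlgSpc.LocP
import Groth.Agent.AlgSpLoc.FlatFibres
import Mathlib.AlgebraicGeometry.Properties
import Mathlib.RingTheory.Ideal.KrullsHeightTheorem

/-!
No specializations in the fibres of an etale chart of a locally noetherian algebraic space.
-/

set_option autoImplicit false
set_option linter.style.haveILetI false
set_option backward.isDefEq.respectTransparency false

universe u

open CategoryTheory CategoryTheory.Limits AlgebraicGeometry

namespace Groth.Agent.AlgSpDesc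

open _root_.AlgSp Groth.Agent.AlgSpc

variable {S : Scheme.{u}}

theorem coheight_lt_top {U : Scheme.{u}} [IsLocallyNoetherian U] (x : U) : Order.coheight x < ⊤ := by
  have h := ringKrullDim_lt_top (R := U.presheaf.stalk x)
  rw [AlgebraicGeometry.ringKrullDim_stalk_eq_coheight] at h
  exact WithBot.coe_lt_coe.1 h

theorem eq_of_specializes_of_isLocNoethSp {X : Sp S} (hX : IsLocNoethSp X) {U : Over S}
    {a : (yon S).obj U ⟶ X} (ha : RepWith @Etale a) {u u' : ↥U.left}
    (he : Points.ofPt a u = Points.ofPt a u') (hs : u' ⤳ u) : u = u' := by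
  haveI : IsLocallyNoetherian U.left := AlgSpLoc.isLocallyNoetherian_chart hX ha
  obtain ⟨W, fst, snd, sq⟩ := exists_sq ha.1 a
  haveI : Etale (pre fst).left := sq_etale sq ha
  haveI : Etale snd.left := ha.2 _ _ _ sq
  haveI : LocallyQuasiFinite (pre fst).left := AlgSpLoc.locallyQuasiFinite_of_etale _
  by_contra hne
  let M : Set U.left := {v' | ∃ v, v' ⤳ v ∧ v ≠ v' ∧ Points.ofPt a v = Points.ofPt a v'}
  obtain ⟨v', ⟨v, hvv', hvne, hev⟩, hmin⟩ :=
    (InvImage.wf (fun z : U.left => (Order.coheight z).toNat) Nat.lt_wfRel.wf).has_min M ⟨u', u, hs, hne, he⟩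
  obtain ⟨r, hr₁, hr₂⟩ := exists_point_of_sq sq (Points.ofScheme U v') v
    (by rw [← Points.ofPt_eq_map_ofScheme]; exact hev.symm)
  have hr₁' : (pre fst).left r = v' := by
    have := congrArg (Points.toScheme U) hr₁
    rwa [← map_pre fst, Points.toScheme_ofPt, Points.toScheme_ofScheme] at this
  obtain ⟨r', hr', hr'₂⟩ := Flat.generalizingMap snd.left (hr₂.symm ▸ hvv' : v' ⤳ snd.left r)
  let v'' := (pre fst).left r'
  have hs'' : v'' ⤳ v' := hr₁' ▸ hr'.map (pre fst).left.continuous
  have hne' : v'' ≠ v' := by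
    intro h
    have := ((pre fst).left.isDiscrete_preimage_singleton v').eq_of_specializes hr' h hr₁'
    rw [this, hr₂] at hr'₂
    exact hvne hr'₂
  have he'' : Points.ofPt a v'' = Points.ofPt a v' := by
    have h₁ := ofPt_comp (pre fst) a r'
    rw [map_pre, sq.w, ofPt_comp, hr'₂] at h₁
    exact h₁.symm
  refine hmin v'' ⟨v', hs'', hne'.symm, he''.symm⟩ ?_
  have hlt : v' < v'' := lt_iff_le_not_ge.2 ⟨hs'', fun h => hne' ((hs''.antisymm h).eq)⟩
  have h1 := Order.coheight_strictAnti hlt (coheight_lt_top v'')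
  change (Order.coheight v'').toNat < (Order.coheight v').toNat
  rw [← ENat.coe_lt_coe, ENat.coe_toNat (coheight_lt_top _).ne, ENat.coe_toNat (coheight_lt_top _).ne]
  exact h1

end Groth.Agent.AlgSpDesc
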