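import Groth.Agent.AlgSpc.Listed
import Groth.Agent.AlgSpc.Basic
import Groth.Agent.AlgSpc.LocP
import Groth.Prelude.Def_AlgSpDec

/-!
Properties which are etale local on source and target, read pointwise.
-/

set_option autoImplicit false
set_option linter.style.haveILetI false
set_option backward.isDefEq.respectTransparency false

universe u

open CategoryTheory CategoryTheory.Limits AlgebraicGeometry

namespace Groth.Agent.AlgSpDesc

open _root_.AlgSp Groth.Agent.AlgSpc

variable {S : Scheme.{u}}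

theorem listed_zariskiLocal (P : MorphismProperty Scheme.{u})
    (hP : P = @LocallyOfFiniteType ∨ P = @LocallyOfFinitePresentation ∨ P = @Flat ∨ P = @Smooth ∨ P = @Etale ∨
      (∀ ⦃A B : Scheme.{u}⦄ (g : A ⟶ B), P g ↔ (LocallyQuasiFinite g ∧ LocallyOfFiniteType g)) ∨
      (∀ ⦃A B : Scheme.{u}⦄ (g : A ⟶ B), P g ↔ (LocallyOfFiniteType g ∧ FormallyUnramified g))) :
    IsZariskiLocalAtSource P := by
  rcases hP with rfl | rfl | rfl | rfl | rfl | h | h
  iterate 5 infer_instance
  · obtain rfl : P = (@LocallyQuasiFinite ⊓ @LocallyOfFiniteType : MorphismProperty Scheme.{u}) :=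
      MorphismProperty.ext _ _ fun A B g => h g
    infer_instance
  · obtain rfl : P = (@LocallyOfFiniteType ⊓ @FormallyUnramified : MorphismProperty Scheme.{u}) :=
      MorphismProperty.ext _ _ fun A B g => h g
    infer_instance

theorem locP_iff_hasAtMor {P : MorphismProperty Scheme.{u}} [EtLoc P] [IsZariskiLocalAtSource P]
    {X Y : Sp S} (hX : IsAlgSpace X) (hY : IsAlgSpace Y) (f : X ⟶ Y) :
    LocP P f ↔ ∀ x : Points X, HasAtMor (fun U _ h u => ∃ W : U.Opens, u ∈ W ∧ P (W.ι ≫ h)) f x := by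
  refine ⟨fun hf x => ?_, fun hf => ?_⟩
  · obtain ⟨U, V, a, b, k, ha, has, hb, -, w⟩ := exists_chart hX hY f
    obtain ⟨u, rfl⟩ := surjective_ofPt has x
    exact ⟨U, V, a, b, k, u, ha, hb, w, rfl, ⊤, trivial, EtLoc.precomp _ _ inferInstance (hf a b k ha hb w)⟩
  intro U₀ V₀ a₀ b₀ k₀ ha₀ hb₀ w₀
  have key : ∀ u₀ : ↥U₀.left, ∃ O : U₀.left.Opens, u₀ ∈ O ∧ P (O.ι ≫ k₀.left) := fun u₀ => by
    obtain ⟨U, V, a, b, h, u, ha, hb, w, hu, W, huW, hW⟩ := hf (Points.ofPt a₀ u₀)
    obtain ⟨T, q, r, sq⟩ := exists_sq ha.1 a₀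
    haveI : Etale r.left := ha.2 _ _ _ sq
    haveI : Etale (pre q).left := sq_etale sq ha₀
    obtain ⟨t, ht₁, ht₂⟩ := exists_point_of_sq sq (Points.ofScheme U u) u₀
      (by rw [← Points.ofPt_eq_map_ofScheme]; exact hu)
    have ht₁' : (pre q).left t = u := by
      have := congrArg (Points.toScheme U) ht₁
      rwa [← map_pre q, Points.toScheme_ofPt, Points.toScheme_ofScheme] at this
    obtain ⟨R, s₁, s₂, sR⟩ := exists_sq hb.1 b₀
    haveI : Etale s₂.left := hb.2 _ _ _ sR
    haveI : Etale (pre s₁).left := sq_etale sR hb₀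
    have wl : ((yon S).map (pre q ≫ h)) ≫ b = (yon S).map (r ≫ k₀) ≫ b₀ := by
      rw [Functor.map_comp, Category.assoc, ← w, map_pre, ← Category.assoc, sq.w, Functor.map_comp,
        Category.assoc, Category.assoc, w₀]
    let m : T ⟶ R := pre (sR.lift _ _ wl)
    have hm₁ : m ≫ pre s₁ = pre q ≫ h := (yon S).map_injective (by
      rw [Functor.map_comp, map_pre, map_pre, sR.lift_fst])
    have hm₂ : m ≫ s₂ = r ≫ k₀ := (yon S).map_injective (by rw [Functor.map_comp, map_pre, sR.lift_snd])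
    let T' : T.left.Opens := (pre q).left ⁻¹ᵁ W
    have h1 : P ((T'.ι ≫ m.left) ≫ (pre s₁).left) := by
      rw [Category.assoc, show m.left ≫ (pre s₁).left = (pre q).left ≫ h.left from congrArg CommaMorphism.left hm₁,
        show T'.ι ≫ (pre q).left ≫ h.left = ((pre q).left ∣_ W) ≫ W.ι ≫ h.left by
          rw [morphismRestrict_ι_assoc]]
      exact EtLoc.precomp _ _ (IsZariskiLocalAtTarget.restrict (P := @Etale) inferInstance W) hW
    have h2 : P ((T'.ι ≫ r.left) ≫ k₀.left) := by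
      have := EtLoc.postcomp _ s₂.left inferInstance (EtLoc.cancel (T'.ι ≫ m.left) (pre s₁).left inferInstance h1)
      rw [Category.assoc, show m.left ≫ s₂.left = r.left ≫ k₀.left from congrArg CommaMorphism.left hm₂] at this
      rwa [Category.assoc]
    let O : U₀.left.Opens := ⟨Set.range (T'.ι ≫ r.left), (T'.ι ≫ r.left).isOpenMap.isOpen_range⟩
    refine ⟨O, ⟨⟨t, show (pre q).left t ∈ W by rw [ht₁']; exact huW⟩, by simpa using ht₂⟩, ?_⟩
    let e : (T' : Scheme.{u}) ⟶ O := IsOpenImmersion.lift O.ι (T'.ι ≫ r.left) (by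
      rintro _ ⟨z, rfl⟩
      rw [Scheme.Opens.range_ι]
      exact ⟨z, rfl⟩)
    have he : e ≫ O.ι = T'.ι ≫ r.left := IsOpenImmersion.lift_fac _ _ _
    haveI : Etale (e ≫ O.ι) := he ▸ (inferInstance : Etale (T'.ι ≫ r.left))
    haveI : Etale e := Etale.of_comp e O.ι
    haveI : Surjective e := ⟨fun o => by
      obtain ⟨z, hz⟩ := o.2
      exact ⟨z, O.ι.isOpenEmbedding.injective (by rw [← Scheme.Hom.comp_apply, he]; exact hz)⟩⟩
    refine EtLoc.descend e _ inferInstance inferInstance ?_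
    rwa [← Category.assoc, he]
  choose O hO hP using key
  refine IsZariskiLocalAtSource.of_iSup_eq_top (P := P) O (top_unique fun x _ => ?_) hP
  exact TopologicalSpace.Opens.mem_iSup.2 ⟨x, hO x⟩

end Groth.Agent.AlgSpDesc
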