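import Groth.Agent.AlgSpc.Compact
import Groth.Agent.AlgSpc.More
import Groth.Agent.AlgSpc.SepProper
import Groth.Agent.AlgSpc.EtQuot
import Groth.Agent.AlgSpc.EtLocInst
import Groth.Agent.AlgSpc.FibreProd
import Groth.Agent.AlgSpLoc.Diag

/-!
Quasi-compact and quasi-separated morphisms of algebraic spaces.
-/

set_option autoImplicit false
set_option linter.style.haveILetI false
set_option backward.isDefEq.respectTransparency false

universe u

open CategoryTheory CategoryTheory.Limits AlgebraicGeometry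

namespace Groth.Agent.AlgSpDesc

open _root_.AlgSp Groth.Agent.AlgSpc

variable {S : Scheme.{u}}

/-- Quasi-separated over the base means quasi-separated in the relative sense. -/
theorem isQuasiSeparatedMor_of_sp {X Y : Sp S} (hX : IsAlgSpace X) (h : IsQuasiSeparatedSp X) (f : X ⟶ Y) :
    IsQuasiSeparatedMor f := by
  let m : pullback f f ⟶ X ⨯ X := prod.lift (pullback.fst f f) (pullback.snd f f)
  have hm : pullback.diagonal f ≫ m = Limits.diag X := by ext <;> simp [m]
  haveI : Mono m := ⟨fun a b e => pullback.hom_ext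
    (by simpa [m] using congrArg (· ≫ prod.fst) e) (by simpa [m] using congrArg (· ≫ prod.snd) e)⟩
  have sq : IsPullback (𝟙 X) (pullback.diagonal f) (Limits.diag X) m := by
    have w : 𝟙 X ≫ Limits.diag X = pullback.diagonal f ≫ m := by rw [hm, Category.id_comp]
    exact ⟨⟨w⟩, ⟨PullbackCone.IsLimit.mk w (fun s => s.fst) (fun s => Category.comp_id _)
      (fun s => by rw [← cancel_mono m, Category.assoc, hm, s.condition])
      fun s n h₁ _ => by simpa using h₁⟩⟩
  exact repWith_of_isPullback sq h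

theorem isQuasiSeparatedSp_of_mor {X : Sp S} (h : ∀ f : X ⟶ (yon S).obj (Over.mk (𝟙 S)), IsQuasiSeparatedMor f)
    (f : X ⟶ (yon S).obj (Over.mk (𝟙 S))) : IsQuasiSeparatedSp X := by
  let m : pullback f f ⟶ X ⨯ X := prod.lift (pullback.fst f f) (pullback.snd f f)
  have hm : pullback.diagonal f ≫ m = Limits.diag X := by ext <;> simp [m]
  haveI : IsIso m := ⟨⟨pullback.lift prod.fst prod.snd (yon_toBase_unique _ _),
    by apply pullback.hom_ext <;> simp [m], by apply prod.hom_ext <;> simp [m]⟩⟩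
  have hiso : IsPullback (𝟙 X) (Limits.diag X) (pullback.diagonal f) (inv m) :=
    IsPullback.of_horiz_isIso ⟨by simp [← hm]⟩
  exact repWith_of_isPullback hiso (h f)

/-- The structure map of an algebraic space. -/
theorem exists_toBase {X : Sp S} (hX : IsAlgSpace X) : Nonempty (X ⟶ (yon S).obj (Over.mk (𝟙 S))) := by
  obtain ⟨U, p, hp, hps⟩ := hX.atlas
  obtain ⟨f, -⟩ := AlgSpLoc.exists_desc_of_atlas hp hps ((yon S).map (toBase U))
    fun T a b _ => yon_toBase_unique _ _
  exact ⟨f⟩

/-- A quasi-compact space over a quasi-separated base has quasi-compact structure map. -/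
theorem isQuasiCompactMor_toBase [QuasiSeparatedSpace ↥S] {X : Sp S} (hX : IsAlgSpace X)
    (h : IsQuasiCompactSp X) (f : X ⟶ (yon S).obj (Over.mk (𝟙 S))) : IsQuasiCompactMor f := by
  intro Z Z' hZ hZc g fst snd sq
  have hZ' := isAlgSpace_of_isPullback hX (IsAlgSpace.yon_obj _) hZ sq
  obtain ⟨U, a, hU, ha, has⟩ := (isQuasiCompactSp_iff_affine hX).1 h
  obtain ⟨T, b, hT, hb, hbs⟩ := (isQuasiCompactSp_iff_affine hZ).1 hZc
  haveI := hU; haveI := hT
  haveI : QuasiCompact U.hom := inferInstance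
  let P := pullback (toBase U) (toBase T)
  haveI : CompactSpace ↥P.left := by
    haveI : QuasiCompact (pullback.snd (toBase U) (toBase T)).left :=
      MorphismProperty.of_isPullback (P := @QuasiCompact)
        ((IsPullback.of_hasPullback (toBase U) (toBase T)).map (Over.forget S))
        (inferInstanceAs (QuasiCompact U.hom))
    exact QuasiCompact.compactSpace_of_compactSpace (pullback.snd (toBase U) (toBase T)).left
  rw [isQuasiCompactSp_iff hZ']
  let l : (yon S).obj P ⟶ Z' := sq.lift ((yon S).map (pullback.fst _ _) ≫ a)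
    ((yon S).map (pullback.snd _ _) ≫ b) (yon_toBase_unique _ _)
  refine ⟨?_⟩
  have hsurj : Function.Surjective (Points.ofPt l) := by
    intro z
    have sA := IsPullback.of_hasPullback a fst
    obtain ⟨u₀, hu₀⟩ := surjective_map_of_repWith has (Points.map fst z)
    obtain ⟨z₁, -, hz₁⟩ := exists_point_of_isPullback sA u₀ z hu₀
    obtain ⟨t₀, ht₀⟩ := surjective_map_of_repWith hbs (Points.map snd z)
    have sB := IsPullback.of_hasPullback (pullback.snd a fst ≫ snd) b
    obtain ⟨z₂, hz₂, -⟩ := exists_point_of_isPullback sB z₁ t₀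
      (by rw [Points.map_comp, hz₁, ht₀])
    let m : pullback (pullback.snd a fst ≫ snd) b ⟶ (yon S).obj P :=
      ((IsPullback.of_hasPullback (toBase U) (toBase T)).map (yon S)).lift
        (pullback.fst _ _ ≫ pullback.fst a fst) (pullback.snd _ _) (yon_toBase_unique _ _)
    have hm : m ≫ l = pullback.fst _ _ ≫ pullback.snd a fst := by
      apply sq.hom_ext
      · simp [m, l, pullback.condition]
      · simp [m, l, pullback.condition]
    refine ⟨Points.toScheme P (Points.map m z₂), ?_⟩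
    rw [Points.ofPt_eq_map_ofScheme, Points.ofScheme_toScheme, ← Points.map_comp, hm, Points.map_comp, hz₂, hz₁]
  rw [← hsurj.range_eq]
  exact isCompact_range (Points.continuous_ofPt l)

/-- A morphism from a quasi-compact space to a quasi-separated space is quasi-compact. -/
theorem isQuasiCompactMor_of_qc_qs [QuasiSeparatedSpace ↥S] {X Y : Sp S} (hX : IsAlgSpace X)
    (hY : IsAlgSpace Y) (hXc : IsQuasiCompactSp X) (hYs : IsQuasiSeparatedSp Y) (f : X ⟶ Y) :
    IsQuasiCompactMor f := by
  obtain ⟨q⟩ := exists_toBase hY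
  exact isQuasiCompactMor_of_comp hX hY (IsAlgSpace.yon_obj _) (isQuasiCompactMor_toBase hX hXc (f ≫ q))
    (isQuasiSeparatedMor_of_sp hY hYs q)

theorem qcqs_pullback [QuasiSeparatedSpace ↥S] {X Y Z P : Sp S} (hX : IsAlgSpace X) (hY : IsAlgSpace Y)
    (hZ : IsAlgSpace Z) {fst : P ⟶ X} {snd : P ⟶ Z} {f : X ⟶ Y} {g : Z ⟶ Y} (sq : IsPullback fst snd f g)
    (hXc : IsQuasiCompactSp X) (hXs : IsQuasiSeparatedSp X) (hYs : IsQuasiSeparatedSp Y)
    (hZc : IsQuasiCompactSp Z) (hZs : IsQuasiSeparatedSp Z) :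
    IsQuasiCompactSp P ∧ IsQuasiSeparatedSp P := by
  refine ⟨isQuasiCompactMor_of_qc_qs hX hY hXc hYs f hZ hZc g _ _ sq, ?_⟩
  obtain ⟨q⟩ := exists_toBase hZ
  refine isQuasiSeparatedSp_of_mor (fun w => ?_) (snd ≫ q)
  rw [yon_toBase_unique w (snd ≫ q)]
  exact repWith_diagonal_comp (repWith_diagonal_base_change sq (isQuasiSeparatedMor_of_sp hX hXs f))
    (isQuasiSeparatedMor_of_sp hZ hZs q)

/-- Quasi-compactness descends along universally open surjections. -/
theorem isQuasiCompactMor_of_univOpen {X Y X' Y' : Sp S} (hX : IsAlgSpace X) (hY : IsAlgSpace Y)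
    (hY' : IsAlgSpace Y') {f : X ⟶ Y} {g : Y' ⟶ Y} {fst : X' ⟶ X} {f' : X' ⟶ Y'}
    (sq : IsPullback fst f' f g) (hg : IsUnivOpenMor g) (hgs : IsSurjectiveMor g)
    (hf' : IsQuasiCompactMor f') : IsQuasiCompactMor f := by
  intro Z Z' hZ hZc h p q sqZ
  have hZ' := isAlgSpace_of_isPullback hX hY hZ sqZ
  have sW := IsPullback.of_hasPullback g h
  have hW := isAlgSpace_of_isPullback hY' hY hZ sW
  have hopen : IsOpenMap (Points.map (pullback.snd g h)) := hg hZ h _ _ sW
  have hsurj : Function.Surjective (Points.map (pullback.snd g h)) := surjective_map_base_change sW.flip.flip hgs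
  obtain ⟨U, a, ha, has⟩ := hW.atlas
  haveI := compactSpace_points hZc
  have hcov : (Set.univ : Set (Points Z)) ⊆
      ⋃ A : U.left.affineOpens, Points.map (pullback.snd g h) '' (Points.ofPt a '' (A.1 : Set U.left)) := by
    intro z _
    obtain ⟨w, rfl⟩ := hsurj z
    obtain ⟨u, rfl⟩ := surjective_ofPt has w
    obtain ⟨V, hV, hu, -⟩ := exists_isAffineOpen_mem_and_subset (show u ∈ (⊤ : U.left.Opens) from trivial)
    exact Set.mem_iUnion.2 ⟨⟨V, hV⟩, _, ⟨u, hu, rfl⟩, rfl⟩
  obtain ⟨t, ht⟩ := isCompact_univ.elim_finite_subcover _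
    (fun A : U.left.affineOpens => hopen _ (isOpenMap_ofPt ha _ A.1.2)) hcov
  rw [isQuasiCompactSp_iff hZ']
  let T : U.left.affineOpens → Over S := fun A => Over.mk (A.1.ι ≫ U.hom)
  let c : ∀ A, (yon S).obj (T A) ⟶ pullback g h := fun A =>
    (yon S).map (Over.homMk A.1.ι rfl : T A ⟶ U) ≫ a
  have hqc : ∀ A, CompactSpace (Points (pullback q (c A ≫ pullback.snd g h))) := fun A => by
    haveI : IsAffine (T A).left := A.2
    have sQ := IsPullback.of_hasPullback q (c A ≫ pullback.snd g h)
    have e : (c A ≫ pullback.snd g h) ≫ h = (c A ≫ pullback.fst g h) ≫ g := by simp [pullback.condition]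
    have s1 : IsPullback (pullback.fst q (c A ≫ pullback.snd g h) ≫ p) (pullback.snd q (c A ≫ pullback.snd g h))
        f ((c A ≫ pullback.fst g h) ≫ g) := by
      rw [← e]; exact sQ.paste_horiz sqZ
    exact compactSpace_points
      (hf' (IsAlgSpace.yon_obj _) isQuasiCompactSp_yon _ _ _ (s1.of_right' sq))
  refine ⟨?_⟩
  have huniv : (Set.univ : Set (Points Z')) =
      ⋃ A ∈ t, Set.range (Points.map (pullback.fst q (c A ≫ pullback.snd g h))) := by
    refine (Set.eq_univ_of_forall fun z => ?_).symm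
    obtain ⟨A, hA, w, ⟨u, hu, rfl⟩, hz⟩ := Set.mem_iUnion₂.1 (ht (Set.mem_univ (Points.map q z)))
    obtain ⟨z', hz', -⟩ := exists_point_of_isPullback (IsPullback.of_hasPullback q (c A ≫ pullback.snd g h))
      z (Points.ofScheme (T A) ⟨u, hu⟩) (by
        rw [Points.map_comp, ← Points.ofPt_eq_map_ofScheme, ofPt_comp, ← hz]
        rfl)
    exact Set.mem_iUnion₂.2 ⟨A, hA, z', hz'⟩
  rw [huniv]
  exact t.isCompact_biUnion fun A _ =>
    haveI := hqc A; isCompact_range (Points.continuous_map _)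

theorem isQuotientMap_of_flat_qc {X Y : Sp S} (hX : IsAlgSpace X) (hY : IsAlgSpace Y) {f : X ⟶ Y}
    (hfl : LocP @Flat f) (hqc : IsQuasiCompactMor f) (hs : IsSurjectiveMor f) :
    Topology.IsQuotientMap (Points.map f) := by
  refine (Topology.isQuotientMap_iff _).2
    ⟨Topology.isCoinducing_iff.2 fun s => ⟨fun h => ?_, fun h => h.preimage (Points.continuous_map f)⟩, hs⟩
  obtain ⟨V, b, hb, hbs⟩ := hY.atlas
  rw [← (isQuotientMap_ofPt hb hbs).isOpen_preimage]
  have hcov : TopologicalSpace.IsOpenCover (fun A : V.left.affineOpens => (A : V.left.Opens)) :=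
    iSup_affineOpens_eq_top _
  refine (hcov.isOpen_iff_inter).2 fun A => ?_
  let T : Over S := Over.mk (A.1.ι ≫ V.hom)
  let c : (yon S).obj T ⟶ Y := (yon S).map (Over.homMk A.1.ι rfl : T ⟶ V) ≫ b
  haveI : IsAffine T.left := A.2
  have sP := IsPullback.of_hasPullback f c
  have hP := isAlgSpace_of_isPullback hX hY (IsAlgSpace.yon_obj T) sP
  obtain ⟨W, a, hW, ha, has⟩ :=
    (isQuasiCompactSp_iff_affine hP).1 (hqc (IsAlgSpace.yon_obj _) isQuasiCompactSp_yon c _ _ sP)
  haveI := hW
  let r : W ⟶ T := pre (a ≫ pullback.snd f c)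
  haveI : Flat r.left :=
    locP_base_change hX hY (IsAlgSpace.yon_obj T) sP hfl a (𝟙 _) r ha (repWith_iso _) (by simp [r])
  have hr : Function.Surjective r.left := fun t => by
    obtain ⟨x, hx⟩ := hs (Points.ofPt c t)
    obtain ⟨z, -, hz⟩ := exists_point_of_isPullback sP x (Points.ofScheme T t)
      (by rw [hx, Points.ofPt_eq_map_ofScheme])
    obtain ⟨w, rfl⟩ := surjective_ofPt has z
    refine ⟨w, ?_⟩
    have := congrArg (Points.toScheme T) hz
    rwa [Points.map_ofPt, ← map_pre (a ≫ pullback.snd f c), Points.toScheme_ofPt,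
      Points.toScheme_ofScheme] at this
  haveI : Surjective r.left := ⟨hr⟩
  haveI : QuasiCompact r.left := (quasiCompact_iff_compactSpace _).2 inferInstance
  have h1 : IsOpen (Points.ofPt c ⁻¹' s) := by
    rw [← (Flat.isQuotientMap_of_surjective r.left).isOpen_preimage]
    have e : r.left ⁻¹' (Points.ofPt c ⁻¹' s) = Points.ofPt (a ≫ pullback.fst f c) ⁻¹' (Points.map f ⁻¹' s) := by
      ext w
      simp only [Set.mem_preimage, Points.map_ofPt, ← ofPt_comp, r, map_pre, Category.assoc, pullback.condition]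
    rw [e]
    exact h.preimage (Points.continuous_ofPt _)
  have e2 : Points.ofPt c ⁻¹' s = (Over.homMk A.1.ι rfl : T ⟶ V).left ⁻¹' (Points.ofPt b ⁻¹' s) :=
    Set.ext fun x => by simp only [Set.mem_preimage, c, ofPt_comp]
  have h2 : IsOpen ((A : V.left.Opens).ι ⁻¹' (Points.ofPt b ⁻¹' s)) := e2 ▸ h1
  have := (A : V.left.Opens).ι.isOpenEmbedding.isOpenMap _ h2
  rwa [Set.image_preimage_eq_inter_range, Scheme.Opens.range_ι] at this

theorem univSubmersive_of_flat_qc {X Y : Sp S} (hX : IsAlgSpace X) (hY : IsAlgSpace Y) {f : X ⟶ Y}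
    (hfl : LocP @Flat f) (hqc : IsQuasiCompactMor f) (hs : IsSurjectiveMor f) :
    IsUnivSubmersiveMor f := fun Z Z' hZ g fst snd sq =>
  isQuotientMap_of_flat_qc (isAlgSpace_of_isPullback hX hY hZ sq) hZ (locP_base_change hX hY hZ sq hfl)
    (isQuasiCompactMor_base_change sq hqc) (surjective_map_base_change sq hs)

end Groth.Agent.AlgSpDesc
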