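import Groth.Agent.AlgSpDesc.LqfLocus
import Groth.Agent.AlgSpc.More
import Groth.Agent.AlgSpc.FibreProd
import Groth.Agent.FlatMorLib.FiberPoints

/-!
Finitely many quasi-finite points over a point, for morphisms of finite type.
-/

set_option autoImplicit false
set_option linter.style.haveILetI false
set_option backward.isDefEq.respectTransparency false

universe u

open CategoryTheory CategoryTheory.Limits AlgebraicGeometry

namespace Groth.Agent.AlgSpDesc

open _root_.AlgSp Groth.Agent.AlgSpc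

variable {S : Scheme.{u}} {X Y : Sp S} {f : X ⟶ Y}

theorem finite_setOf_qf_over_point (hX : IsAlgSpace X) (hY : IsAlgSpace Y) (hf : IsFiniteTypeMor f)
    (y : Points Y) :
    {x : Points X | Points.map f x = y ∧
      HasAtMor (fun U _ h u => ∃ W : U.Opens, u ∈ W ∧ LocallyQuasiFinite (W.ι ≫ h) ∧
        LocallyOfFiniteType (W.ι ≫ h)) f x}.Finite := by
  obtain ⟨V₀, b₀, hb₀, hb₀s⟩ := hY.atlas
  obtain ⟨v₀, rfl⟩ := surjective_ofPt hb₀s y
  obtain ⟨O, hO, hvO, -⟩ := exists_isAffineOpen_mem_and_subset (show v₀ ∈ (⊤ : V₀.left.Opens) from trivial)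
  let V : Over S := Over.mk (O.ι ≫ V₀.hom)
  let o : V ⟶ V₀ := Over.homMk O.ι rfl
  haveI : IsAffine V.left := hO
  let b : (yon S).obj V ⟶ Y := (yon S).map o ≫ b₀
  have hb : RepWith @Etale b :=
    repWith_comp ((repWith_yon_map_iff _ o).2 (inferInstanceAs (Etale O.ι))) hb₀
  have sq : IsPullback (pullback.fst f b) (pullback.snd f b) f b := IsPullback.of_hasPullback _ _
  have hP := isAlgSpace_of_isPullback hX hY (IsAlgSpace.yon_obj V) sq
  have hq := hf.2 (IsAlgSpace.yon_obj V) (isQuasiCompactSp_yon (T := V)) b _ _ sq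
  haveI := compactSpace_points hq
  obtain ⟨U₁, c₁, hc₁, hc₁s⟩ := hP.atlas
  obtain ⟨U, c, hU, hc, hcs⟩ := exists_affine_atlas_of_compact hc₁ hc₁s
  let a : (yon S).obj U ⟶ X := c ≫ pullback.fst f b
  have ha : RepWith @Etale a := repWith_comp hc (repWith_of_isPullback sq.flip hb)
  let h := pre (c ≫ pullback.snd f b)
  have w : a ≫ f = (yon S).map h ≫ b := by
    rw [map_pre, Category.assoc, Category.assoc, sq.w]
  haveI : LocallyOfFiniteType h.left := hf.1 a b h ha hb w
  haveI : IsAffine U.left := hU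
  haveI : QuasiCompact h.left := inferInstance
  refine ((FlatMorLib.finite_setOf_quasiFiniteAt h.left ⟨v₀, hvO⟩).image (Points.ofPt a)).subset ?_
  rintro x ⟨hxy, U', V', a', b', k', u', ha', hb', w', rfl, W, hW, h1, h2⟩
  have hy : Points.ofPt b (⟨v₀, hvO⟩ : ↥O) = Points.ofPt b₀ v₀ := ofPt_comp o b₀ _
  obtain ⟨z, hz₁, hz₂⟩ := exists_point_of_isPullback sq _ (Points.ofScheme V ⟨v₀, hvO⟩)
    (by rw [hxy, ← hy, Points.ofPt_eq_map_ofScheme])
  obtain ⟨u, rfl⟩ := surjective_ofPt hcs z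
  rw [Points.map_ofPt] at hz₁ hz₂
  refine ⟨u, ⟨?_, ?_⟩, hz₁⟩
  · rw [ofPt_pre] at hz₂
    have := congrArg (Points.toScheme V) hz₂
    rwa [Points.toScheme_ofScheme, Points.toScheme_ofScheme] at this
  · rw [quasiFiniteAt_iff_fibreDimAt, fibreDimAt_unique ha hb w ha' hb' w' hz₁]
    exact fibreDimAt_eq_zero_of_lqf_near W hW h1 h2

end Groth.Agent.AlgSpDesc
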