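import Groth.Agent.AlgSpDesc.FinFibre
import Groth.Agent.AlgSpc.MonoPoint

/-!
Points represented by quasi-compact monomorphisms from spectra of fields.
-/

set_option autoImplicit false
set_option linter.style.haveILetI false
set_option backward.isDefEq.respectTransparency false

universe u

open CategoryTheory CategoryTheory.Limits AlgebraicGeometry

namespace Groth.Agent.AlgSpDesc

open _root_.AlgSp Groth.Agent.AlgSpc

variable {S : Scheme.{u}}

/-- Fibres of the double chart over a point with a quasi-compact representative are finite. -/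
theorem finite_preimage_double {X : Sp S} {x : Points X} (p : FieldPt X) (hp : Points.mk p = x)
    (hq : RepWith @QuasiCompact p.toHom) {U : Over S} [IsAffine U.left] {φ : (yon S).obj U ⟶ X}
    (hφ : RepWith @Etale φ) {R : Over S} {s t : R ⟶ U}
    (sqR : IsPullback ((yon S).map t) ((yon S).map s) φ φ) :
    (Points.ofPt ((yon S).map t ≫ φ) ⁻¹' {x}).Finite := by
  subst hp
  have hE := finite_preimage_of_qc hφ p hq
  have hpt : ∀ r, Points.ofPt ((yon S).map t ≫ φ) r = Points.ofPt φ (s.left r) := fun r => by
    rw [sqR.w, ofPt_comp]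
  have key : ∀ v ∈ Points.ofPt φ ⁻¹' {Points.mk p}, (s.left ⁻¹' {v}).Finite := by
    intro v hv
    let L : Over S := Over.mk (U.left.fromSpecResidueField v ≫ U.hom)
    let j : L ⟶ U := Over.homMk (U.left.fromSpecResidueField v) rfl
    let V := pullback s j
    have sV : IsPullback ((yon S).map (pullback.fst s j) ≫ (yon S).map t) ((yon S).map (pullback.snd s j)) φ
        ((yon S).map j ≫ φ) := ((IsPullback.of_hasPullback s j).map (yon S)).paste_horiz sqR
    have hjv : Points.ofPt ((yon S).map j ≫ φ) (IsLocalRing.closedPoint (U.left.residueField v)) =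
        Points.mk p := by
      rw [ofPt_comp]
      exact (congrArg (Points.ofPt φ) (Scheme.fromSpecResidueField_apply v _)).trans hv
    haveI := compactSpace_fibre_of_repWith_qc (K := U.left.residueField v) φ p hq hjv sV
    haveI := (finite_of_compact_fibre (K := U.left.residueField v) hφ sV).1
    refine (Set.finite_range (pullback.fst s j).left).subset fun r hr => ?_
    obtain ⟨w, hw, -⟩ := Scheme.exists_preimage_of_isPullback
      ((IsPullback.of_hasPullback s j).map (Over.forget S)) r (IsLocalRing.closedPoint (U.left.residueField v))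
      ((show s.left r = v from hr).trans (Scheme.fromSpecResidueField_apply v _).symm)
    exact ⟨w, hw⟩
  refine (hE.biUnion key).subset fun r hr => Set.mem_iUnion₂.2 ⟨s.left r, ?_, rfl⟩
  rw [Set.mem_preimage, Set.mem_singleton_iff, ← hpt]
  exact hr

/-- Finite fibres give a quasi-compact monomorphism from the spectrum of a field. -/
theorem exists_qc_mono_point {X : Sp S} (hX : IsAlgSpace X) {x : Points X}
    (h : ∀ (U : Over S) (φ : (yon S).obj U ⟶ X), IsAffine U.left → RepWith @Etale φ →
      ∀ (R : Over S) (s t : R ⟶ U), IsPullback ((yon S).map t) ((yon S).map s) φ φ →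
        (Points.ofPt φ ⁻¹' {x}).Finite ∧ (Points.ofPt ((yon S).map t ≫ φ) ⁻¹' {x}).Finite) :
    ∃ p : FieldPt X, Points.mk p = x ∧ Mono p.toHom ∧ RepWith @QuasiCompact p.toHom := by
  obtain ⟨U₀, a₀, ha₀, has⟩ := hX.atlas
  obtain ⟨u₀, rfl⟩ := surjective_ofPt has x
  obtain ⟨U, j, u, hU, hj, hju, -⟩ := exists_affine_chart u₀ ⊤ trivial
  let a := (yon S).map j ≫ a₀
  have ha : RepWith @Etale a :=
    repWith_comp ((repWith_yon_map_iff _ j).2 (show Etale j.left from inferInstance)) ha₀
  have hau : Points.ofPt a u = Points.ofPt a₀ u₀ := by rw [ofPt_comp, hju]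
  obtain ⟨R, t₀, s, sqR⟩ := exists_sq ha.1 a
  obtain ⟨t, rfl⟩ := (yon S).map_surjective t₀
  obtain ⟨p, hp, hm⟩ := exists_mono_point_of_finite ha u fun P p₁ p₂ sqP => by
    let ju : Over.mk (U.left.fromSpecResidueField u ≫ U.hom) ⟶ U := Over.homMk (U.left.fromSpecResidueField u) rfl
    have w : ((yon S).map p₁ ≫ (yon S).map ju) ≫ a = ((yon S).map p₂ ≫ (yon S).map ju) ≫ a := by
      rw [Category.assoc, Category.assoc]; exact sqP.w
    let m : P ⟶ R := pre (sqR.lift _ _ w)
    have hfin := (h U a hU ha R s t sqR).2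
    haveI : Mono ((yon S).map ju) := mono_of_repWith (P := MorphismProperty.monomorphisms _)
      (fun _ _ _ h => h) ((repWith_yon_map_iff _ ju).2
        (show Mono ju.left from inferInstanceAs (Mono (U.left.fromSpecResidueField u))))
    haveI : Mono ((yon S).map m) := ⟨fun g₁ g₂ e => by
      rw [map_pre] at e
      apply sqP.hom_ext
      · rw [← cancel_mono ((yon S).map ju)]
        simpa [sqR.lift_fst] using congrArg (· ≫ (yon S).map t) e
      · rw [← cancel_mono ((yon S).map ju)]
        simpa [sqR.lift_snd] using congrArg (· ≫ (yon S).map s) e⟩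
    haveI := mono_of_map m
    haveI : Subsingleton ↥(Over.mk (U.left.fromSpecResidueField u ≫ U.hom)).left :=
      inferInstanceAs (Subsingleton (PrimeSpectrum (U.left.residueField u)))
    have hinj : Function.Injective m.left := Scheme.Hom.injective m.left
    have hmem : ∀ z, m.left z ∈ Points.ofPt ((yon S).map t ≫ a) ⁻¹' {Points.ofPt a₀ u₀} := fun z => by
      rw [Set.mem_preimage, Set.mem_singleton_iff, ← hau, ← ofPt_comp, map_pre, ← Category.assoc, sqR.lift_fst,
        ofPt_comp, ← Functor.map_comp, ofPt_comp, Over.comp_left, Scheme.Hom.comp_apply]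
      exact (congrArg (Points.ofPt a) (Scheme.fromSpecResidueField_apply u _)).trans (ofPt_comp _ _ _)
    haveI := hfin.to_subtype
    exact Finite.of_injective (fun z => (⟨m.left z, hmem z⟩ :
      Points.ofPt ((yon S).map t ≫ a) ⁻¹' {Points.ofPt a₀ u₀})) fun z z' e => hinj (congrArg Subtype.val e)
  refine ⟨p, hp.trans hau, hm, repWith_qc_of_charts hX (hX.representable_from_yon p.toHom) ?_⟩
  intro U' a' V fst snd hU' ha' sq
  haveI := hm
  haveI : Mono ((yon S).map snd) := sq.mono_snd_of_mono
  haveI := mono_of_map snd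
  obtain ⟨R', t₁, s', sqR'⟩ := exists_sq ha'.1 a'
  obtain ⟨t', rfl⟩ := (yon S).map_surjective t₁
  have hfin := (h U' a' hU' ha' R' s' t' sqR').1
  have hinj : Function.Injective snd.left := Scheme.Hom.injective snd.left
  have hmem : ∀ z, snd.left z ∈ Points.ofPt a' ⁻¹' {Points.ofPt a₀ u₀} := fun z => by
    rw [Set.mem_preimage, Set.mem_singleton_iff, ← ofPt_comp, ← sq.w, ← hau, ← hp,
      ← Points.ofPt_toHom p (IsLocalRing.closedPoint p.K), ← map_pre fst, ofPt_comp]
    exact congrArg _ (@Subsingleton.elim (PrimeSpectrum p.K) _ _ _)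
  haveI := hfin.to_subtype
  haveI : Finite ↥V.left := Finite.of_injective (fun z => (⟨snd.left z, hmem z⟩ :
    Points.ofPt a' ⁻¹' {Points.ofPt a₀ u₀})) fun z z' e => hinj (congrArg Subtype.val e)
  exact Finite.compactSpace

theorem exists_qc_mono_of_qc {X : Sp S} (hX : IsAlgSpace X) (q : FieldPt X)
    (hq : RepWith @QuasiCompact q.toHom) :
    ∃ p : FieldPt X, Points.mk p = Points.mk q ∧ Mono p.toHom ∧ RepWith @QuasiCompact p.toHom :=
  exists_qc_mono_point hX fun _ _ hU hφ _ _ _ sqR =>
    haveI := hU
    ⟨finite_preimage_of_qc hφ q hq, finite_preimage_double q rfl hq hφ sqR⟩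

end Groth.Agent.AlgSpDesc
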