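import Groth.Agent.AlgSpDesc.RelDimInv
import Groth.Agent.FieldExtLD.Scheme

/-!
Transcendence degree, fibre dimension and composition.
-/

set_option autoImplicit false
set_option linter.style.haveILetI false
set_option backward.isDefEq.respectTransparency false

universe u

open CategoryTheory CategoryTheory.Limits AlgebraicGeometry

namespace Groth.Agent.AlgSpDesc

open _root_.AlgSp Groth.Agent.AlgSpc

variable {X Y Z : Scheme.{u}}

theorem resTrdeg_eq_zero_of_lqf (e : X ⟶ Y) [LocallyQuasiFinite e] [LocallyOfFiniteType e] (x : X) :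
    Dual3.resTrdeg e x = 0 := by
  let ft := e.fiberToSpecResidueField (e x)
  have : LocallyOfFiniteType ft := MorphismProperty.pullback_snd _ _ inferInstance
  obtain ⟨n, hn, hn'⟩ := DimTheory.exists_height_eq (k := Y.residueField (e x)) ft (e.asFiber x)
  haveI : DiscreteTopology ↥(e.fiber (e x)) := by
    haveI := (e.isDiscrete_preimage_singleton (e x)).to_subtype
    exact (e.fiberHomeo (e x)).isEmbedding.discreteTopology
  have h0 : Order.height (e.asFiber x) = 0 :=
    Order.height_eq_zero.2 fun b (hb : e.asFiber x ⤳ b) => hb.eq ▸ le_rfl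
  rw [FlatEquidim.resTrdeg_fiber_eq, e.fiberι_asFiber] at hn
  rw [h0] at hn'
  exact hn.trans (by rw [show n = 0 by exact_mod_cast hn'.symm, Nat.cast_zero])

theorem resTrdeg_eq_zero_of_isClosed (f : X ⟶ Y) [LocallyOfFiniteType f] {x : X} (hx : IsClosed ({x} : Set X)) :
    Dual3.resTrdeg f x = 0 := by
  let ft := f.fiberToSpecResidueField (f x)
  have : LocallyOfFiniteType ft := MorphismProperty.pullback_snd _ _ inferInstance
  obtain ⟨n, hn, hn'⟩ := DimTheory.exists_height_eq (k := Y.residueField (f x)) ft (f.asFiber x)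
  have h0 : Order.height (f.asFiber x) = 0 := Order.height_eq_zero.2 fun b (hb : f.asFiber x ⤳ b) => by
    have hb' := hb.map (f.fiberι (f x)).continuous
    rw [f.fiberι_asFiber] at hb'
    have hbx : f.fiberι (f x) b = f.fiberι (f x) (f.asFiber x) := by
      rw [f.fiberι_asFiber]; simpa [hx.closure_eq] using hb'.mem_closure
    exact (f.fiberι (f x)).isEmbedding.injective hbx ▸ le_rfl
  rw [FlatEquidim.resTrdeg_fiber_eq, f.fiberι_asFiber] at hn
  rw [h0] at hn'
  exact hn.trans (by rw [show n = 0 by exact_mod_cast hn'.symm, Nat.cast_zero])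

theorem isClosed_singleton_of_lqf (e : X ⟶ Y) [LocallyQuasiFinite e] {x : X} (hx : IsClosed ({e x} : Set Y)) :
    IsClosed ({x} : Set X) := by
  haveI := (e.isDiscrete_preimage_singleton (e x)).to_subtype
  have := (hx.preimage e.continuous).isClosedMap_subtype_val {(⟨x, rfl⟩ : ↥(e ⁻¹' {e x}))} (isClosed_discrete _)
  simpa using this

theorem fibreDimAt_eq_stalk_add_resTrdeg (f : X ⟶ Y) [LocallyOfFiniteType f] (x : X) :
    FlatMor.fibreDimAt f x = ringKrullDim ↥((f.fiber (f x)).presheaf.stalk (f.asFiber x)) +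
      ((Cardinal.toENat (Dual3.resTrdeg f x) : ℕ∞) : WithBot ℕ∞) := by
  let ft := f.fiberToSpecResidueField (f x)
  have : LocallyOfFiniteType ft := MorphismProperty.pullback_snd _ _ inferInstance
  obtain ⟨n, hn, hn'⟩ := DimTheory.exists_height_eq (k := Y.residueField (f x)) ft (f.asFiber x)
  rw [FlatEquidim.resTrdeg_fiber_eq, f.fiberι_asFiber] at hn
  change FlatMor.localDim ↥(f.fiber (f x)) (f.asFiber x) = _
  rw [FieldExtLD.localDim_eq (k := Y.residueField (f x)) ft, ringKrullDim_stalk_eq_coheight, hn',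
    show Dual3.resTrdeg f x = n from hn, map_natCast, add_comm, WithBot.coe_add]

theorem resTrdeg_comp (g : X ⟶ Y) (h : Y ⟶ Z) (x : X) :
    Dual3.resTrdeg (g ≫ h) x = Dual3.resTrdeg h (g x) + Dual3.resTrdeg g x :=
  FlatEquidim.mapTrdeg_comp g h x

variable {S : Scheme.{u}}

/-- Nested charts of a composite through a given point. -/
theorem exists_charts_comp {F G H : Sp S} (hF : IsAlgSpace F) (hG : IsAlgSpace G) (hH : IsAlgSpace H)
    (f : F ⟶ G) (g : G ⟶ H) (x : Points F) :
    ∃ (U V W : Over S) (a : (yon S).obj U ⟶ F) (b : (yon S).obj V ⟶ G) (c : (yon S).obj W ⟶ H)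
      (k : U ⟶ V) (l : V ⟶ W) (u : ↥U.left),
      RepWith @Etale a ∧ RepWith @Etale b ∧ RepWith @Etale c ∧ a ≫ f = (yon S).map k ≫ b ∧
      b ≫ g = (yon S).map l ≫ c ∧ a ≫ f ≫ g = (yon S).map (k ≫ l) ≫ c ∧
      Points.ofPt a u = x ∧ Points.ofPt b (k.left u) = Points.map f x := by
  obtain ⟨V, W, b, c, l, hb, hbs, hc, -, w⟩ := exists_chart hG hH g
  obtain ⟨U₀, a₀, h₁, h₂⟩ := hF.atlas
  obtain ⟨U, a, k, ha, has, w'⟩ := exists_chart_over f h₁ h₂ hb hbs
  obtain ⟨u, rfl⟩ := surjective_ofPt has x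
  exact ⟨U, V, W, a, b, c, k, l, u, ha, hb, hc, w', w,
    by rw [reassoc_of% w', w, Functor.map_comp, Category.assoc], rfl,
    by rw [Points.map_ofPt, w', ofPt_comp]⟩

end Groth.Agent.AlgSpDesc
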