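import Groth.Agent.AlgSpDesc.LqfDim
import Groth.Agent.AlgSpDesc.LqfLocus
import Groth.Agent.AlgSpDesc.ResTrdeg
import Groth.Agent.AlgSpDesc.NoethFibre
import Groth.Agent.AlgSpDesc.DVRCriterion
import Groth.Agent.DimFormula.Scheme

/-!
Quasi-finiteness over points of codimension at most one.
-/

set_option autoImplicit false
set_option linter.style.haveILetI false
set_option backward.isDefEq.respectTransparency false

universe u

open CategoryTheory CategoryTheory.Limits AlgebraicGeometry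

namespace Groth.Agent.AlgSpDesc

open _root_.AlgSp Groth.Agent.AlgSpc

theorem coheight_eq_zero_iff' {X : Scheme.{u}} (x : X) : Order.coheight x = 0 ↔ ∀ g : X, g ⤳ x → x ⤳ g := by
  rw [Order.coheight_eq_zero]
  exact ⟨fun h g hg => h (show x ≤ g from hg), fun h g hg => h g hg⟩

/-- Quasi-finiteness over a point of codimension at most one from vanishing transcendence degrees at generic points. -/
theorem qf_over_codim_le_one {X Y : Scheme.{u}} [IsLocallyNoetherian Y] (k : X ⟶ Y) [LocallyOfFiniteType k] (v : Y)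
    (hv : ringKrullDim ↥(Y.presheaf.stalk v) ≤ 1)
    (hgen : ∀ g : X, (∀ h : X, h ⤳ g → g ⤳ h) → k g ⤳ v → Dual3.resTrdeg k g = 0)
    (x : X) (hx : k x = v) : k.QuasiFiniteAt x := by
  have hbd : ∀ z : X, k z = v → Dual3.resTrdeg k z = 0 ∧ ringKrullDim ↥(X.presheaf.stalk z) ≤ 1 := by
    intro z hz
    obtain ⟨n, hn, hle⟩ := DimFormula.stalk_ineq k z 0 fun ξ hξ hs => by
      refine (le_of_eq ?_)
      rw [Nat.cast_zero]
      refine hgen ξ (fun h hh => ?_) (hz ▸ hs.map k.continuous)
      rw [specializes_iff_mem_closure]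
      exact hξ.2 isIrreducible_singleton.closure (specializes_iff_closure_subset.1 hh) (subset_closure rfl)
    subst hz
    have hle1 : ringKrullDim ↥(X.presheaf.stalk z) + n ≤ 1 := by
      rw [Nat.cast_zero, add_zero] at hle; exact hle.trans hv
    rw [ringKrullDim_stalk_eq_coheight] at hle1 ⊢
    have hle2 : Order.coheight z + n ≤ 1 := by exact_mod_cast hle1
    refine ⟨?_, by exact_mod_cast le_trans le_self_add hle2⟩
    rcases Nat.eq_zero_or_pos n with rfl | hn0
    · exact hn.trans Nat.cast_zero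
    · refine hgen z ((coheight_eq_zero_iff' z).1 ?_) specializes_rfl
      have h1 : Order.coheight z + 1 ≤ 0 + 1 := by
        rw [zero_add]; exact le_trans (by gcongr; exact_mod_cast hn0) hle2
      exact le_antisymm ((WithTop.add_le_add_iff_right (by simp)).1 h1) bot_le
  -- a point of the fibre without proper generalisation in the fibre is quasi-finite
  have hmaxqf : ∀ z : X, k z = v → (∀ g : X, k g = v → g ⤳ z → z ⤳ g) → k.QuasiFiniteAt z := by
    intro z hz hm
    rw [quasiFiniteAt_iff_fibreDimAt, fibreDimAt_eq_stalk_add_resTrdeg, (hbd z hz).1,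
      ringKrullDim_stalk_eq_coheight]
    rw [show Order.coheight (k.asFiber z) = 0 from (coheight_eq_zero_iff' _).2 fun g hg => ?_]
    · simp
    have hg' : k.fiberι _ g ⤳ z := by simpa using hg.map (k.fiberι _).continuous
    have h3 := hm (k.fiberι _ g) (by
      have := k.range_fiberι (k z) ▸ Set.mem_range_self (f := k.fiberι (k z)) g
      exact (Set.mem_singleton_iff.1 this).trans hz) hg'
    refine (k.fiberι (k z)).isEmbedding.isInducing.specializes_iff.1 ?_
    simpa using h3
  refine hmaxqf x hx fun g hg hgx => ?_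
  by_contra hxg
  have hlt : x < g := lt_of_le_not_ge (show x ≤ g from hgx) fun h => hxg h
  have h0 : Order.coheight g = 0 := by
    have h1 : Order.coheight g + 1 ≤ Order.coheight x := Order.coheight_add_one_le hlt
    have h2 := (hbd x hx).2
    rw [ringKrullDim_stalk_eq_coheight] at h2
    have h3 : Order.coheight g + 1 ≤ 0 + 1 := by rw [zero_add]; exact h1.trans (by exact_mod_cast h2)
    exact le_antisymm ((WithTop.add_le_add_iff_right (by simp)).1 h3) bot_le
  have hq := hmaxqf g hg fun g' _ hg' => (coheight_eq_zero_iff' g).1 h0 g' hg'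
  have hc := hq.isClopen_singleton_asFiber.1
  have hh : (⟨g, rfl⟩ : k ⁻¹' {k g}) ⤳ ⟨x, hx.trans hg.symm⟩ := (subtype_specializes_iff _ _).2 hgx
  have := (hh.map (k.fiberHomeo (k g)).symm.continuous).mem_closed hc rfl
  exact hxg (specializes_of_eq (congrArg Subtype.val ((k.fiberHomeo (k g)).symm.injective this)))

/-- Near a maximal point of a locally Noetherian scheme all points are its specialisations. -/
theorem exists_nhd_of_maximal {X : Scheme.{u}} [IsLocallyNoetherian X] (g : X) (hg : ∀ h : X, h ⤳ g → g ⤳ h) :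
    ∃ N : Set X, IsOpen N ∧ g ∈ N ∧ ∀ z ∈ N, g ⤳ z := by
  obtain ⟨O, hO, hgO, -⟩ := exists_isAffineOpen_mem_and_subset (show g ∈ (⊤ : X.Opens) from trivial)
  haveI : IsAffine (O : Scheme.{u}) := hO
  haveI : IsLocallyNoetherian (O : Scheme.{u}) := isLocallyNoetherian_of_isOpenImmersion O.ι
  haveI : IsNoetherian (O : Scheme.{u}) := {}
  let g' : (O : Scheme.{u}) := ⟨g, hgO⟩
  have hfin := TopologicalSpace.NoetherianSpace.finite_irreducibleComponents (α := (O : Scheme.{u}))
  let C := irreducibleComponents (O : Scheme.{u})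
  let N' : Set (O : Scheme.{u}) := (⋃ Z ∈ {Z ∈ C | g' ∉ Z}, Z)ᶜ
  have hN' : IsOpen N' := ((hfin.subset (Set.sep_subset _ _)).isClosed_biUnion fun Z hZ =>
    isClosed_of_mem_irreducibleComponents Z hZ.1).isOpen_compl
  refine ⟨Subtype.val '' N', O.2.isOpenMap_subtype_val _ hN', ⟨g', by simp [N'], rfl⟩, ?_⟩
  rintro _ ⟨z, hz, rfl⟩
  haveI : QuasiSober ↥O := inferInstanceAs (QuasiSober (O : Scheme.{u}))
  have hmem : g' ∈ irreducibleComponent z := by
    by_contra hn
    exact hz (Set.mem_biUnion ⟨irreducibleComponent_mem_irreducibleComponents z, hn⟩ mem_irreducibleComponent)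
  obtain ⟨η, hη⟩ := QuasiSober.sober (isIrreducible_irreducibleComponent (x := z)) isClosed_irreducibleComponent
  have h1 : η.1 ⤳ g := (hη.specializes hmem).map continuous_subtype_val
  exact (hg _ h1).trans ((hη.specializes mem_irreducibleComponent).map continuous_subtype_val)

variable {S : Scheme.{u}} {X Y : Space S}

/-- The statement for algebraic spaces, on the points of a chart. -/
theorem qf_over_codim_le_one_space (f : X ⟶ Y) (hf : LocP @LocallyOfFiniteType f.hom) (hY : IsLocNoethSp Y.obj)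
    (y : Points Y.obj) (hy : HasAt (fun U u => ringKrullDim ↥(U.presheaf.stalk u) ≤ 1) Y.obj y)
    (h : ∀ x : Points X.obj, HasAt (fun U u => ringKrullDim ↥(U.presheaf.stalk u) = 0) X.obj x →
      Points.map f.hom x ⤳ y → HasAtMor (fun _ _ h u => Dual3.resTrdeg h u = 0) f.hom x)
    (x : Points X.obj) (hx : Points.map f.hom x = y) :
    HasAtMor (fun U _ h u => ∃ W : U.Opens, u ∈ W ∧ LocallyQuasiFinite (W.ι ≫ h) ∧
      LocallyOfFiniteType (W.ι ≫ h)) f.hom x := by
  obtain ⟨U, V, a, b, k, ha, has, hb, -, w⟩ := exists_chart X.property Y.property f.hom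
  haveI : LocallyOfFiniteType k.left := hf a b k ha hb w
  haveI : IsLocallyNoetherian V.left := AlgSpLoc.isLocallyNoetherian_chart hY hb
  obtain ⟨u, rfl⟩ := surjective_ofPt has x
  rw [Points.map_ofPt, w, ofPt_comp] at hx
  obtain ⟨V', b', v', hb', e', hv'⟩ := hy
  have hdim : ringKrullDim ↥(V.left.presheaf.stalk (k.left u)) ≤ 1 := by
    obtain ⟨W, fst, snd, sq⟩ := exists_sq hb'.1 b
    obtain ⟨t, ht₁, ht₂⟩ := exists_point_of_sq sq (Points.ofScheme V' v') (k.left u)
      (by rw [← Points.ofPt_eq_map_ofScheme, e', hx])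
    rw [ofPt_pre] at ht₁
    replace ht₁ : (pre fst).left t = v' := by simpa using congrArg (Points.toScheme V') ht₁
    haveI : Etale snd.left := hb'.2 _ _ _ sq
    have h1 : RepWith @Etale fst := repWith_of_isPullback sq.flip hb
    haveI : Etale (pre fst).left := (repWith_yon_map_iff _ _).1 (by rwa [map_pre])
    haveI : LocallyQuasiFinite (pre fst).left := AlgSpLoc.locallyQuasiFinite_of_etale _
    rw [ringKrullDim_stalk_eq_coheight] at hv' ⊢
    refine le_trans (WithBot.coe_le_coe.2 ?_) hv'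
    rw [← ht₁, ← ht₂]
    exact (coheight_apply_le_of_flat snd.left t).trans (coheight_le_apply_of_lqf (pre fst).left t)
  refine ⟨U, V, a, b, k, u, ha, hb, w, rfl, _, qf_over_codim_le_one k.left _ hdim (fun g hg hgs => ?_) u rfl,
    (lqf_restrict_quasiFiniteLocus k.left).1, (lqf_restrict_quasiFiniteLocus k.left).2⟩
  refine (hasAtMor_resTrdeg_iff (· = 0) ha hb w g).1 (h _ ⟨U, a, g, ha, rfl, ?_⟩ ?_)
  · change ringKrullDim _ = 0
    rw [ringKrullDim_stalk_eq_coheight, WithBot.coe_eq_zero]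
    exact (coheight_eq_zero_iff' g).2 hg
  · rw [Points.map_ofPt, w, ofPt_comp, ← hx]
    exact hgs.map (Points.continuous_ofPt b)

/-- Quasi-finite points have residue extensions of transcendence degree zero. -/
theorem resTrdeg_of_qfAt (f : X ⟶ Y) (hf : LocP @LocallyOfFiniteType f.hom) {x : Points X.obj}
    (h : HasAtMor (fun U _ h u => ∃ W : U.Opens, u ∈ W ∧ LocallyQuasiFinite (W.ι ≫ h) ∧
      LocallyOfFiniteType (W.ι ≫ h)) f.hom x) :
    HasAtMor (fun _ _ h u => Dual3.resTrdeg h u = 0) f.hom x := by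
  obtain ⟨U, V, a, b, k, u, ha, hb, w, e, W, hW, h1, h2⟩ := h
  refine ⟨U, V, a, b, k, u, ha, hb, w, e, ?_⟩
  have := resTrdeg_eq_zero_of_lqf (W.ι ≫ k.left) ⟨u, hW⟩
  rwa [resTrdeg_etale_comp] at this

/-- A dense set of quasi-finite points contains every point of codimension zero. -/
theorem qfAt_of_dense (f : X ⟶ Y) (hf : LocP @LocallyOfFiniteType f.hom) (hY : IsLocNoethSp Y.obj)
    (h : Dense {x : Points X.obj | HasAtMor (fun U _ h u => ∃ W : U.Opens, u ∈ W ∧ LocallyQuasiFinite (W.ι ≫ h) ∧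
      LocallyOfFiniteType (W.ι ≫ h)) f.hom x})
    (x : Points X.obj) (hx : HasAt (fun U u => ringKrullDim ↥(U.presheaf.stalk u) = 0) X.obj x) :
    HasAtMor (fun U _ h u => ∃ W : U.Opens, u ∈ W ∧ LocallyQuasiFinite (W.ι ≫ h) ∧
      LocallyOfFiniteType (W.ι ≫ h)) f.hom x := by
  have hX := isLocNoethSp_of_lft X.property hf hY
  obtain ⟨U, a, g, ha, rfl, hg⟩ := hx
  rw [ringKrullDim_stalk_eq_coheight, WithBot.coe_eq_zero, coheight_eq_zero_iff'] at hg
  haveI : IsLocallyNoetherian U.left := AlgSpLoc.isLocallyNoetherian_chart hX ha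
  obtain ⟨U₀, V₀, a₀, b₀, k₀, ha₀, has₀, hb₀, -, w₀⟩ := exists_chart X.property Y.property f.hom
  haveI : LocallyOfFiniteType k₀.left := hf a₀ b₀ k₀ ha₀ hb₀ w₀
  obtain ⟨u₀, hu₀⟩ := surjective_ofPt has₀ (Points.ofPt a g)
  have hopen : IsOpen {x : Points X.obj | HasAtMor (fun U _ h u => ∃ W : U.Opens, u ∈ W ∧
      LocallyQuasiFinite (W.ι ≫ h) ∧ LocallyOfFiniteType (W.ι ≫ h)) f.hom x} := by
    rw [← (isQuotientMap_ofPt ha₀ has₀).isOpen_preimage]
    convert k₀.left.quasiFiniteLocus.2 using 1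
    ext u
    refine ⟨?_, fun h0 => ⟨U₀, V₀, a₀, b₀, k₀, u, ha₀, hb₀, w₀, rfl, _, h0,
      (lqf_restrict_quasiFiniteLocus k₀.left).1, (lqf_restrict_quasiFiniteLocus k₀.left).2⟩⟩
    rintro ⟨U', V', a', b', k', u', ha', hb', w', e, W, hW, h1, h2⟩
    refine (quasiFiniteAt_iff_fibreDimAt _ _).2 ?_
    rw [fibreDimAt_unique ha₀ hb₀ w₀ ha' hb' w' e.symm]
    exact fibreDimAt_eq_zero_of_lqf_near W hW h1 h2
  -- a neighbourhood of `g` all of whose points specialise from `g`
  obtain ⟨N, hN, hgN, hNg⟩ := exists_nhd_of_maximal g hg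
  obtain ⟨_, ⟨z, hz, rfl⟩, hzq⟩ := h.inter_open_nonempty _ ((isOpenMap_ofPt ha) N hN) ⟨_, g, hgN, rfl⟩
  exact ((hNg z hz).map (Points.continuous_ofPt a)).mem_open hopen hzq

end Groth.Agent.AlgSpDesc
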