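import Groth.Agent.DVRDom.Basic
import Mathlib.RingTheory.Finiteness.Basic

/-!
Either a valuation ring extends to a valuation ring containing the given elements, or finitely many
non-units witness that it does not.
-/

set_option autoImplicit false
set_option linter.style.haveILetI false
set_option backward.isDefEq.respectTransparency false

universe u

open IsLocalRing

namespace Groth.Agent.AlgSpDesc

theorem exists_extension_or_finset {K L B : Type u} [Field K] [Field L] [CommRing B] (V : ValuationSubring K)
    (ψ : K →+* L) (β : B →+* L) :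
    (∃ (V' : ValuationSubring L) (φ : V →+* V') (_ : IsLocalHom φ),
      V'.subtype.comp φ = ψ.comp V.subtype ∧ ∀ b, β b ∈ V') ∨
    ∃ J : Finset K, (∀ x ∈ J, x ∈ V.nonunits) ∧ (∃ x ∈ J, x ≠ 0) ∧
      ∀ (L' A : Type u) [Field L'] [CommRing A] [IsLocalRing A] (ι : A →+* L') (ρ : L →+* L'),
        Function.Injective ι → (∀ b, ∃ a, ι a = ρ (β b)) →
        (∀ x ∈ J, ∃ a ∈ maximalIdeal A, ι a = ρ (ψ x)) → False := by
  classical
  letI := β.toAlgebra
  let m : Set L := ψ '' {x | x ∈ V.nonunits}
  let M : Submodule B L := Submodule.span B m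
  by_cases h1 : (1 : L) ∈ M
  · right
    obtain ⟨T, hT, hmem⟩ := Submodule.mem_span_finite_of_mem_span h1
    choose c hc hcT using fun t : T => hT t.2
    refine ⟨Finset.univ.image c, ?_, ?_, ?_⟩
    · intro x hx
      obtain ⟨t, -, rfl⟩ := Finset.mem_image.1 hx
      exact hc t
    · by_contra hall
      push Not at hall
      have : (T : Set L) ⊆ {0} := fun y hy => by
        change y = 0
        have h0 : c ⟨y, hy⟩ = 0 := hall _ (Finset.mem_image.2 ⟨_, Finset.mem_univ _, rfl⟩)
        exact ((hcT ⟨y, hy⟩).symm.trans (congrArg ψ h0)).trans (map_zero ψ)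
      have h2 := Submodule.span_mono (R := B) this hmem
      rw [Submodule.span_zero_singleton, Submodule.mem_bot] at h2
      exact one_ne_zero h2
    · intro L' A _ _ _ ι ρ hι hb hJ
      have key : ∀ x ∈ Submodule.span B (T : Set L), ∃ a ∈ maximalIdeal A, ι a = ρ x := by
        intro x hx
        induction hx using Submodule.span_induction with
        | mem y hy =>
          obtain ⟨a, ha, ha'⟩ := hJ _ (Finset.mem_image.2 ⟨⟨y, hy⟩, Finset.mem_univ _, rfl⟩)
          exact ⟨a, ha, ha'.trans (congrArg ρ (hcT ⟨y, hy⟩))⟩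
        | zero => exact ⟨0, zero_mem _, by simp⟩
        | add y z _ _ hy hz =>
          obtain ⟨a, ha, ha'⟩ := hy
          obtain ⟨a₂, ha₂, ha₂'⟩ := hz
          exact ⟨a + a₂, add_mem ha ha₂, by rw [map_add, map_add, ha', ha₂']⟩
        | smul b y _ hy =>
          obtain ⟨a, ha, ha'⟩ := hy
          obtain ⟨a₂, ha₂⟩ := hb b
          exact ⟨a₂ * a, Ideal.mul_mem_left _ _ ha, by rw [map_mul, ha', ha₂, Algebra.smul_def, map_mul]; rfl⟩
      obtain ⟨a, ha, ha'⟩ := key 1 hmem
      rw [map_one, ← ι.map_one] at ha'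
      exact (mem_maximalIdeal a).1 ha (hι ha' ▸ isUnit_one)
  · left
    let R' : Subring L :=
      { carrier := {x | ∀ y ∈ M, x * y ∈ M}
        mul_mem' := fun {x z} hx hz y hy => by rw [mul_assoc]; exact hx _ (hz _ hy)
        one_mem' := fun y hy => by rw [one_mul]; exact hy
        add_mem' := fun {x z} hx hz y hy => by rw [add_mul]; exact add_mem (hx _ hy) (hz _ hy)
        zero_mem' := fun y _ => by rw [zero_mul]; exact zero_mem _
        neg_mem' := fun {x} hx y hy => by rw [neg_mul]; exact neg_mem (hx _ hy) }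
    have hβ : ∀ b, β b ∈ R' := fun b y hy => by
      have : β b * y = b • y := (Algebra.smul_def b y).symm
      rw [this]
      exact M.smul_mem b hy
    have hnu : ∀ v ∈ V, ∀ x ∈ V.nonunits, v * x ∈ V.nonunits := fun v hv x hx => by
      rw [ValuationSubring.mem_nonunits_iff, map_mul]
      exact lt_of_le_of_lt (mul_le_of_le_one_left zero_le ((V.valuation_le_one_iff v).2 hv))
        ((V.mem_nonunits_iff).1 hx)
    have hV : ∀ v ∈ V, ψ v ∈ R' := fun v hv y hy => by
      induction hy using Submodule.span_induction with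
      | mem z hz =>
        obtain ⟨x, hx, rfl⟩ := hz
        rw [← map_mul]
        exact Submodule.subset_span ⟨_, hnu v hv x hx, rfl⟩
      | zero => rw [mul_zero]; exact zero_mem _
      | add z w _ _ hz hw => rw [mul_add]; exact add_mem hz hw
      | smul b z _ hz => rw [mul_smul_comm]; exact M.smul_mem b hz
    let I : Ideal R' :=
      { carrier := {x | (x : L) ∈ M}
        add_mem' := fun {x y} (hx : (x : L) ∈ M) (hy : (y : L) ∈ M) => show ((x + y : R') : L) ∈ M from add_mem hx hy
        zero_mem' := zero_mem M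
        smul_mem' := fun c x (hx : (x : L) ∈ M) => show ((c • x : R') : L) ∈ M from c.2 _ hx }
    have hI : I ≠ ⊤ := fun h => h1 (show ((1 : R') : L) ∈ M from (h.symm ▸ Submodule.mem_top : (1 : R') ∈ I))
    obtain ⟨P, hP, hIP⟩ := Ideal.exists_le_maximal I hI
    let f : Localization.AtPrime P →+* L :=
      IsLocalization.lift (M := P.primeCompl) (g := R'.subtype) fun y =>
        isUnit_iff_ne_zero.2 fun h => y.2 (show (y : R') ∈ P from (Subtype.ext h : (y : R') = 0).symm ▸ zero_mem P)
    obtain ⟨V', hV', hl⟩ := IsLocalRing.exists_factor_valuationRing f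
    let g : Localization.AtPrime P →+* V' := f.codRestrict V'.toSubring hV'
    haveI : IsLocalHom g := hl
    have hmem : ∀ (x : L) (hx : x ∈ R'), x ∈ V' := fun x hx => by
      have := hV' (algebraMap R' (Localization.AtPrime P) ⟨x, hx⟩)
      rwa [IsLocalization.lift_eq] at this
    let φ : V →+* V' := (ψ.comp V.subtype).codRestrict V'.toSubring fun v => hmem _ (hV v v.2)
    refine ⟨V', φ, ⟨fun v hv => ?_⟩, rfl, fun b => hmem _ (hβ b)⟩
    by_contra hu
    have hn : (v : K) ∈ V.nonunits := by
      rw [ValuationSubring.mem_nonunits_iff]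
      exact (V.valuation_lt_one_iff v).1 ((mem_maximalIdeal v).2 hu)
    let r : R' := ⟨ψ v, hV v v.2⟩
    have hr : r ∈ P := hIP (Submodule.subset_span ⟨_, hn, rfl⟩)
    have he : g (algebraMap R' (Localization.AtPrime P) r) = φ v := Subtype.ext (IsLocalization.lift_eq _ r)
    rw [← he] at hv
    exact (IsLocalization.AtPrime.isUnit_to_map_iff (Localization.AtPrime P) P r).1 (IsUnit.of_map g _ hv) hr

end Groth.Agent.AlgSpDesc
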