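import Groth.Agent.AlgSpDesc.RefinedVC
import Groth.Agent.AlgSpDesc.ValApprox
import Groth.Agent.AlgSpDesc.DVRCriterion
import Groth.Agent.AlgSpDesc.FlatLift

/-!
Discrete valuation rings suffice for the valuative criterion along a dense finite type morphism.
-/

set_option autoImplicit false
set_option linter.style.haveILetI false
set_option backward.isDefEq.respectTransparency false

universe u

open CategoryTheory CategoryTheory.Limits AlgebraicGeometry IsLocalRing

namespace Groth.Agent.AlgSpDesc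

open _root_.AlgSp Groth.Agent.AlgSpc

variable {S : Scheme.{u}}

/-- The fibre of an affine chart over a field point is finite over a quasi-separated base. -/
theorem finite_fibre {T W : Over S} [IsAffine T.left] [IsAffine W.left] {P : Sp S} {p : P ⟶ (yon S).obj T}
    (hqs : IsQuasiSeparatedMor p) {a : (yon S).obj W ⟶ P} (ha : RepWith @Etale a) {k : Type u} [Field k]
    {str : Spec (CommRingCat.of k) ⟶ S} (x : (yon S).obj (Over.mk str) ⟶ P) {F : Over S}
    {fst : (yon S).obj F ⟶ (yon S).obj W} {snd : F ⟶ Over.mk str}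
    (sF : IsPullback fst ((yon S).map snd) a x) : Finite F.left := by
  let g : W ⟶ T := pre (a ≫ p)
  let xT : Over.mk str ⟶ T := pre (x ≫ p)
  haveI : CompactSpace F.left := by
    let Wp : Over S := Over.mk (pullback.fst g.left xT.left ≫ W.hom)
    let q₁ : Wp ⟶ W := Over.homMk (pullback.fst g.left xT.left) rfl
    let q₂ : Wp ⟶ Over.mk str := Over.homMk (pullback.snd g.left xT.left) (by
      change _ = pullback.fst g.left xT.left ≫ W.hom
      rw [← Over.w g, ← Over.w xT, pullback.condition_assoc])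
    have hq12 : q₁ ≫ g = q₂ ≫ xT := by ext; exact pullback.condition
    haveI : IsAffine (Over.mk str).left := inferInstanceAs (IsAffine (Spec (CommRingCat.of k)))
    haveI : CompactSpace Wp.left := inferInstanceAs (CompactSpace ↥(pullback g.left xT.left))
    let ξ : (yon S).obj Wp ⟶ pullback p p := pullback.lift ((yon S).map q₁ ≫ a) ((yon S).map q₂ ≫ x) (by
      rw [Category.assoc, Category.assoc, ← map_pre (a ≫ p), ← map_pre (x ≫ p), ← Functor.map_comp,
        ← Functor.map_comp, hq12])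
    obtain ⟨E, e₁, e₂, sE⟩ := exists_sq hqs.1 ξ
    haveI : QuasiCompact e₂.left := hqs.2 _ _ _ sE
    haveI : CompactSpace E.left := QuasiCompact.compactSpace_of_compactSpace e₂.left
    have he₁ : e₁ = (yon S).map (e₂ ≫ q₁) ≫ a := by
      have h1 : (e₁ ≫ pullback.diagonal p) ≫ pullback.fst p p = ((yon S).map e₂ ≫ ξ) ≫ pullback.fst p p :=
        congrArg (· ≫ _) sE.w
      simp only [Category.assoc, pullback.diagonal_fst, ξ, pullback.lift_fst, Category.comp_id] at h1
      rw [h1, Functor.map_comp, Category.assoc]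
    have he₂ : e₁ = (yon S).map (e₂ ≫ q₂) ≫ x := by
      have h1 : (e₁ ≫ pullback.diagonal p) ≫ pullback.snd p p = ((yon S).map e₂ ≫ ξ) ≫ pullback.snd p p :=
        congrArg (· ≫ _) sE.w
      simp only [Category.assoc, pullback.diagonal_snd, ξ, pullback.lift_snd, Category.comp_id] at h1
      rw [h1, Functor.map_comp, Category.assoc]
    let toV : E ⟶ F := pre (sF.lift ((yon S).map (e₂ ≫ q₁)) ((yon S).map (e₂ ≫ q₂)) (he₁.symm.trans he₂))
    have hVW : (pre fst) ≫ g = snd ≫ xT := (yon S).map_injective (by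
      rw [Functor.map_comp, map_pre, map_pre, ← Category.assoc, sF.w, Category.assoc, Functor.map_comp, map_pre])
    let mW : F ⟶ Wp := Over.homMk (pullback.lift (pre fst).left snd.left (congrArg CommaMorphism.left hVW)) (by
      change _ ≫ pullback.fst _ _ ≫ W.hom = _
      rw [pullback.lift_fst_assoc, Over.w (pre fst)])
    have hm₁ : mW ≫ q₁ = pre fst := by ext; exact pullback.lift_fst _ _ _
    have hm₂ : mW ≫ q₂ = snd := by ext; exact pullback.lift_snd _ _ _
    have hcond : (fst ≫ a) ≫ pullback.diagonal p = (yon S).map mW ≫ ξ := by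
      apply pullback.hom_ext
      · simp only [Category.assoc, pullback.diagonal_fst, Category.comp_id, ξ, pullback.lift_fst]
        rw [← Functor.map_comp_assoc, hm₁, map_pre]
      · simp only [Category.assoc, pullback.diagonal_snd, Category.comp_id, ξ, pullback.lift_snd]
        rw [← Functor.map_comp_assoc, hm₂, sF.w]
    let toE : F ⟶ E := pre (sE.lift _ _ hcond)
    have hE : toE ≫ e₂ = mW := (yon S).map_injective (by rw [Functor.map_comp, map_pre, sE.lift_snd])
    have hsec : toE ≫ toV = 𝟙 F := (yon S).map_injective (sF.hom_ext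
      (by
        rw [Functor.map_comp, Category.assoc, show (yon S).map toV = _ from map_pre _, sF.lift_fst,
          ← Functor.map_comp, ← Category.assoc, hE, hm₁, map_pre, CategoryTheory.Functor.map_id, Category.id_comp])
      (by
        rw [Functor.map_comp, Category.assoc, show (yon S).map toV = _ from map_pre _, sF.lift_snd,
          ← Functor.map_comp, ← Category.assoc, hE, hm₂, CategoryTheory.Functor.map_id, Category.id_comp]))
    haveI : Surjective toV.left := ⟨fun v => ⟨toE.left v, by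
      rw [← Scheme.Hom.comp_apply, ← Over.comp_left, hsec]; rfl⟩⟩
    exact ⟨toV.left.surjective.range_eq ▸ isCompact_range toV.left.continuous⟩
  haveI : Etale snd.left := ha.2 _ _ _ sF
  haveI : IsLocallyArtinian F.left := isLocallyArtinian_of_etale_field (k := k) snd.left
  exact finite_of_compact_of_discrete

/-- The residue field of a point of an affine scheme of finite type is finitely generated. -/
theorem exists_finset_closure_eq_top {Z T : Scheme.{u}} [IsAffine Z] [IsAffine T] (g : Z ⟶ T)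
    [LocallyOfFiniteType g] (z : Z) :
    ∃ s : Finset (Z.residueField z), Subfield.closure
      (Set.range (Spec.preimage (Z.fromSpecResidueField z ≫ g ≫ T.isoSpec.hom)).hom ∪ s) = ⊤ := by
  classical
  let ev : Γ(Z, ⊤) ⟶ Z.residueField z := Z.presheaf.germ ⊤ z trivial ≫ Z.residue z
  have hρ : Spec.preimage (Z.fromSpecResidueField z ≫ g ≫ T.isoSpec.hom) = g.appTop ≫ ev := by
    apply Spec.map_injective
    rw [Spec.map_preimage, Scheme.isoSpec_hom, Scheme.toSpecΓ_naturality]
    simp only [ev, Spec.map_comp, Category.assoc]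
    rw [Scheme.fromSpecResidueField, Category.assoc, Scheme.fromSpecStalk_toSpecΓ_assoc]
  have hft : (g.appTop).hom.FiniteType := (HasRingHomProperty.iff_of_isAffine (P := @LocallyOfFiniteType)).1 ‹_›
  letI := g.appTop.hom.toAlgebra
  obtain ⟨G, hG⟩ := (hft : Algebra.FiniteType Γ(T, ⊤) Γ(Z, ⊤)).out
  refine ⟨G.image ev.hom, top_le_iff.1 fun y _ => ?_⟩
  rw [hρ]
  set F₀ := Subfield.closure (Set.range (g.appTop ≫ ev).hom ∪ ↑(G.image ev.hom))
  have key : ∀ b : Γ(Z, ⊤), ev.hom b ∈ F₀ := fun b => by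
    have hb : b ∈ Algebra.adjoin Γ(T, ⊤) (G : Set Γ(Z, ⊤)) := by rw [hG]; trivial
    induction hb using Algebra.adjoin_induction with
    | mem c hc => exact Subfield.subset_closure (Or.inr (Finset.mem_image_of_mem _ hc))
    | algebraMap r => exact Subfield.subset_closure (Or.inl ⟨r, rfl⟩)
    | add c d _ _ hc hd => rw [map_add]; exact add_mem hc hd
    | mul c d _ _ hc hd => rw [map_mul]; exact mul_mem hc hd
  obtain ⟨x, rfl⟩ := Z.residue_surjective z y
  haveI := (isAffineOpen_top Z).isLocalization_stalk ⟨z, trivial⟩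
  letI := TopCat.Presheaf.algebra_section_stalk Z.presheaf (⟨z, trivial⟩ : (⊤ : Z.Opens))
  obtain ⟨⟨b, c⟩, hbc⟩ := IsLocalization.surj
    ((isAffineOpen_top Z).primeIdealOf ⟨z, trivial⟩).asIdeal.primeCompl x
  have hu := IsLocalization.map_units (Z.presheaf.stalk z) c
  have h1 : Z.residue z x * ev.hom c = ev.hom b := by
    have := congrArg (Z.residue z).hom hbc
    rw [map_mul] at this
    exact this
  have h2 : ev.hom c ≠ 0 := (hu.map (Z.residue z).hom).ne_zero
  have h3 : Z.residue z x = ev.hom b / ev.hom c := by rw [eq_div_iff h2]; exact h1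
  rw [h3]
  exact div_mem (key b) (key c)

section Affine

variable {T : Over S} [IsAffine T.left] [IsLocallyNoetherian T.left] {P : Sp S} {p : P ⟶ (yon S).obj T}
  {Z : Over S} [IsAffine Z.left] (b : (yon S).obj Z ⟶ P) [LocallyOfFiniteType (pre (b ≫ p)).left]

set_option maxHeartbeats 800000 in
/-- Discrete valuation rings through a point of finite type over the base give all valuation rings of its
residue field. -/
theorem hasLiftExt_of_dvr (hP : IsAlgSpace P) (hq : IsQuasiCompactMor p) (hqs : IsQuasiSeparatedMor p)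
    (H : ∀ sq : ValSq p, IsDiscreteValuationRing sq.A →
      (∃ t : (yon S).obj sq.ptK ⟶ (yon S).obj Z, t ≫ b = sq.top) → sq.HasLiftExt)
    (z : ↥Z.left) (V : ValuationSubring (Z.left.residueField z)) (b₀ : Spec (CommRingCat.of V) ⟶ T.left)
    (hb₀ : Spec.map (CommRingCat.ofHom V.subtype) ≫ b₀ = Z.left.fromSpecResidueField z ≫ (pre (b ≫ p)).left) :
    (chartSq (p := p) b z V b₀ hb₀).HasLiftExt := by
  classical
  let g : Z ⟶ T := pre (b ≫ p)
  have hPq : IsQuasiCompactSp P :=
    hq (IsAlgSpace.yon_obj T) ⟨T, 𝟙 _, repWith_id _ _, repWith_id _ _, inferInstance⟩ (𝟙 _) (𝟙 _) p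
      (IsPullback.of_horiz_isIso ⟨by simp⟩)
  obtain ⟨W, a, hW, ha, has⟩ := (isQuasiCompactSp_iff_affine hP).1 hPq
  haveI := hW
  let sq := chartSq (p := p) b z V b₀ hb₀
  obtain ⟨F, fst, snd, sF⟩ := exists_sq ha.1 sq.top
  haveI : Etale snd.left := ha.2 _ _ _ sF
  haveI : Finite F.left := finite_fibre hqs ha sq.top sF
  let ψ : ∀ w : F.left, CommRingCat.of (Z.left.residueField z) ⟶ F.left.residueField w := fun w =>
    Spec.preimage (F.left.fromSpecResidueField w ≫ snd.left)
  let β : ∀ w : F.left, Γ(W.left, ⊤) ⟶ F.left.residueField w := fun w =>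
    Spec.preimage (F.left.fromSpecResidueField w ≫ (pre fst).left ≫ W.left.isoSpec.hom)
  by_contra hno
  have hbad : ∀ w : F.left, ∃ J : Finset (Z.left.residueField z), (∀ x ∈ J, x ∈ V.nonunits) ∧
      (∃ x ∈ J, x ≠ 0) ∧ ∀ (L' A : Type u) [Field L'] [CommRing A] [IsLocalRing A] (ι : A →+* L')
        (ρ : F.left.residueField w →+* L'), Function.Injective ι → (∀ b, ∃ a, ι a = ρ ((β w).hom b)) →
        (∀ x ∈ J, ∃ a ∈ maximalIdeal A, ι a = ρ ((ψ w).hom x)) → False := by
    intro w
    refine (exists_extension_or_finset V (ψ w).hom (β w).hom).resolve_left ?_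
    rintro ⟨V', φ, hφl, hc, hβ⟩
    let g' : Spec (CommRingCat.of V') ⟶ W.left :=
      Spec.map (CommRingCat.ofHom ((β w).hom.codRestrict V'.toSubring hβ)) ≫ W.left.isoSpec.inv
    have hg' : Spec.map (CommRingCat.ofHom V'.subtype) ≫ g' = F.left.fromSpecResidueField w ≫ (pre fst).left := by
      rw [← Spec.map_comp_assoc]
      change Spec.map (β w) ≫ _ = _
      rw [Spec.map_preimage]
      simp
    have hw : (pre fst) ≫ pre (a ≫ p) = snd ≫ pre (sq.top ≫ p) := (yon S).map_injective (by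
      rw [Functor.map_comp, map_pre, map_pre, ← Category.assoc, sF.w, Category.assoc, Functor.map_comp, map_pre])
    have htop : (pre (sq.top ≫ p)).left = Z.left.fromSpecResidueField z ≫ g.left := by
      rw [show sq.top ≫ p = (yon S).map sq.j ≫ sq.bot from sq.comm, ← Functor.map_comp, pre_map]
      exact hb₀
    have hbot : g' ≫ (pre (a ≫ p)).left = Spec.map (CommRingCat.ofHom φ) ≫ b₀ := by
      refine Groth.Agent.DVRDom.hom_ext_of_valuationSubring V' _ _ ?_
      rw [← Category.assoc, hg', Category.assoc, ← Over.comp_left, hw, Over.comp_left, htop,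
        ← Spec.map_comp_assoc (CommRingCat.ofHom φ), ← CommRingCat.ofHom_comp, hc, CommRingCat.ofHom_comp,
        Spec.map_comp, Category.assoc, hb₀, ← reassoc_of% (Spec.map_preimage _ : Spec.map (ψ w) = _)]
      rfl
    refine hno ⟨{ A' := V', K' := F.left.residueField w, φ := φ, ψ := (ψ w).hom, comm := hc, isLocalHom := hφl }, ?_⟩
    let e : sq.DomExt :=
      { A' := V', K' := F.left.residueField w, φ := φ, ψ := (ψ w).hom, comm := hc, isLocalHom := hφl }
    let gO : e.ptA' ⟶ W := Over.homMk g' (by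
      change g' ≫ W.hom = Spec.map (CommRingCat.ofHom φ) ≫ b₀ ≫ T.hom
      rw [← reassoc_of% hbot, Over.w (pre (a ≫ p))])
    let wF : e.ptK' ⟶ F := Over.homMk (F.left.fromSpecResidueField w) (by
      change _ = Spec.map (CommRingCat.ofHom V'.subtype) ≫ Spec.map (CommRingCat.ofHom φ) ≫ b₀ ≫ T.hom
      rw [← reassoc_of% hbot, reassoc_of% hg', Over.w (pre (a ≫ p)), Over.w (pre fst)])
    refine ⟨(yon S).map gO ≫ a, ?_, ?_⟩
    · have h1 : (Over.homMk (Spec.map (CommRingCat.ofHom (algebraMap e.A' e.K'))) rfl : e.ptK' ⟶ e.ptA') ≫ gO =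
          wF ≫ pre fst := by
        ext
        exact hg'
      rw [← Functor.map_comp_assoc, h1, Functor.map_comp_assoc, map_pre, sF.w, ← Functor.map_comp_assoc]
      congr 2
      ext
      exact (Spec.map_preimage _).symm
    · rw [Category.assoc, ← map_pre (a ≫ p), ← Functor.map_comp, ← Functor.map_comp]
      congr 1
      ext
      exact hbot
  choose J hJ hJ0 hJbad using hbad
  obtain ⟨w₀⟩ : Nonempty F.left := by
    obtain ⟨u, hu⟩ := surjective_ofPt has (Points.ofPt sq.top (closedPoint sq.K))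
    obtain ⟨v, -, -⟩ := exists_point_of_sq sF (Points.ofScheme W u) (closedPoint sq.K)
      (by rw [← Points.ofPt_eq_map_ofScheme]; exact hu)
    exact ⟨v⟩
  let _ := Fintype.ofFinite F.left
  let J₀ := Finset.univ.biUnion J
  obtain ⟨s, hs⟩ := exists_finset_closure_eq_top g.left z
  let ρ : Γ(T.left, ⊤) →+* Z.left.residueField z :=
    (Spec.preimage (Z.left.fromSpecResidueField z ≫ g.left ≫ T.left.isoSpec.hom)).hom
  have hρ : ρ = ringOf (Z.left.fromSpecResidueField z ≫ g.left) := by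
    simp only [ρ, ringOf, Category.assoc]
  have hρV : ∀ x, ρ x ∈ V := fun x => by
    rw [hρ, ← ringOf_comp b₀ _ V.subtype hb₀]
    exact Subtype.prop _
  haveI : IsNoetherianRing Γ(T.left, ⊤) := IsLocallyNoetherian.component_noetherian ⟨⊤, isAffineOpen_top _⟩
  letI := ρ.toAlgebra
  obtain ⟨R, hR, hρR, hJR⟩ := Groth.Agent.DVRDom.exists_dvr_of_valuationSubring (A := Γ(T.left, ⊤)) s hs V hρV J₀
    (fun x hx => by obtain ⟨w, -, hw⟩ := Finset.mem_biUnion.1 hx; exact hJ w x hw)
    (by obtain ⟨x, hx, hx0⟩ := hJ0 w₀; exact ⟨x, Finset.mem_biUnion.2 ⟨w₀, Finset.mem_univ _, hx⟩, hx0⟩)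
  let bR : Spec (CommRingCat.of R) ⟶ T.left :=
    Spec.map (CommRingCat.ofHom (ρ.codRestrict R.toSubring hρR)) ≫ T.left.isoSpec.inv
  have hbR : Spec.map (CommRingCat.ofHom R.subtype) ≫ bR = Z.left.fromSpecResidueField z ≫ g.left := by
    rw [← Spec.map_comp_assoc]
    change Spec.map (CommRingCat.ofHom ρ) ≫ _ = _
    rw [hρ]
    exact specMap_ringOf _
  let sqR := chartSq (p := p) b z R bR hbR
  obtain ⟨e, l, hl₁, hl₂⟩ := H sqR hR ⟨_, rfl⟩
  -- the lift meets one of the charts
  obtain ⟨E, eW, eA, sE⟩ := exists_sq ha.1 l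
  haveI : Etale eA.left := ha.2 _ _ _ sE
  obtain ⟨u, hu⟩ := surjective_ofPt has (Points.ofPt l (closedPoint e.A'))
  obtain ⟨u', -, hu'⟩ := exists_point_of_sq sE (Points.ofScheme W u) (closedPoint e.A')
    (by rw [← Points.ofPt_eq_map_ofScheme]; exact hu)
  obtain ⟨A'', _, _, _, χ, g'', hχ, hχl, hg''⟩ := exists_flat_lift_scheme (A := e.A') eA.left u' hu'
  obtain ⟨L, _, _, _⟩ : ∃ (L : Type u) (_ : Field L) (_ : Algebra A'' L), IsFractionRing A'' L :=
    ⟨FractionRing A'', inferInstance, inferInstance, inferInstance⟩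
  have hgL : Function.Injective ((algebraMap A'' L).comp χ) := (IsFractionRing.injective A'' L).comp hχ
  obtain ⟨ψL, hψL⟩ : ∃ ψL : e.K' →+* L, ψL.comp (algebraMap e.A' e.K') = (algebraMap A'' L).comp χ :=
    ⟨IsFractionRing.lift hgL, RingHom.ext (IsFractionRing.lift_algebraMap hgL)⟩
  let jA : e.ptK' ⟶ e.ptA' := Over.homMk (Spec.map (CommRingCat.ofHom (algebraMap e.A' e.K'))) rfl
  let jψ : e.ptK' ⟶ sqR.ptK := Over.homMk (Spec.map (CommRingCat.ofHom e.ψ)) (by
    change Spec.map _ ≫ Spec.map _ ≫ _ = Spec.map _ ≫ Spec.map _ ≫ _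
    rw [← Spec.map_comp_assoc, ← Spec.map_comp_assoc, ← CommRingCat.ofHom_comp,
      ← CommRingCat.ofHom_comp, e.comm])
  change (yon S).map jA ≫ l = (yon S).map jψ ≫ sqR.top at hl₁
  let Q : Over S := Over.mk (Spec.map (CommRingCat.ofHom ψL) ≫ e.ptK'.hom)
  let qK : Q ⟶ e.ptK' := Over.homMk (Spec.map (CommRingCat.ofHom ψL)) rfl
  have hQA : Spec.map (CommRingCat.ofHom ψL) ≫ jA.left =
      (Spec.map (CommRingCat.ofHom (algebraMap A'' L)) ≫ g'') ≫ eA.left := by
    rw [Category.assoc, hg'']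
    change Spec.map _ ≫ Spec.map _ = Spec.map _ ≫ Spec.map _
    rw [← Spec.map_comp, ← Spec.map_comp, ← CommRingCat.ofHom_comp, ← CommRingCat.ofHom_comp, hψL]
  let qE : Q ⟶ E := Over.homMk (Spec.map (CommRingCat.ofHom (algebraMap A'' L)) ≫ g'') (by
    change _ = Spec.map (CommRingCat.ofHom ψL) ≫ e.ptK'.hom
    rw [← Over.w eA, ← Category.assoc, ← hQA, Category.assoc, Over.w jA])
  have hqE : qE ≫ eA = qK ≫ jA := by ext; exact hQA.symm
  let cz : sqR.ptK ⟶ sq.ptK := Over.homMk (𝟙 _) (by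
    change 𝟙 _ ≫ Spec.map (CommRingCat.ofHom V.subtype) ≫ b₀ ≫ T.hom =
      Spec.map (CommRingCat.ofHom R.subtype) ≫ bR ≫ T.hom
    rw [Category.id_comp, reassoc_of% hb₀, reassoc_of% hbR])
  have hcz : sqR.top = (yon S).map cz ≫ sq.top := by
    simp only [sqR, sq, chartSq]
    rw [← Functor.map_comp_assoc]
    congr 2
  have wF : ((yon S).map qE ≫ eW) ≫ a = (yon S).map (qK ≫ jψ ≫ cz) ≫ sq.top := by
    rw [Category.assoc, sE.w, ← Functor.map_comp_assoc, hqE, Functor.map_comp_assoc, hl₁, hcz,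
      Functor.map_comp_assoc, Functor.map_comp_assoc]
  let qF : Q ⟶ F := pre (sF.lift _ _ wF)
  have hqF₁ : qF ≫ pre fst = qE ≫ pre eW := (yon S).map_injective (by
    rw [Functor.map_comp, map_pre, map_pre, sF.lift_fst, Functor.map_comp, map_pre])
  have hqF₂ : qF ≫ snd = qK ≫ jψ ≫ cz := (yon S).map_injective (by
    rw [Functor.map_comp, map_pre, sF.lift_snd])
  let iL : Spec (CommRingCat.of L) ⟶ F.left := qF.left
  let w : F.left := iL (closedPoint L)
  let r : F.left.residueField w ⟶ CommRingCat.of L := F.left.descResidueField (Scheme.stalkClosedPointTo iL)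
  have hr : Spec.map r ≫ F.left.fromSpecResidueField w = qF.left :=
    F.left.descResidueField_stalkClosedPointTo_fromSpecResidueField L iL
  let c'' : Γ(W.left, ⊤) ⟶ CommRingCat.of A'' := Spec.preimage (g'' ≫ (pre eW).left ≫ W.left.isoSpec.hom)
  have hc'' : β w ≫ r = c'' ≫ CommRingCat.ofHom (algebraMap A'' L) := by
    apply Spec.map_injective
    rw [Spec.map_comp, Spec.map_comp, Spec.map_preimage, Spec.map_preimage, reassoc_of% hr,
      ← Category.assoc qF.left, ← Over.comp_left, hqF₁, Over.comp_left]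
    simp [qE]
  have hψr : ψ w ≫ r = CommRingCat.ofHom (ψL.comp e.ψ) := by
    apply Spec.map_injective
    rw [Spec.map_comp, Spec.map_preimage, reassoc_of% hr, ← Over.comp_left, hqF₂, CommRingCat.ofHom_comp,
      Spec.map_comp]
    simp [qK, jψ, cz]
  haveI := e.isLocalHom
  haveI := hχl
  refine hJbad w L A'' (algebraMap A'' L) r.hom (IsFractionRing.injective A'' L)
    (fun x => ⟨c''.hom x, (congrArg (fun q => q.hom x) hc'').symm⟩) fun x hx => ?_
  have hxn := hJR x (Finset.mem_biUnion.2 ⟨w, Finset.mem_univ _, hx⟩)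
  let xR : R := ⟨x, ValuationSubring.nonunits_subset hxn⟩
  refine ⟨χ (e.φ xR), (mem_maximalIdeal _).2 fun hu => ?_, ?_⟩
  · have h1 : IsUnit xR := IsUnit.of_map e.φ _ (IsUnit.of_map χ _ hu)
    exact (mem_maximalIdeal xR).1 ((R.valuation_lt_one_iff xR).2 ((R.mem_nonunits_iff).1 hxn)) h1
  · have h1 : (ψ w ≫ r).hom x = ψL (e.ψ x) := congrArg (fun q => q.hom x) hψr
    refine Eq.trans ?_ h1.symm
    rw [← RingHom.comp_apply, ← hψL, RingHom.comp_apply]
    exact congrArg ψL (RingHom.congr_fun e.comm xR)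

end Affine

/-- Lifts after extension pass to base changes. -/
theorem hasLiftExt_pullback {X Y X' Y' : Sp S} {f : X ⟶ Y} {c : Y' ⟶ Y} {fst : X' ⟶ X} {snd : X' ⟶ Y'}
    (sP : IsPullback fst snd f c) (sq₁ : ValSq snd)
    (he : ({ A := sq₁.A, K := sq₁.K, str := sq₁.str, top := sq₁.top ≫ fst, bot := sq₁.bot ≫ c,
             comm := by rw [Category.assoc, sP.w, reassoc_of% sq₁.comm] } : ValSq f).HasLiftExt) :
    sq₁.HasLiftExt := by
  obtain ⟨e, l, h₁, h₂⟩ := he
  let e₁ : sq₁.DomExt :=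
    { A' := e.A', K' := e.K', φ := e.φ, ψ := e.ψ, comm := e.comm, isLocalHom := e.isLocalHom }
  let qA : e₁.ptA' ⟶ sq₁.ptA := Over.homMk (Spec.map (CommRingCat.ofHom e.φ)) rfl
  have h₂' : l ≫ f = ((yon S).map qA ≫ sq₁.bot) ≫ c := h₂.trans (Category.assoc _ _ _).symm
  refine ⟨e₁, sP.lift l ((yon S).map qA ≫ sq₁.bot) h₂', sP.hom_ext ?_ ?_, sP.lift_snd _ _ _⟩
  · rw [Category.assoc, sP.lift_fst, Category.assoc]; exact h₁
  · rw [Category.assoc, sP.lift_snd, Category.assoc, sq₁.comm, ← Functor.map_comp_assoc,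
      ← Functor.map_comp_assoc]
    congr 2
    ext
    change Spec.map _ ≫ Spec.map _ = Spec.map _ ≫ Spec.map _
    rw [← Spec.map_comp, ← Spec.map_comp, ← CommRingCat.ofHom_comp, ← CommRingCat.ofHom_comp, e₁.comm]

variable {U X Y : Sp S} {f : X ⟶ Y}

set_option maxHeartbeats 800000 in
/-- Discrete valuation rings give all valuation rings, for squares through `U`. -/
theorem hasLiftExt_of_dvr_through (hU : IsAlgSpace U) (hX : IsAlgSpace X) (hY : IsAlgSpace Y)
    (hq : IsQuasiCompactMor f) (hqs : IsQuasiSeparatedMor f) (hl : LocP @LocallyOfFiniteType f)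
    (hN : IsLocNoethSp Y) (h : U ⟶ X) (hh : LocP @LocallyOfFiniteType h)
    (H : ∀ sq : ValSq f, IsDiscreteValuationRing sq.A →
      (∃ t : (yon S).obj sq.ptK ⟶ U, t ≫ h = sq.top) → sq.HasLiftExt)
    (sq : ValSq f) (t : (yon S).obj sq.ptK ⟶ U) (ht : t ≫ h = sq.top) : sq.HasLiftExt := by
  obtain ⟨U₀, c₀, hc₀, hc₀s, hU₀⟩ := hN
  haveI : IsLocallyNoetherian U₀.left := hU₀
  obtain ⟨u₀, hu₀⟩ := surjective_ofPt hc₀s (Points.ofPt sq.bot (closedPoint sq.A))
  obtain ⟨T, k, t₀, hT, hk, rfl, -⟩ := exists_affine_chart u₀ ⊤ trivial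
  haveI := hT
  haveI := hk
  haveI : IsLocallyNoetherian T.left := isLocallyNoetherian_of_isOpenImmersion k.left
  obtain ⟨c, hc, htc⟩ : ∃ c : (yon S).obj T ⟶ Y, RepWith @Etale c ∧
      Points.ofPt c t₀ = Points.ofPt sq.bot (closedPoint sq.A) :=
    ⟨(yon S).map k ≫ c₀, repWith_comp ((repWith_yon_map_iff _ _).2 (inferInstanceAs (Etale k.left))) hc₀,
      by rw [ofPt_comp]; exact hu₀⟩
  have hcf : LocP @Flat c := locP_of_repWith
    (fun e f he hf => by haveI := he; haveI := hf; infer_instance)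
    (repWith_mono (fun _ _ e (_ : Etale e) => inferInstanceAs (Flat e)) hc)
  obtain ⟨A', _, _, _, φ, hinj, hφl, lT, hlT⟩ := exists_flat_lift (IsAlgSpace.yon_obj T) hY hcf sq.A sq.str
    sq.bot ⟨Points.ofScheme T t₀, by rw [← Points.ofPt_eq_map_ofScheme]; exact htc⟩
  obtain ⟨K', _, _, _⟩ : ∃ (K' : Type u) (_ : Field K') (_ : Algebra A' K'), IsFractionRing A' K' :=
    ⟨FractionRing A', inferInstance, inferInstance, inferInstance⟩
  have hg : Function.Injective ((algebraMap A' K').comp φ) := (IsFractionRing.injective A' K').comp hinj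
  obtain ⟨ψ, hψ⟩ : ∃ ψ : sq.K →+* K', ψ.comp (algebraMap sq.A sq.K) = (algebraMap A' K').comp φ :=
    ⟨IsFractionRing.lift hg, RingHom.ext (IsFractionRing.lift_algebraMap hg)⟩
  let str' := Spec.map (CommRingCat.ofHom φ) ≫ sq.str
  let pA : Over.mk str' ⟶ sq.ptA := Over.homMk (Spec.map (CommRingCat.ofHom φ)) rfl
  let jψ : Over.mk (Spec.map (CommRingCat.ofHom (algebraMap A' K')) ≫ str') ⟶ sq.ptK :=
    Over.homMk (Spec.map (CommRingCat.ofHom ψ)) (by
      change Spec.map _ ≫ Spec.map _ ≫ _ = Spec.map _ ≫ Spec.map _ ≫ _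
      rw [← Spec.map_comp_assoc, ← Spec.map_comp_assoc, ← CommRingCat.ofHom_comp, ← CommRingCat.ofHom_comp, hψ])
  let j' : Over.mk (Spec.map (CommRingCat.ofHom (algebraMap A' K')) ≫ str') ⟶ Over.mk str' :=
    Over.homMk (Spec.map (CommRingCat.ofHom (algebraMap A' K'))) rfl
  have hj : jψ ≫ sq.j = j' ≫ pA := by
    ext
    change Spec.map _ ≫ Spec.map _ = Spec.map _ ≫ Spec.map _
    rw [← Spec.map_comp, ← Spec.map_comp, ← CommRingCat.ofHom_comp, ← CommRingCat.ofHom_comp, hψ]
  have w : ((yon S).map jψ ≫ sq.top) ≫ f = ((yon S).map j' ≫ lT) ≫ c := by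
    rw [Category.assoc, sq.comm, Category.assoc, hlT, ← Functor.map_comp_assoc, ← Functor.map_comp_assoc, hj]
  have sP := IsPullback.of_hasPullback f c
  let sq' : ValSq (pullback.snd f c) :=
    { A := A', K := K', str := str', top := pullback.lift _ _ w, bot := lT,
      comm := pullback.lift_snd _ _ _ }
  haveI := hφl
  refine hasLiftExt_of_base_change sP.w sq sq' φ ψ hψ pA rfl jψ rfl (pullback.lift_fst _ _ w) hlT ?_
  have sU := IsPullback.of_hasPullback h (pullback.fst f c)
  have hP := isAlgSpace_of_isPullback hX hY (IsAlgSpace.yon_obj T) sP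
  have hU' := isAlgSpace_of_isPullback hU hX hP sU
  let t' : (yon S).obj sq'.ptK ⟶ pullback h (pullback.fst f c) :=
    pullback.lift ((yon S).map jψ ≫ t) sq'.top (by
      rw [Category.assoc, ht]; exact (pullback.lift_fst _ _ _).symm)
  -- an affine chart through the point
  obtain ⟨Z₀, z₀, hz₀, hz₀s⟩ := hU'.atlas
  obtain ⟨u₁, hu₁⟩ := surjective_ofPt hz₀s (Points.ofPt t' (closedPoint K'))
  obtain ⟨Z, k', z, hZ, hk', rfl, -⟩ := exists_affine_chart u₁ ⊤ trivial
  haveI := hZ
  haveI := hk'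
  obtain ⟨d, hd, hzd⟩ : ∃ d : (yon S).obj Z ⟶ pullback h (pullback.fst f c), RepWith @Etale d ∧
      Points.ofPt d z = Points.ofPt t' (closedPoint K') :=
    ⟨(yon S).map k' ≫ z₀, repWith_comp ((repWith_yon_map_iff _ _).2 (inferInstanceAs (Etale k'.left))) hz₀,
      by rw [ofPt_comp]; exact hu₁⟩
  let b : (yon S).obj Z ⟶ pullback f c := d ≫ pullback.snd h (pullback.fst f c)
  haveI : LocallyOfFiniteType (pre (b ≫ pullback.snd f c)).left :=
    locP_comp hU' hP (IsAlgSpace.yon_obj T) (locP_base_change hU hX hP sU hh)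
      (locP_base_change hX hY (IsAlgSpace.yon_obj T) sP hl) d (𝟙 _) _ hd (repWith_id _ _)
      (by rw [Category.comp_id, map_pre]; simp only [b, Category.assoc])
  obtain ⟨F, fst, snd, sF⟩ := exists_sq hd.1 t'
  obtain ⟨w', -, -⟩ := exists_point_of_sq sF (Points.ofScheme Z z) (closedPoint K')
    (by rw [← Points.ofPt_eq_map_ofScheme]; exact hzd)
  let ψ₀ : CommRingCat.of K' ⟶ F.left.residueField w' :=
    Spec.preimage (F.left.fromSpecResidueField w' ≫ snd.left)
  let iF : extPt sq' ψ₀.hom ⟶ F := Over.homMk (F.left.fromSpecResidueField w') (by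
    change _ = Spec.map ψ₀ ≫ sq'.ptK.hom
    rw [Spec.map_preimage, Category.assoc, Over.w snd])
  have hiF : iF ≫ snd = extHom sq' ψ₀.hom := by ext; exact (Spec.map_preimage _).symm
  refine hasLiftExt_of_point b sq' (K' := F.left.residueField w') ψ₀ (iF ≫ pre fst) ?_ fun A₀ b₀ hb₀ => ?_
  · rw [Functor.map_comp_assoc, map_pre, ← Category.assoc fst, sF.w, Category.assoc, pullback.lift_snd,
      ← Functor.map_comp_assoc, hiF]
  refine hasLiftExt_of_dvr b hP (isQuasiCompactMor_base_change sP hq) (isQuasiSeparatedMor_of_isPullback sP hqs)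
    (fun sq₁ hR ⟨s, hs⟩ => hasLiftExt_pullback sP sq₁ (H _ hR ⟨s ≫ d ≫ pullback.fst h _, ?_⟩)) _ A₀ b₀ hb₀
  change (s ≫ d ≫ pullback.fst h _) ≫ h = sq₁.top ≫ pullback.fst f c
  rw [← hs]
  simp only [b, Category.assoc, pullback.condition]

/-- The valuative criterion with discrete valuation rings along a dense morphism of finite type. -/
theorem isUnivClosedMor_of_refined_dvr (hU : IsAlgSpace U) (hX : IsAlgSpace X) (hY : IsAlgSpace Y)
    (hq : IsQuasiCompactMor f) (hqs : IsQuasiSeparatedMor f) (hl : LocP @LocallyOfFiniteType f)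
    (hN : IsLocNoethSp Y) (h : U ⟶ X) (hh : IsFiniteTypeMor h) (hd : DenseRange (Points.map h))
    (hu : UniqVC f)
    (H : ∀ sq : ValSq f, IsDiscreteValuationRing sq.A →
      (∃ t : (yon S).obj sq.ptK ⟶ U, t ≫ h = sq.top) → sq.HasLiftExt) : IsUnivClosedMor f :=
  isUnivClosedMor_of_along hU hX hY hq h hh.2 hd fun sq ⟨t, ht⟩ =>
    ⟨hu sq, hasLiftExt_of_dvr_through hU hX hY hq hqs hl hN h hh.1 H sq t ht⟩

/-- A lift is a lift after the trivial extension. -/
theorem hasLiftExt_of_hasLift (sq : ValSq f) (hs : sq.HasLift) : sq.HasLiftExt := by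
  obtain ⟨l, h₁, h₂⟩ := hs
  let d : sq.DomExt :=
    { A' := sq.A, K' := sq.K, φ := RingHom.id _, ψ := RingHom.id _, comm := rfl, isLocalHom := ⟨fun _ h => h⟩ }
  let c : d.ptA' ⟶ sq.ptA := Over.homMk (Spec.map (CommRingCat.ofHom (RingHom.id sq.A))) rfl
  refine ⟨d, (yon S).map c ≫ l, ?_, by rw [Category.assoc, h₂]⟩
  rw [← h₁, ← Functor.map_comp_assoc, ← Functor.map_comp_assoc]
  congr 2
  ext
  change Spec.map _ ≫ Spec.map _ = Spec.map _ ≫ Spec.map _
  rw [← Spec.map_comp, ← Spec.map_comp]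
  rfl

/-- Uniqueness for discrete valuation rings along a dense morphism of finite type gives separatedness. -/
theorem isSeparatedMor_of_refined_dvr (hU : IsAlgSpace U) (hX : IsAlgSpace X) (hY : IsAlgSpace Y)
    (hl : LocP @LocallyOfFiniteType f) (hqs : IsQuasiSeparatedMor f) (hN : IsLocNoethSp Y) (h : U ⟶ X)
    (hh : IsFiniteTypeMor h) (hd : DenseRange (Points.map h))
    (H : ∀ sq : ValSq f, IsDiscreteValuationRing sq.A →
      (∃ t : (yon S).obj sq.ptK ⟶ U, t ≫ h = sq.top) → sq.HasUniq) : IsSeparatedMor f := by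
  have hP := isAlgSpace_of_isPullback hX hY hX (IsPullback.of_hasPullback f f)
  have hPN : IsLocNoethSp (pullback f f) :=
    isLocNoethSp_of_lft hP (locP_comp hP hX hY
      (locP_base_change hX hY hX (IsPullback.of_hasPullback f f).flip hl) hl) hN
  have hΔ : LocP @LocallyOfFiniteType (pullback.diagonal f) := locP_of_repWith EtLoc.precomp
    (repWith_mono (fun _ _ k h => h.1) (AlgStB.representable_lft_mono_diagonal hX f))
  refine (AlgSpFormal.closedImmersion_iff hX hP).2 ⟨?_, hΔ, inferInstance⟩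
  refine isUnivClosedMor_of_refined_dvr hU hX hP (isQuasiCompactMor_of_repWith hqs)
    (repWith_mono (fun _ _ k (_ : IsClosedImmersion k) => inferInstanceAs (QuasiCompact k))
      (AlgStB.isSeparatedMor_of_mono (pullback.diagonal f))) hΔ hPN h hh hd
    (fun sq l l' _ h₂ _ h₂' => (cancel_mono (pullback.diagonal f)).1 (h₂.trans h₂'.symm))
    fun sq hR ht => hasLiftExt_of_hasLift sq ?_
  let l₁ := sq.bot ≫ pullback.fst f f
  let l₂ := sq.bot ≫ pullback.snd f f
  have h₁ : (yon S).map sq.j ≫ l₁ = sq.top := by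
    simp only [l₁, ← reassoc_of% sq.comm, pullback.diagonal_fst, Category.comp_id]
  have h₂ : (yon S).map sq.j ≫ l₂ = sq.top := by
    simp only [l₂, ← reassoc_of% sq.comm, pullback.diagonal_snd, Category.comp_id]
  let sq' : ValSq f :=
    { A := sq.A, K := sq.K, str := sq.str, top := sq.top, bot := l₁ ≫ f,
      comm := by rw [← h₁, Category.assoc] }
  have e : l₁ = l₂ := H sq' hR ht l₁ l₂ h₁ rfl h₂ (by
    change (_ ≫ _) ≫ _ = (_ ≫ _) ≫ _
    rw [Category.assoc, Category.assoc, pullback.condition])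
  refine ⟨l₁, h₁, ?_⟩
  apply pullback.hom_ext
  · simp [l₁]
  · rw [e]; simp [l₂]

end Groth.Agent.AlgSpDesc
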