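import Groth.Agent.AlgSpDesc.ValAlg
import Groth.Agent.AlgSpDesc.ExistLift
import Groth.Agent.AlgSpDesc.FlatLift
import Groth.Agent.AlgSpc.Decent2
import Groth.Agent.AlgSpc.SepProper

/-!
The valuative criterion tested at a dense set of points.
-/

set_option autoImplicit false
set_option linter.style.haveILetI false
set_option backward.isDefEq.respectTransparency false

universe u

open CategoryTheory CategoryTheory.Limits AlgebraicGeometry IsLocalRing

namespace Groth.Agent.AlgSpDesc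

open _root_.AlgSp Groth.Agent.AlgSpc

variable {S : Scheme.{u}}

/-- A lift at a dominated square gives one at the dominating square. -/
theorem hasLiftExt_of_dominated {X Y : Sp S} {f : X ⟶ Y} (sq₀ sq : ValSq f) {K' : Type u} [Field K']
    (A₁ : ValuationSubring K') (φA : sq.A →+* A₁) (ψ : sq.K →+* K')
    (hcA : A₁.subtype.comp φA = ψ.comp (algebraMap sq.A sq.K)) [IsLocalHom φA]
    (φ₁ : sq₀.A →+* A₁) (ψ₁ : sq₀.K →+* K')
    (hc₁ : A₁.subtype.comp φ₁ = ψ₁.comp (algebraMap sq₀.A sq₀.K)) [IsLocalHom φ₁]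
    (n : extPt sq ψ ⟶ sq₀.ptK) (hn : n.left = Spec.map (CommRingCat.ofHom ψ₁))
    (htop : (yon S).map n ≫ sq₀.top = (yon S).map (extHom sq ψ) ≫ sq.top)
    (m : Over.mk (Spec.map (CommRingCat.ofHom φA) ≫ sq.str) ⟶ sq₀.ptA)
    (hm : m.left = Spec.map (CommRingCat.ofHom φ₁))
    (hbot : (yon S).map m ≫ sq₀.bot =
      (yon S).map (Over.homMk (Spec.map (CommRingCat.ofHom φA)) rfl :
        Over.mk (Spec.map (CommRingCat.ofHom φA) ≫ sq.str) ⟶ sq.ptA) ≫ sq.bot)
    (h : sq₀.HasLiftExt) : sq.HasLiftExt := by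
  obtain ⟨e, l, hl₁, hl₂⟩ := h
  haveI := e.isLocalHom
  have hφ₁ : Function.Injective φ₁ := fun x y hxy => by
    have h1 := congrArg A₁.subtype hxy
    rw [← RingHom.comp_apply, ← RingHom.comp_apply, hc₁] at h1
    exact IsFractionRing.injective sq₀.A sq₀.K (ψ₁.injective h1)
  have heφ : Function.Injective e.φ := fun x y hxy => by
    have h1 := congrArg (algebraMap e.A' e.K') hxy
    rw [← RingHom.comp_apply, ← RingHom.comp_apply, e.comm] at h1
    exact IsFractionRing.injective sq₀.A sq₀.K (e.ψ.injective h1)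
  obtain ⟨k, _, B, χ₁, χ₂, hχ₁, hχ₁l, hχ₂, hχ₂l, hχ⟩ := exists_common_dominating φ₁ e.φ hφ₁ heφ
  have hg₁ : Function.Injective (B.subtype.comp χ₁) := Subtype.val_injective.comp hχ₁
  have hg₂ : Function.Injective (B.subtype.comp χ₂) := Subtype.val_injective.comp hχ₂
  let ψ₃ : K' →+* k := IsFractionRing.lift hg₁
  let ψ₄ : e.K' →+* k := IsFractionRing.lift hg₂
  have h₃ : ∀ a : A₁, ψ₃ a = (χ₁ a : k) := fun a => IsFractionRing.lift_algebraMap hg₁ a
  have h₄ : ∀ a : e.A', ψ₄ (algebraMap e.A' e.K' a) = (χ₂ a : k) := fun a =>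
    IsFractionRing.lift_algebraMap hg₂ a
  have hψ : ψ₄.comp e.ψ = ψ₃.comp ψ₁ := IsLocalization.ringHom_ext (nonZeroDivisors sq₀.A) (RingHom.ext fun a => by
    change ψ₄ (e.ψ (algebraMap sq₀.A sq₀.K a)) = ψ₃ (ψ₁ (algebraMap sq₀.A sq₀.K a))
    rw [← RingHom.comp_apply e.ψ, ← e.comm, RingHom.comp_apply, h₄, ← RingHom.comp_apply ψ₁, ← hc₁]
    exact (congrArg Subtype.val (RingHom.congr_fun hχ a)).symm.trans (h₃ _).symm)
  have hc : (algebraMap B k).comp (χ₁.comp φA) = (ψ₃.comp ψ).comp (algebraMap sq.A sq.K) := by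
    rw [RingHom.comp_assoc, ← hcA]
    exact RingHom.ext fun a => (h₃ _).symm
  haveI : IsLocalHom (χ₁.comp φA) := RingHom.isLocalHom_comp χ₁ φA
  let e₃ : sq.DomExt :=
    { A' := B, K' := k, φ := χ₁.comp φA, ψ := ψ₃.comp ψ, comm := hc, isLocalHom := ‹_› }
  let c : e₃.ptA' ⟶ e.ptA' := Over.homMk (Spec.map (CommRingCat.ofHom χ₂)) (by
    change Spec.map _ ≫ Spec.map _ ≫ sq₀.str = Spec.map _ ≫ sq.str
    rw [← Spec.map_comp_assoc, ← CommRingCat.ofHom_comp, ← hχ, CommRingCat.ofHom_comp, CommRingCat.ofHom_comp,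
      Spec.map_comp_assoc, Spec.map_comp_assoc, ← hm]
    exact congrArg (Spec.map (CommRingCat.ofHom χ₁) ≫ ·) (Over.w m))
  let p₁ : e₃.ptA' ⟶ Over.mk (Spec.map (CommRingCat.ofHom φA) ≫ sq.str) :=
    Over.homMk (Spec.map (CommRingCat.ofHom χ₁)) (by
      change Spec.map _ ≫ Spec.map _ ≫ sq.str = Spec.map _ ≫ sq.str
      rw [← Spec.map_comp_assoc, ← CommRingCat.ofHom_comp])
  let r : e₃.ptK' ⟶ extPt sq ψ := Over.homMk (Spec.map (CommRingCat.ofHom ψ₃)) (by
    change Spec.map _ ≫ Spec.map _ ≫ Spec.map _ ≫ sq.str = Spec.map _ ≫ Spec.map _ ≫ sq.str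
    simp only [← Spec.map_comp_assoc, ← CommRingCat.ofHom_comp]
    rw [show e₃.φ = χ₁.comp φA from rfl, show (algebraMap e₃.A' e₃.K') = algebraMap B k from rfl, hc,
      RingHom.comp_assoc])
  have hr4 : (ψ₄.comp (algebraMap e.A' e.K')) = (algebraMap B k).comp χ₂ := RingHom.ext h₄
  let c' : e₃.ptK' ⟶ e.ptK' := Over.homMk (Spec.map (CommRingCat.ofHom ψ₄)) (by
    have h1 : Spec.map (CommRingCat.ofHom χ₂) ≫ Spec.map (CommRingCat.ofHom e.φ) ≫ sq₀.str =
        Spec.map (CommRingCat.ofHom (χ₁.comp φA)) ≫ sq.str := Over.w c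
    change Spec.map _ ≫ Spec.map _ ≫ Spec.map _ ≫ sq₀.str =
      Spec.map (CommRingCat.ofHom (algebraMap B k)) ≫ Spec.map (CommRingCat.ofHom (χ₁.comp φA)) ≫ sq.str
    rw [← Spec.map_comp_assoc (CommRingCat.ofHom (algebraMap e.A' e.K')), ← CommRingCat.ofHom_comp, hr4,
      CommRingCat.ofHom_comp, Spec.map_comp_assoc, h1])
  refine ⟨e₃, (yon S).map c ≫ l, ?_, ?_⟩
  · let jA : e.ptK' ⟶ e.ptA' := Over.homMk (Spec.map (CommRingCat.ofHom (algebraMap e.A' e.K'))) rfl
    let jψ : e.ptK' ⟶ sq₀.ptK := Over.homMk (Spec.map (CommRingCat.ofHom e.ψ)) (by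
      change Spec.map _ ≫ Spec.map _ ≫ _ = Spec.map _ ≫ Spec.map _ ≫ _
      rw [← Spec.map_comp_assoc, ← Spec.map_comp_assoc, ← CommRingCat.ofHom_comp,
        ← CommRingCat.ofHom_comp, e.comm])
    change (yon S).map jA ≫ l = (yon S).map jψ ≫ sq₀.top at hl₁
    let jB : e₃.ptK' ⟶ e₃.ptA' := Over.homMk (Spec.map (CommRingCat.ofHom (algebraMap e₃.A' e₃.K'))) rfl
    have h1 : jB ≫ c = c' ≫ jA := by
      ext
      change Spec.map (CommRingCat.ofHom (algebraMap B k)) ≫ Spec.map _ = Spec.map _ ≫ Spec.map _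
      rw [← Spec.map_comp, ← Spec.map_comp, ← CommRingCat.ofHom_comp, ← CommRingCat.ofHom_comp, hr4]
    have h2 : c' ≫ jψ = r ≫ n := by
      ext
      change Spec.map _ ≫ Spec.map _ = Spec.map _ ≫ n.left
      rw [hn, ← Spec.map_comp, ← Spec.map_comp, ← CommRingCat.ofHom_comp, ← CommRingCat.ofHom_comp, hψ]
    change (yon S).map jB ≫ (yon S).map c ≫ l = _
    rw [← Functor.map_comp_assoc, h1, Functor.map_comp_assoc, hl₁, ← Functor.map_comp_assoc, h2,
      Functor.map_comp_assoc, htop, ← Functor.map_comp_assoc]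
    congr 2
    ext
    change Spec.map _ ≫ Spec.map _ = Spec.map _
    rw [← Spec.map_comp, ← CommRingCat.ofHom_comp]
  · let pA : e.ptA' ⟶ sq₀.ptA := Over.homMk (Spec.map (CommRingCat.ofHom e.φ)) rfl
    change l ≫ f = (yon S).map pA ≫ sq₀.bot at hl₂
    have h1 : c ≫ pA = p₁ ≫ m := by
      ext
      change Spec.map _ ≫ Spec.map _ = Spec.map _ ≫ m.left
      rw [hm, ← Spec.map_comp, ← Spec.map_comp, ← CommRingCat.ofHom_comp, ← CommRingCat.ofHom_comp, hχ]
    rw [Category.assoc, hl₂, ← Functor.map_comp_assoc, h1, Functor.map_comp_assoc, hbot,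
      ← Functor.map_comp_assoc]
    congr 2
    ext
    change Spec.map _ ≫ Spec.map _ = Spec.map _
    rw [← Spec.map_comp, ← CommRingCat.ofHom_comp]

section Affine

variable {T : Over S} [IsAffine T.left] {U P : Sp S} {p : P ⟶ (yon S).obj T} {O : Over S}

/-- A morphism of spectra into an affine scheme as a ring map. -/
noncomputable abbrev ringOf {R : Type u} [CommRing R] (b : Spec (CommRingCat.of R) ⟶ T.left) :
    Γ(T.left, ⊤) →+* R :=
  (Spec.preimage (b ≫ T.left.isoSpec.hom)).hom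

omit [IsAffine T.left] in
theorem specMap_ringOf [IsAffine T.left] {R : Type u} [CommRing R] (b : Spec (CommRingCat.of R) ⟶ T.left) :
    Spec.map (CommRingCat.ofHom (ringOf b)) ≫ T.left.isoSpec.inv = b := by
  change Spec.map (Spec.preimage _) ≫ _ = b
  rw [Spec.map_preimage, Category.assoc, Iso.hom_inv_id, Category.comp_id]

theorem ringOf_comp {R R' : Type u} [CommRing R] [CommRing R'] (b : Spec (CommRingCat.of R) ⟶ T.left)
    (b' : Spec (CommRingCat.of R') ⟶ T.left) (φ : R →+* R')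
    (h : Spec.map (CommRingCat.ofHom φ) ≫ b = b') : φ.comp (ringOf b) = ringOf b' := by
  refine congrArg CommRingCat.Hom.hom (Spec.map_injective ?_ :
    CommRingCat.ofHom (φ.comp (ringOf b)) = CommRingCat.ofHom (ringOf b'))
  rw [CommRingCat.ofHom_comp, Spec.map_comp, ← cancel_mono T.left.isoSpec.inv, Category.assoc,
    specMap_ringOf, specMap_ringOf, h]

/-- The square at a point of a chart. -/
noncomputable abbrev chartSq (a : (yon S).obj O ⟶ P) (v : ↥O.left)
    (A₀ : ValuationSubring (O.left.residueField v)) (b₀ : Spec (CommRingCat.of A₀) ⟶ T.left)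
    (hb₀ : Spec.map (CommRingCat.ofHom A₀.subtype) ≫ b₀ = O.left.fromSpecResidueField v ≫ (pre (a ≫ p)).left) :
    ValSq p :=
  let z : Over.mk (Spec.map (CommRingCat.ofHom (algebraMap A₀ (O.left.residueField v))) ≫ b₀ ≫ T.hom) ⟶ O :=
    Over.homMk (O.left.fromSpecResidueField v) (by
      change _ = Spec.map (CommRingCat.ofHom A₀.subtype) ≫ b₀ ≫ T.hom
      rw [reassoc_of% hb₀, Over.w (pre (a ≫ p))])
  { A := A₀, K := O.left.residueField v, str := b₀ ≫ T.hom, top := (yon S).map z ≫ a,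
    bot := (yon S).map (Over.homMk b₀ rfl : Over.mk (b₀ ≫ T.hom) ⟶ T),
    comm := by
      rw [Category.assoc, ← map_pre (a ≫ p), ← Functor.map_comp, ← Functor.map_comp]
      congr 1
      ext
      exact hb₀.symm }

theorem hasLiftExt_at_chart (hU : IsAlgSpace U) (hP : IsAlgSpace P) (h : U ⟶ P)
    (hh : IsQuasiCompactMor h) (hd : DenseRange (Points.map h))
    (hv : ∀ sq : ValSq p, (∃ t : (yon S).obj sq.ptK ⟶ U, t ≫ h = sq.top) → sq.HasUniq ∧ sq.HasLiftExt)
    [IsAffine O.left] (a : (yon S).obj O ⟶ P) (ha : RepWith @Etale a) (v : ↥O.left)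
    (A₀ : ValuationSubring (O.left.residueField v)) (b₀ : Spec (CommRingCat.of A₀) ⟶ T.left)
    (hb₀ : Spec.map (CommRingCat.ofHom A₀.subtype) ≫ b₀ = O.left.fromSpecResidueField v ≫ (pre (a ≫ p)).left) :
    (chartSq (p := p) a v A₀ b₀ hb₀).HasLiftExt := by
  let g : O ⟶ T := pre (a ≫ p)
  -- an affine atlas of the part of `U` over the chart
  have sO := IsPullback.of_hasPullback h a
  have hUO := isAlgSpace_of_isPullback hU hP (IsAlgSpace.yon_obj O) sO
  have hUOq : IsQuasiCompactSp (pullback h a) :=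
    hh (IsAlgSpace.yon_obj O) ⟨O, 𝟙 _, repWith_id _ _, repWith_id _ _, inferInstance⟩ a _ _ sO
  obtain ⟨Z, q, hZ, hq, hqs⟩ := (isQuasiCompactSp_iff_affine hUO).1 hUOq
  haveI := hZ
  let hZO : Z ⟶ O := pre (q ≫ pullback.snd h a)
  haveI : QuasiCompact hZO.left := inferInstance
  have hdense : DenseRange hZO.left.base := by
    refine Dense.mono (fun o ho => ?_) (hd.preimage (isOpenMap_ofPt ha))
    obtain ⟨x, hx⟩ := ho
    obtain ⟨w, -, hw⟩ := exists_point_of_isPullback sO x (Points.ofScheme O o)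
      (by rw [hx, ← Points.ofPt_eq_map_ofScheme])
    obtain ⟨z, rfl⟩ := surjective_ofPt hqs w
    refine ⟨z, (Points.schemeEquiv O).injective ?_⟩
    rw [Points.map_ofPt, ofPt_pre] at hw
    exact hw
  obtain ⟨z, hz⟩ := ValDense.exists_specializes_range hZO.left hdense v
  obtain ⟨R, hR, hRl⟩ := IsLocalRing.exists_factor_valuationRing (ValDense.toResidue hZO.left hz).hom
  let α : O.left.presheaf.stalk v →+* R := (ValDense.toResidue hZO.left hz).hom.codRestrict R.toSubring hR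
  haveI : IsLocalHom α := hRl
  let gR : Spec (CommRingCat.of R) ⟶ O.left := Spec.map (CommRingCat.ofHom α) ≫ O.left.fromSpecStalk v
  have hgR : Spec.map (CommRingCat.ofHom R.subtype) ≫ gR = Z.left.fromSpecResidueField z ≫ hZO.left := by
    rw [← Spec.map_comp_assoc,
      show CommRingCat.ofHom α ≫ CommRingCat.ofHom R.subtype = ValDense.toResidue hZO.left hz from rfl,
      ValDense.specMap_toResidue]
  let j : O.left.residueField v →+* ResidueField R := ResidueField.map α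
  have hgRj : Spec.map (CommRingCat.ofHom (residue R)) ≫ gR =
      Spec.map (CommRingCat.ofHom j) ≫ O.left.fromSpecResidueField v := by
    change _ = Spec.map (CommRingCat.ofHom j) ≫ Spec.map (O.left.residue v) ≫ O.left.fromSpecStalk v
    rw [← Spec.map_comp_assoc, ← Spec.map_comp_assoc]
    rfl
  obtain ⟨V, hVR, hVmem, hVloc⟩ := exists_composite R j A₀
  -- the bottom map of the composite valuation ring
  let ρR := ringOf (gR ≫ g.left)
  have hρ : ∀ x, residue R (ρR x) = j (ringOf b₀ x) := by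
    intro x
    have h1 := ringOf_comp (gR ≫ g.left) (Spec.map (CommRingCat.ofHom j) ≫ O.left.fromSpecResidueField v ≫ g.left)
      (residue R) (by rw [reassoc_of% hgRj])
    have h2 := ringOf_comp b₀ (Spec.map (CommRingCat.ofHom j) ≫ O.left.fromSpecResidueField v ≫ g.left)
      (j.comp A₀.subtype) (by rw [CommRingCat.ofHom_comp, Spec.map_comp, Category.assoc, hb₀])
    exact (RingHom.congr_fun h1 x).trans (RingHom.congr_fun h2 x).symm
  let γ : Γ(T.left, ⊤) →+* V :=
    (R.subtype.comp ρR).codRestrict V.toSubring fun x => hVmem (ρR x) _ (hρ x)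
  let bV : Spec (CommRingCat.of V) ⟶ T.left := Spec.map (CommRingCat.ofHom γ) ≫ T.left.isoSpec.inv
  have hbV : Spec.map (CommRingCat.ofHom V.subtype) ≫ bV =
      Spec.map (CommRingCat.ofHom R.subtype) ≫ gR ≫ g.left := by
    rw [← specMap_ringOf (gR ≫ g.left), ← Spec.map_comp_assoc, ← Spec.map_comp_assoc]
    rfl
  let zO : Over.mk (Spec.map (CommRingCat.ofHom (algebraMap V (Z.left.residueField z))) ≫ bV ≫ T.hom) ⟶ Z :=
    Over.homMk (Z.left.fromSpecResidueField z) (by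
      change _ = Spec.map (CommRingCat.ofHom V.subtype) ≫ bV ≫ T.hom
      rw [reassoc_of% hbV, Over.w g, reassoc_of% hgR, Over.w hZO])
  let topV := (yon S).map zO ≫ q ≫ pullback.fst h a ≫ h
  have htopV : topV = (yon S).map (zO ≫ hZO) ≫ a := by
    simp only [topV]
    rw [pullback.condition, Functor.map_comp_assoc]
    congr 1
    rw [← Category.assoc, ← map_pre (q ≫ pullback.snd h a)]
  let sqV : ValSq p :=
    { A := V, K := Z.left.residueField z, str := bV ≫ T.hom, top := topV,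
      bot := (yon S).map (Over.homMk bV rfl : Over.mk (bV ≫ T.hom) ⟶ T),
      comm := by
        rw [htopV]
        refine (Category.assoc _ _ _).trans ?_
        rw [← map_pre (a ≫ p), ← Functor.map_comp, ← Functor.map_comp]
        congr 1
        ext
        change (_ ≫ hZO.left) ≫ g.left = Spec.map (CommRingCat.ofHom V.subtype) ≫ bV
        rw [hbV, reassoc_of% hgR]
        exact Category.assoc _ _ _ }
  obtain ⟨-, e, l, hl₁, hl₂⟩ := hv sqV ⟨(yon S).map zO ≫ q ≫ pullback.fst h a, by simp [sqV, topV]⟩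
  haveI := e.isLocalHom
  have hec : (algebraMap e.A' e.K').comp e.φ = e.ψ.comp V.subtype := e.comm
  obtain ⟨W, ι, θ, _, A₂, π, φ₂, hι, hθ, hπ, -, hφ₂, hφ₂l⟩ :=
    exists_residual_ext R j A₀ V hVR hVmem hVloc e.φ e.ψ hec
  let jA : e.ptK' ⟶ e.ptA' := Over.homMk (Spec.map (CommRingCat.ofHom (algebraMap e.A' e.K'))) rfl
  let jψ : e.ptK' ⟶ sqV.ptK := Over.homMk (Spec.map (CommRingCat.ofHom e.ψ)) (by
    change Spec.map _ ≫ Spec.map _ ≫ _ = Spec.map _ ≫ Spec.map _ ≫ _
    rw [← Spec.map_comp_assoc, ← Spec.map_comp_assoc, ← CommRingCat.ofHom_comp,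
      ← CommRingCat.ofHom_comp, e.comm])
  change (yon S).map jA ≫ l = (yon S).map jψ ≫ topV at hl₁
  let pA : e.ptA' ⟶ sqV.ptA := Over.homMk (Spec.map (CommRingCat.ofHom e.φ)) rfl
  change l ≫ p = (yon S).map pA ≫ sqV.bot at hl₂
  -- on the localization the lift is the given chart map
  let bW : Spec (CommRingCat.of W) ⟶ T.left := Spec.map (CommRingCat.ofHom θ) ≫ gR ≫ g.left
  have hWg : Spec.map (CommRingCat.ofHom W.subtype) ≫ Spec.map (CommRingCat.ofHom θ) =
      Spec.map (CommRingCat.ofHom e.ψ) ≫ Spec.map (CommRingCat.ofHom R.subtype) := by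
    rw [← Spec.map_comp, ← Spec.map_comp, ← CommRingCat.ofHom_comp, ← CommRingCat.ofHom_comp, hθ]
  have hWι : Spec.map (CommRingCat.ofHom ι) ≫ Spec.map (CommRingCat.ofHom e.φ) ≫ bV = bW := by
    refine Groth.Agent.DVRDom.hom_ext_of_valuationSubring W _ _ ?_
    rw [← Spec.map_comp_assoc, ← CommRingCat.ofHom_comp, hι, ← Spec.map_comp_assoc, ← CommRingCat.ofHom_comp,
      hec, CommRingCat.ofHom_comp, Spec.map_comp, Category.assoc, hbV]
    simp only [bW, reassoc_of% hWg]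
  let strW := bW ≫ T.hom
  let PW : Over S := Over.mk strW
  let PK : Over S := Over.mk (Spec.map (CommRingCat.ofHom (algebraMap W e.K')) ≫ strW)
  let jW : PK ⟶ PW := Over.homMk (Spec.map (CommRingCat.ofHom (algebraMap W e.K'))) rfl
  let cK : PK ⟶ e.ptK' := Over.homMk (𝟙 _) (by
    change 𝟙 _ ≫ Spec.map _ ≫ Spec.map _ ≫ bV ≫ T.hom = Spec.map (CommRingCat.ofHom W.subtype) ≫ bW ≫ T.hom
    rw [Category.id_comp, ← hWι]
    simp only [Category.assoc, ← Spec.map_comp_assoc, ← CommRingCat.ofHom_comp]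
    rw [← RingHom.comp_assoc, hι])
  let wι : PW ⟶ e.ptA' := Over.homMk (Spec.map (CommRingCat.ofHom ι)) (by
    change Spec.map _ ≫ Spec.map _ ≫ bV ≫ T.hom = bW ≫ T.hom
    rw [reassoc_of% hWι])
  let wθ : PW ⟶ O := Over.homMk (Spec.map (CommRingCat.ofHom θ) ≫ gR) (by
    change (_ ≫ gR) ≫ O.hom = bW ≫ T.hom
    simp only [bW, Category.assoc, Over.w g])
  let sqW : ValSq p :=
    { A := W, K := e.K', str := strW, top := (yon S).map (cK ≫ jψ) ≫ topV,
      bot := (yon S).map (Over.homMk bW rfl : PW ⟶ T),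
      comm := by
        rw [Category.assoc, sqV.comm, ← Functor.map_comp, ← Functor.map_comp, ← Functor.map_comp]
        congr 1
        ext
        change (𝟙 _ ≫ Spec.map (CommRingCat.ofHom e.ψ)) ≫ Spec.map (CommRingCat.ofHom V.subtype) ≫ bV =
          Spec.map (CommRingCat.ofHom W.subtype) ≫ bW
        simp only [bW, reassoc_of% hWg, hbV, Category.id_comp] }
  obtain ⟨huW, -⟩ := hv sqW ⟨(yon S).map (cK ≫ jψ) ≫ (yon S).map zO ≫ q ≫ pullback.fst h a, by simp [sqW, topV]⟩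
  have hlW : (yon S).map wι ≫ l = (yon S).map wθ ≫ a := by
    refine huW _ _ ?_ ?_ ?_ ?_
    · change (yon S).map jW ≫ _ = (yon S).map (cK ≫ jψ) ≫ topV
      rw [Functor.map_comp_assoc, ← hl₁, ← Functor.map_comp_assoc, ← Functor.map_comp_assoc]
      congr 2
      ext
      change Spec.map (CommRingCat.ofHom W.subtype) ≫ Spec.map _ = 𝟙 _ ≫ Spec.map _
      rw [Category.id_comp, ← Spec.map_comp, ← CommRingCat.ofHom_comp, hι]
    · rw [Category.assoc, hl₂, ← Functor.map_comp, ← Functor.map_comp]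
      congr 1
      ext
      exact hWι
    · change (yon S).map jW ≫ _ = (yon S).map (cK ≫ jψ) ≫ topV
      rw [htopV, ← Functor.map_comp_assoc, ← Functor.map_comp_assoc]
      congr 2
      ext
      change Spec.map (CommRingCat.ofHom W.subtype) ≫ Spec.map _ ≫ gR =
        (𝟙 _ ≫ Spec.map _) ≫ Z.left.fromSpecResidueField z ≫ hZO.left
      rw [reassoc_of% hWg, hgR, Category.id_comp]
    · rw [Category.assoc, ← map_pre (a ≫ p), ← Functor.map_comp]
      congr 1
  -- the lift over the residual valuation ring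
  have hres : Spec.map (CommRingCat.ofHom (residue W)) ≫ Spec.map (CommRingCat.ofHom θ) ≫ gR =
      Spec.map (CommRingCat.ofHom ((ResidueField.map θ).comp j)) ≫ O.left.fromSpecResidueField v := by
    rw [CommRingCat.ofHom_comp, Spec.map_comp, Category.assoc, ← hgRj,
      ← Spec.map_comp_assoc (CommRingCat.ofHom θ), ← Spec.map_comp_assoc (CommRingCat.ofHom (residue R))]
    rfl
  have hπι : Spec.map (CommRingCat.ofHom A₂.subtype) ≫ Spec.map (CommRingCat.ofHom π) =
      Spec.map (CommRingCat.ofHom (residue W)) ≫ Spec.map (CommRingCat.ofHom ι) := by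
    rw [← Spec.map_comp, ← Spec.map_comp, ← CommRingCat.ofHom_comp, ← CommRingCat.ofHom_comp, hπ]
  have hπb : Spec.map (CommRingCat.ofHom π) ≫ Spec.map (CommRingCat.ofHom e.φ) ≫ bV =
      Spec.map (CommRingCat.ofHom φ₂) ≫ b₀ := by
    refine Groth.Agent.DVRDom.hom_ext_of_valuationSubring A₂ _ _ ?_
    rw [reassoc_of% hπι, hWι, ← Spec.map_comp_assoc (CommRingCat.ofHom φ₂), ← CommRingCat.ofHom_comp, hφ₂,
      CommRingCat.ofHom_comp, Spec.map_comp, Category.assoc, hb₀]
    simp only [bW]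
    rw [reassoc_of% hres]
  haveI := hφ₂l
  let e₀ : (chartSq (p := p) a v A₀ b₀ hb₀).DomExt :=
    { A' := A₂, K' := ResidueField W, φ := φ₂, ψ := (ResidueField.map θ).comp j, comm := hφ₂,
      isLocalHom := ‹_› }
  let wπ : e₀.ptA' ⟶ e.ptA' := Over.homMk (Spec.map (CommRingCat.ofHom π)) (by
    change Spec.map _ ≫ Spec.map _ ≫ bV ≫ T.hom = Spec.map (CommRingCat.ofHom φ₂) ≫ b₀ ≫ T.hom
    rw [reassoc_of% hπb])
  let wr : e₀.ptK' ⟶ PW := Over.homMk (Spec.map (CommRingCat.ofHom (residue W))) (by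
    change _ ≫ bW ≫ T.hom = Spec.map (CommRingCat.ofHom A₂.subtype) ≫ Spec.map (CommRingCat.ofHom φ₂) ≫ b₀ ≫ T.hom
    rw [← reassoc_of% hπb, reassoc_of% hπι, reassoc_of% hWι])
  refine ⟨e₀, (yon S).map wπ ≫ l, ?_, ?_⟩
  · have h1 : (Over.homMk (Spec.map (CommRingCat.ofHom (algebraMap e₀.A' e₀.K'))) rfl : e₀.ptK' ⟶ e₀.ptA') ≫ wπ =
        wr ≫ wι := by
      ext
      exact hπι
    rw [← Functor.map_comp_assoc, h1, Functor.map_comp_assoc, hlW]
    simp only [chartSq]
    rw [← Functor.map_comp_assoc, ← Functor.map_comp_assoc]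
    congr 2
    ext
    exact hres
  · rw [Category.assoc, hl₂, ← Functor.map_comp, ← Functor.map_comp]
    simp only [chartSq]
    rw [← Functor.map_comp]
    congr 1
    ext
    exact hπb

/-- A lift at the point of a chart under the generic point of a square gives one for the square. -/
theorem hasLiftExt_of_point (a : (yon S).obj O ⟶ P) (sq : ValSq p) {K' : Type u} [Field K']
    (ψ₀ : CommRingCat.of sq.K ⟶ CommRingCat.of K') (i : extPt sq ψ₀.hom ⟶ O)
    (hia : (yon S).map i ≫ a = (yon S).map (extHom sq ψ₀.hom) ≫ sq.top)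
    (H : ∀ (A₀ : ValuationSubring (O.left.residueField (i.left (closedPoint K'))))
      (b₀ : Spec (CommRingCat.of A₀) ⟶ T.left)
      (hb₀ : Spec.map (CommRingCat.ofHom A₀.subtype) ≫ b₀ =
        O.left.fromSpecResidueField (i.left (closedPoint K')) ≫ (pre (a ≫ p)).left),
      (chartSq (p := p) a (i.left (closedPoint K')) A₀ b₀ hb₀).HasLiftExt) :
    sq.HasLiftExt := by
  let g : O ⟶ T := pre (a ≫ p)
  let bT : sq.ptA ⟶ T := pre sq.bot
  have hig : i ≫ g = extHom sq ψ₀.hom ≫ sq.j ≫ bT := (yon S).map_injective (by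
    rw [Functor.map_comp, map_pre, ← Category.assoc, hia, Category.assoc, sq.comm, Functor.map_comp,
      Functor.map_comp, map_pre])
  obtain ⟨A₁, hA₁, hA₁l⟩ :=
    IsLocalRing.exists_factor_valuationRing (ψ₀.hom.comp (algebraMap sq.A sq.K))
  let φA : sq.A →+* A₁ := (ψ₀.hom.comp (algebraMap sq.A sq.K)).codRestrict A₁.toSubring hA₁
  haveI : IsLocalHom φA := hA₁l
  let iL : Spec (CommRingCat.of K') ⟶ O.left := i.left
  let v : ↥O.left := iL (closedPoint K')
  let ρv : O.left.residueField v ⟶ CommRingCat.of K' :=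
    O.left.descResidueField (Scheme.stalkClosedPointTo iL)
  have hρv : Spec.map ρv ≫ O.left.fromSpecResidueField v = i.left :=
    O.left.descResidueField_stalkClosedPointTo_fromSpecResidueField K' iL
  let A₀ : ValuationSubring (O.left.residueField v) := A₁.comap ρv.hom
  let φ₁ : A₀ →+* A₁ := (ρv.hom.comp A₀.subtype).codRestrict A₁.toSubring fun a => a.2
  haveI : IsLocalHom φ₁ := ⟨fun x hx => by
    obtain ⟨c, hc⟩ := hx.exists_right_inv
    have hc' : ρv.hom x * (c : K') = 1 := congrArg Subtype.val hc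
    have hx0 : (x : O.left.residueField v) ≠ 0 := fun h0 => by
      rw [h0, map_zero, zero_mul] at hc'
      exact zero_ne_one hc'
    have hmem : (x : O.left.residueField v)⁻¹ ∈ A₀ := by
      change ρv.hom _ ∈ A₁
      rw [map_inv₀, inv_eq_of_mul_eq_one_right hc']
      exact c.2
    exact IsUnit.of_mul_eq_one ⟨_, hmem⟩ (Subtype.ext (mul_inv_cancel₀ hx0))⟩
  let ρ := ringOf (O.left.fromSpecResidueField v ≫ g.left)
  let c₁ : Γ(T.left, ⊤) →+* A₁ := φA.comp (ringOf bT.left)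
  have hρ : ρv.hom.comp ρ = A₁.subtype.comp c₁ := by
    have h1 := ringOf_comp (O.left.fromSpecResidueField v ≫ g.left) (i.left ≫ g.left) ρv.hom
      (by rw [← hρv, Category.assoc]; rfl)
    have h2 := ringOf_comp bT.left (i.left ≫ g.left) (ψ₀.hom.comp (algebraMap sq.A sq.K)) (by
      rw [CommRingCat.ofHom_comp, Spec.map_comp, Category.assoc]
      exact (congrArg CommaMorphism.left hig).symm)
    rw [h1, ← h2]
    rfl
  let ρ₀ : Γ(T.left, ⊤) →+* A₀ := ρ.codRestrict A₀.toSubring fun x => by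
    change ρv.hom (ρ x) ∈ A₁
    rw [show ρv.hom (ρ x) = (c₁ x : K') from RingHom.congr_fun hρ x]
    exact (c₁ x).2
  let b₀ : Spec (CommRingCat.of A₀) ⟶ T.left := Spec.map (CommRingCat.ofHom ρ₀) ≫ T.left.isoSpec.inv
  have hb₀ : Spec.map (CommRingCat.ofHom A₀.subtype) ≫ b₀ =
      O.left.fromSpecResidueField v ≫ (pre (a ≫ p)).left := by
    rw [← Spec.map_comp_assoc]
    exact specMap_ringOf _
  have hbA : Spec.map (CommRingCat.ofHom φ₁) ≫ b₀ = Spec.map (CommRingCat.ofHom φA) ≫ bT.left := by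
    rw [← specMap_ringOf bT.left, ← Spec.map_comp_assoc, ← Spec.map_comp_assoc, ← CommRingCat.ofHom_comp,
      ← CommRingCat.ofHom_comp]
    congr 3
    exact RingHom.ext fun x => Subtype.ext (RingHom.congr_fun hρ x)
  let n : extPt sq ψ₀.hom ⟶ (chartSq (p := p) a v A₀ b₀ hb₀).ptK := Over.homMk (Spec.map ρv) (by
    change _ ≫ Spec.map (CommRingCat.ofHom A₀.subtype) ≫ b₀ ≫ T.hom = (extPt sq ψ₀.hom).hom
    rw [reassoc_of% hb₀, reassoc_of% hρv, Over.w (pre (a ≫ p)), Over.w i])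
  let m : Over.mk (Spec.map (CommRingCat.ofHom φA) ≫ sq.str) ⟶ (chartSq (p := p) a v A₀ b₀ hb₀).ptA :=
    Over.homMk (Spec.map (CommRingCat.ofHom φ₁)) (by
      change _ ≫ b₀ ≫ T.hom = Spec.map _ ≫ sq.str
      rw [reassoc_of% hbA, Over.w bT]
      rfl)
  refine hasLiftExt_of_dominated (chartSq (p := p) a v A₀ b₀ hb₀) sq A₁ φA ψ₀.hom rfl φ₁ ρv.hom rfl
    n rfl ?_ m rfl ?_ (H A₀ b₀ hb₀)
  · rw [← hia]
    simp only [chartSq]
    rw [← Functor.map_comp_assoc]
    congr 2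
    ext
    exact hρv
  · simp only [chartSq]
    rw [← map_pre sq.bot, ← Functor.map_comp, ← Functor.map_comp]
    congr 1
    ext
    exact hbA

theorem existVC_of_along_affine (hU : IsAlgSpace U) (hP : IsAlgSpace P) (h : U ⟶ P)
    (hh : IsQuasiCompactMor h) (hd : DenseRange (Points.map h))
    (hv : ∀ sq : ValSq p, (∃ t : (yon S).obj sq.ptK ⟶ U, t ≫ h = sq.top) → sq.HasUniq ∧ sq.HasLiftExt) :
    ExistVC p := by
  intro sq
  obtain ⟨U₀, a₀, ha₀, ha₀s⟩ := hP.atlas
  obtain ⟨u₀, hu₀⟩ := surjective_ofPt ha₀s (Points.ofPt sq.top (closedPoint sq.K))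
  obtain ⟨O, k, o, hO, hk, rfl, -⟩ := exists_affine_chart u₀ ⊤ trivial
  haveI := hO
  haveI := hk
  obtain ⟨a, ha, hao⟩ : ∃ a : (yon S).obj O ⟶ P, RepWith @Etale a ∧
      Points.ofPt a o = Points.ofPt sq.top (closedPoint sq.K) :=
    ⟨(yon S).map k ≫ a₀, repWith_comp ((repWith_yon_map_iff _ _).2 (inferInstanceAs (Etale k.left))) ha₀,
      by rw [ofPt_comp]; exact hu₀⟩
  obtain ⟨F, fst, snd, sF⟩ := exists_sq ha.1 sq.top
  obtain ⟨w, -, -⟩ := exists_point_of_sq sF (Points.ofScheme O o) (closedPoint sq.K)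
    (by rw [← Points.ofPt_eq_map_ofScheme]; exact hao)
  let ψ₀ : CommRingCat.of sq.K ⟶ F.left.residueField w :=
    Spec.preimage (F.left.fromSpecResidueField w ≫ snd.left)
  let iF : extPt sq ψ₀.hom ⟶ F := Over.homMk (F.left.fromSpecResidueField w) (by
    change _ = Spec.map ψ₀ ≫ sq.ptK.hom
    rw [Spec.map_preimage, Category.assoc, Over.w snd])
  have hiF : iF ≫ snd = extHom sq ψ₀.hom := by ext; exact (Spec.map_preimage _).symm
  let i : extPt sq ψ₀.hom ⟶ O := iF ≫ pre fst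
  have hia : (yon S).map i ≫ a = (yon S).map (extHom sq ψ₀.hom) ≫ sq.top := by
    rw [Functor.map_comp_assoc, map_pre, sF.w, ← Functor.map_comp_assoc, hiF]
  exact hasLiftExt_of_point a sq ψ₀ i hia fun A₀ b₀ hb₀ => hasLiftExt_at_chart hU hP h hh hd hv a ha _ A₀ b₀ hb₀

end Affine

variable {U X Y : Sp S}

/-- The hypotheses along `h` pass to a base change of `f`. -/
theorem along_base_change {X' Y' : Sp S} {f : X ⟶ Y} {c : Y' ⟶ Y} {fst : X' ⟶ X} {snd : X' ⟶ Y'}
    (sP : IsPullback fst snd f c) (h : U ⟶ X)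
    (hv : ∀ sq : ValSq f, (∃ t : (yon S).obj sq.ptK ⟶ U, t ≫ h = sq.top) → sq.HasUniq ∧ sq.HasLiftExt) :
    ∀ sq₁ : ValSq snd, (∃ s : (yon S).obj sq₁.ptK ⟶ pullback h fst, s ≫ pullback.snd h fst = sq₁.top) →
      sq₁.HasUniq ∧ sq₁.HasLiftExt := by
  rintro sq₁ ⟨s, hs⟩
  let sq₂ : ValSq f :=
    { A := sq₁.A, K := sq₁.K, str := sq₁.str, top := sq₁.top ≫ fst, bot := sq₁.bot ≫ c,
      comm := by rw [Category.assoc, sP.w, reassoc_of% sq₁.comm] }
  obtain ⟨hu, e, l, h₁, h₂⟩ := hv sq₂ ⟨s ≫ pullback.fst h fst, by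
    change (s ≫ _) ≫ h = sq₁.top ≫ fst
    rw [← hs, Category.assoc, Category.assoc, pullback.condition]⟩
  refine ⟨fun l l' h1 h2 h1' h2' => ?_, ?_⟩
  · refine sP.hom_ext (hu (l ≫ fst) (l' ≫ fst) ?_ ?_ ?_ ?_) (h2.trans h2'.symm)
    · change (yon S).map sq₁.j ≫ _ = sq₁.top ≫ _; rw [reassoc_of% h1]
    · change _ = sq₁.bot ≫ c; rw [Category.assoc, sP.w, reassoc_of% h2]
    · change (yon S).map sq₁.j ≫ _ = sq₁.top ≫ _; rw [reassoc_of% h1']
    · change _ = sq₁.bot ≫ c; rw [Category.assoc, sP.w, reassoc_of% h2']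
  · let e₁ : sq₁.DomExt :=
      { A' := e.A', K' := e.K', φ := e.φ, ψ := e.ψ, comm := e.comm, isLocalHom := e.isLocalHom }
    let qA : e.ptA' ⟶ sq₂.ptA := Over.homMk (Spec.map (CommRingCat.ofHom e.φ)) rfl
    let qK : e.ptK' ⟶ sq₂.ptK := Over.homMk (Spec.map (CommRingCat.ofHom e.ψ)) (by
      change Spec.map _ ≫ Spec.map _ ≫ _ = Spec.map _ ≫ Spec.map _ ≫ _
      rw [← Spec.map_comp_assoc, ← Spec.map_comp_assoc, ← CommRingCat.ofHom_comp,
        ← CommRingCat.ofHom_comp, e.comm])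
    let qj : e.ptK' ⟶ e.ptA' := Over.homMk (Spec.map (CommRingCat.ofHom (algebraMap e.A' e.K'))) rfl
    change (yon S).map qj ≫ l = (yon S).map qK ≫ sq₁.top ≫ _ at h₁
    have h₂' : l ≫ f = ((yon S).map qA ≫ sq₁.bot) ≫ c := by rw [Category.assoc]; exact h₂
    refine ⟨e₁, sP.lift l ((yon S).map qA ≫ sq₁.bot) h₂', ?_, sP.lift_snd _ _ _⟩
    change (yon S).map qj ≫ _ = (yon S).map qK ≫ sq₁.top
    refine sP.hom_ext ?_ ?_
    · rw [Category.assoc, sP.lift_fst, Category.assoc]; exact h₁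
    · rw [Category.assoc, sP.lift_snd, Category.assoc, sq₁.comm, ← Functor.map_comp_assoc,
        ← Functor.map_comp_assoc]
      congr 2
      ext
      change Spec.map _ ≫ Spec.map _ = Spec.map _ ≫ Spec.map _
      rw [← Spec.map_comp, ← Spec.map_comp, ← CommRingCat.ofHom_comp, ← CommRingCat.ofHom_comp, e.comm]

/-- A lift on a base change gives one for the original square. -/
theorem hasLiftExt_of_base_change {X' Y' : Sp S} {f : X ⟶ Y} {c : Y' ⟶ Y} {fst : X' ⟶ X} {snd : X' ⟶ Y'}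
    (w : fst ≫ f = snd ≫ c) (sq : ValSq f) (sq₁ : ValSq snd) (φ : sq.A →+* sq₁.A) [IsLocalHom φ]
    (ψ : sq.K →+* sq₁.K) (hψ : ψ.comp (algebraMap sq.A sq.K) = (algebraMap sq₁.A sq₁.K).comp φ)
    (pA : sq₁.ptA ⟶ sq.ptA) (hpA : pA.left = Spec.map (CommRingCat.ofHom φ))
    (jψ : sq₁.ptK ⟶ sq.ptK) (hjψ : jψ.left = Spec.map (CommRingCat.ofHom ψ))
    (htop : sq₁.top ≫ fst = (yon S).map jψ ≫ sq.top)
    (hbot : sq₁.bot ≫ c = (yon S).map pA ≫ sq.bot)
    (he : sq₁.HasLiftExt) : sq.HasLiftExt := by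
  obtain ⟨e, l, h₁, h₂⟩ := he
  haveI := e.isLocalHom
  have hec : (algebraMap e.A' e.K').comp (e.φ.comp φ) = (e.ψ.comp ψ).comp (algebraMap sq.A sq.K) := by
    rw [← RingHom.comp_assoc, e.comm, RingHom.comp_assoc]
    exact (congrArg e.ψ.comp hψ.symm).trans (RingHom.comp_assoc _ _ _).symm
  haveI : IsLocalHom (e.φ.comp φ) := RingHom.isLocalHom_comp e.φ φ
  have hstr : Spec.map (CommRingCat.ofHom φ) ≫ sq.str = sq₁.str := by
    rw [← hpA]; exact Over.w pA
  let eo : sq.DomExt := { A' := e.A', K' := e.K', φ := e.φ.comp φ, ψ := e.ψ.comp ψ, comm := hec,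
                          isLocalHom := ‹_› }
  have hd : Spec.map (CommRingCat.ofHom e.φ) ≫ sq₁.str =
      Spec.map (CommRingCat.ofHom (e.φ.comp φ)) ≫ sq.str := by
    rw [CommRingCat.ofHom_comp, Spec.map_comp, Category.assoc, hstr]
  let d : eo.ptA' ⟶ e.ptA' := Over.homMk (𝟙 _) ((Category.id_comp _).trans hd)
  let dK : eo.ptK' ⟶ e.ptK' := Over.homMk (𝟙 _)
    ((Category.id_comp _).trans (congrArg (Spec.map (CommRingCat.ofHom (algebraMap e.A' e.K')) ≫ ·) hd))
  refine ⟨eo, (yon S).map d ≫ l ≫ fst, ?_, ?_⟩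
  · rw [← Functor.map_comp_assoc, show (Over.homMk (Spec.map (CommRingCat.ofHom (algebraMap eo.A' eo.K'))) rfl :
        eo.ptK' ⟶ eo.ptA') ≫ d = dK ≫
          (Over.homMk (Spec.map (CommRingCat.ofHom (algebraMap e.A' e.K'))) rfl : e.ptK' ⟶ e.ptA') from by
        ext; exact (Category.comp_id _).trans (Category.id_comp _).symm,
      Functor.map_comp_assoc, reassoc_of% h₁, htop, ← Functor.map_comp_assoc, ← Functor.map_comp_assoc]
    congr 2
    ext
    simp only [Over.comp_left, dK, Over.homMk_left, hjψ, Category.id_comp]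
    rw [← Spec.map_comp, ← CommRingCat.ofHom_comp]
  · rw [Category.assoc, Category.assoc, w, reassoc_of% h₂, hbot, ← Functor.map_comp_assoc,
      ← Functor.map_comp_assoc]
    congr 2
    ext
    simp only [Over.comp_left, d, Over.homMk_left, hpA, Category.id_comp]
    rw [← Spec.map_comp, ← CommRingCat.ofHom_comp]

theorem existVC_of_along (hU : IsAlgSpace U) (hX : IsAlgSpace X) (hY : IsAlgSpace Y) {f : X ⟶ Y} (h : U ⟶ X)
    (hh : IsQuasiCompactMor h) (hd : DenseRange (Points.map h))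
    (hv : ∀ sq : ValSq f, (∃ t : (yon S).obj sq.ptK ⟶ U, t ≫ h = sq.top) → sq.HasUniq ∧ sq.HasLiftExt) :
    ExistVC f := by
  intro sq
  obtain ⟨U₀, c₀, hc₀, hc₀s⟩ := hY.atlas
  obtain ⟨u₀, hu₀⟩ := surjective_ofPt hc₀s (Points.ofPt sq.bot (closedPoint sq.A))
  obtain ⟨T, k, t, hT, hk, rfl, -⟩ := exists_affine_chart u₀ ⊤ trivial
  haveI := hT
  haveI := hk
  obtain ⟨c, hc, htc⟩ : ∃ c : (yon S).obj T ⟶ Y, RepWith @Etale c ∧
      Points.ofPt c t = Points.ofPt sq.bot (closedPoint sq.A) :=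
    ⟨(yon S).map k ≫ c₀, repWith_comp ((repWith_yon_map_iff _ _).2 (inferInstanceAs (Etale k.left))) hc₀,
      by rw [ofPt_comp]; exact hu₀⟩
  have hcf : LocP @Flat c := locP_of_repWith
    (fun e f he hf => by haveI := he; haveI := hf; infer_instance)
    (repWith_mono (fun _ _ e (_ : Etale e) => inferInstanceAs (Flat e)) hc)
  obtain ⟨A', _, _, _, φ, hinj, hφl, lT, hlT⟩ := exists_flat_lift (IsAlgSpace.yon_obj T) hY hcf sq.A sq.str
    sq.bot ⟨Points.ofScheme T t, by rw [← Points.ofPt_eq_map_ofScheme]; exact htc⟩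
  obtain ⟨K', _, _, _⟩ : ∃ (K' : Type u) (_ : Field K') (_ : Algebra A' K'), IsFractionRing A' K' :=
    ⟨FractionRing A', inferInstance, inferInstance, inferInstance⟩
  have hg : Function.Injective ((algebraMap A' K').comp φ) := (IsFractionRing.injective A' K').comp hinj
  obtain ⟨ψ, hψ⟩ : ∃ ψ : sq.K →+* K', ψ.comp (algebraMap sq.A sq.K) = (algebraMap A' K').comp φ :=
    ⟨IsFractionRing.lift hg, RingHom.ext (IsFractionRing.lift_algebraMap hg)⟩
  let str' := Spec.map (CommRingCat.ofHom φ) ≫ sq.str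
  let pA : Over.mk str' ⟶ sq.ptA := Over.homMk (Spec.map (CommRingCat.ofHom φ)) rfl
  let jψ : Over.mk (Spec.map (CommRingCat.ofHom (algebraMap A' K')) ≫ str') ⟶ sq.ptK :=
    Over.homMk (Spec.map (CommRingCat.ofHom ψ)) (by
      change Spec.map _ ≫ Spec.map _ ≫ _ = Spec.map _ ≫ Spec.map _ ≫ _
      rw [← Spec.map_comp_assoc, ← Spec.map_comp_assoc, ← CommRingCat.ofHom_comp, ← CommRingCat.ofHom_comp, hψ])
  let j' : Over.mk (Spec.map (CommRingCat.ofHom (algebraMap A' K')) ≫ str') ⟶ Over.mk str' :=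
    Over.homMk (Spec.map (CommRingCat.ofHom (algebraMap A' K'))) rfl
  have hj : jψ ≫ sq.j = j' ≫ pA := by
    ext
    change Spec.map _ ≫ Spec.map _ = Spec.map _ ≫ Spec.map _
    rw [← Spec.map_comp, ← Spec.map_comp, ← CommRingCat.ofHom_comp, ← CommRingCat.ofHom_comp, hψ]
  have w : ((yon S).map jψ ≫ sq.top) ≫ f = ((yon S).map j' ≫ lT) ≫ c := by
    rw [Category.assoc, sq.comm, Category.assoc, hlT, ← Functor.map_comp_assoc, ← Functor.map_comp_assoc, hj]
  have sP := IsPullback.of_hasPullback f c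
  let sq' : ValSq (pullback.snd f c) :=
    { A := A', K := K', str := str', top := pullback.lift _ _ w, bot := lT,
      comm := pullback.lift_snd _ _ _ }
  have hP := isAlgSpace_of_isPullback hX hY (IsAlgSpace.yon_obj T) sP
  -- hypotheses on the base change
  have sU := IsPullback.of_hasPullback h (pullback.fst f c)
  have hopen : IsOpenMap (Points.map (pullback.fst f c)) :=
    isOpenMap_map_of_repWith isOpenMap_of_etale (repWith_of_isPullback sP.flip hc)
  have hd' : DenseRange (Points.map (pullback.snd h (pullback.fst f c))) := by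
    refine Dense.mono (fun y hy => ?_) (hd.preimage hopen)
    obtain ⟨x, hx⟩ := hy
    obtain ⟨z, -, hz⟩ := exists_point_of_isPullback sU x y hx
    exact ⟨z, hz⟩
  have hv' := along_base_change sP h hv
  have he := existVC_of_along_affine (isAlgSpace_of_isPullback hU hX hP sU) hP _
    (isQuasiCompactMor_base_change sU hh) hd' hv' sq'
  haveI := hφl
  exact hasLiftExt_of_base_change sP.w sq sq' φ ψ hψ pA rfl jψ rfl (pullback.lift_fst _ _ w) hlT he

theorem isUnivClosedMor_of_along (hU : IsAlgSpace U) (hX : IsAlgSpace X) (hY : IsAlgSpace Y) {f : X ⟶ Y}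
    (hf : IsQuasiCompactMor f) (h : U ⟶ X) (hh : IsQuasiCompactMor h) (hd : DenseRange (Points.map h))
    (hv : ∀ sq : ValSq f, (∃ t : (yon S).obj sq.ptK ⟶ U, t ≫ h = sq.top) → sq.HasUniq ∧ sq.HasLiftExt) :
    IsUnivClosedMor f :=
  isUnivClosedMor_of_existVC hX hY hf (existVC_of_along hU hX hY h hh hd hv)

end Groth.Agent.AlgSpDesc
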