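import Groth.Agent.AlgSpDesc.RelDimInv
import Groth.Agent.AlgSpLoc.FlatLocusSp
import Groth.Agent.FibreDimChart.BaseChange

/-!
Relative dimension and base change.
-/

set_option autoImplicit false
set_option linter.style.haveILetI false
set_option backward.isDefEq.respectTransparency false

universe u

open CategoryTheory CategoryTheory.Limits AlgebraicGeometry

namespace Groth.Agent.AlgSpDesc

open _root_.AlgSp Groth.Agent.AlgSpc

variable {S : Scheme.{u}}

/-- Compatible charts for a base change square, at a given point of the source. -/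
theorem exists_charts_isPullback {X Y Y' X' : Space S} {f : X ⟶ Y} {g : Y' ⟶ Y} {g' : X' ⟶ X} {f' : X' ⟶ Y'}
    (sq : IsPullback g'.hom f'.hom f.hom g.hom) (x' : Points X'.obj) :
    ∃ (U V U' V' : Over S) (a : (yon S).obj U ⟶ X.obj) (b : (yon S).obj V ⟶ Y.obj)
      (a' : (yon S).obj U' ⟶ X'.obj) (b' : (yon S).obj V' ⟶ Y'.obj) (k : U ⟶ V) (k' : U' ⟶ V')
      (ω : V' ⟶ V) (wU : U' ⟶ U) (u' : ↥U'.left),
      RepWith @Etale a ∧ RepWith @Etale b ∧ RepWith @Etale a' ∧ RepWith @Etale b' ∧
      a ≫ f.hom = (yon S).map k ≫ b ∧ a' ≫ f'.hom = (yon S).map k' ≫ b' ∧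
      IsPullback wU.left k'.left k.left ω.left ∧ Points.ofPt a' u' = x' ∧
      Points.ofPt a (wU.left u') = Points.map g'.hom x' := by
  obtain ⟨V, c, hc, hcs⟩ := Y.property.atlas
  have sX := IsPullback.of_hasPullback f.hom c
  obtain ⟨U, b₀, hb₀, hb₀s⟩ := (isAlgSpace_of_isPullback X.property Y.property (IsAlgSpace.yon_obj V) sX).atlas
  have sZ := IsPullback.of_hasPullback g.hom c
  obtain ⟨V', d, hd, hds⟩ := (isAlgSpace_of_isPullback Y'.property Y.property (IsAlgSpace.yon_obj V) sZ).atlas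
  let ω : V' ⟶ V := pre (d ≫ pullback.snd g.hom c)
  let c' := d ≫ pullback.fst g.hom c
  have wc : c' ≫ g.hom = (yon S).map ω ≫ c := by rw [map_pre, Category.assoc, Category.assoc, sZ.w]
  have hc' : RepWith @Etale c' := repWith_comp hd (repWith_of_isPullback sZ.flip hc)
  have hc's : RepWith @Surjective c' := repWith_comp hds (repWith_of_isPullback sZ.flip hcs)
  let k : U ⟶ V := pre (b₀ ≫ pullback.snd f.hom c)
  let U' : Over S := Over.mk (pullback.snd k.left ω.left ≫ V'.hom)
  let k' : U' ⟶ V' := Over.homMk (pullback.snd k.left ω.left) rfl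
  let wU : U' ⟶ U := Over.homMk (pullback.fst k.left ω.left) (by
    change _ = pullback.snd k.left ω.left ≫ V'.hom
    rw [← Over.w k, ← Over.w ω, ← Category.assoc, pullback.condition, Category.assoc])
  have sU : IsPullback wU.left k'.left k.left ω.left := IsPullback.of_hasPullback _ _
  obtain ⟨a', ha', ha's, wa₁, wa₂⟩ :=
    AlgSpLoc.exists_chart_baseChange sq wc hc' hc's hb₀ hb₀s (map_pre _).symm sU
  obtain ⟨u', rfl⟩ := surjective_ofPt ha's x'
  refine ⟨U, V, U', V', b₀ ≫ pullback.fst f.hom c, c, a', c', k, k', ω, wU, u',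
    repWith_comp hb₀ (repWith_of_isPullback sX.flip hc), hc, ha', hc', ?_, wa₁, sU, rfl, ?_⟩
  · rw [map_pre, Category.assoc, Category.assoc, sX.w]
  · rw [Points.map_ofPt, wa₂, ofPt_comp]

end Groth.Agent.AlgSpDesc
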