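import Groth.Agent.AlgSpc.EtLocInst
import Groth.Agent.AlgSpLoc.EtLocMore
import Groth.Agent.TopDimLib.OpenMapDim
import Groth.Agent.FibreDimChart.Mono
import Groth.Agent.FlatEquidim.Scheme
import Groth.Prelude.Def_Dual3

/-!
Invariants of morphisms at points which are etale local on source and target.
-/

set_option autoImplicit false
set_option linter.style.haveILetI false
set_option backward.isDefEq.respectTransparency false

universe u

open CategoryTheory CategoryTheory.Limits AlgebraicGeometry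

namespace Groth.Agent.AlgSpDesc

open _root_.AlgSp Groth.Agent.AlgSpc

section Scheme

variable {X Y Z : Scheme.{u}}

theorem quasiSober_preimage (f : X ⟶ Y) (y : Y) : QuasiSober ↥(f ⁻¹' {y}) :=
  (f.fiberHomeo y).symm.isOpenEmbedding.quasiSober

theorem fibreDimAt_etale_comp (e : X ⟶ Y) [Etale e] (h : Y ⟶ Z) (x : X) :
    FlatMor.fibreDimAt (e ≫ h) x = FlatMor.fibreDimAt h (e x) := by
  haveI : LocallyQuasiFinite e := AlgSpLoc.locallyQuasiFinite_of_etale e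
  let T : Set Y := h ⁻¹' {h (e x)}
  haveI : QuasiSober ↥T := quasiSober_preimage h _
  haveI : QuasiSober ↥(e ⁻¹' T) := quasiSober_preimage (e ≫ h) (h (e x))
  have key := TopDimLib.localDim_image_eq (f := T.restrictPreimage e)
    (e.continuous.restrictPreimage) (e.isOpenMap.restrictPreimage T)
    ((Flat.generalizingMap e).restrictPreimage T) (fun y => by
      have := (e.isDiscrete_preimage_singleton y.1).preimage
        (f := (Subtype.val : ↥(e ⁻¹' T) → X)) continuous_subtype_val.continuousOn Subtype.val_injective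
      convert! this using 1
      ext z
      exact Subtype.ext_iff) (⟨x, show h (e x) ∈ ({h (e x)} : Set Z) from rfl⟩ : ↥(e ⁻¹' T))
  rw [FibreDimChart.fibreDimAt_eq_localDim_preimage, FibreDimChart.fibreDimAt_eq_localDim_preimage]
  exact key

theorem fibreDimAt_comp_etale (h : X ⟶ Y) (e : Y ⟶ Z) [Etale e] (x : X) :
    FlatMor.fibreDimAt (h ≫ e) x = FlatMor.fibreDimAt h x := by
  haveI : LocallyQuasiFinite e := AlgSpLoc.locallyQuasiFinite_of_etale e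
  have hd := e.isDiscrete_preimage_singleton (e (h x))
  obtain ⟨O, hO, hOe⟩ : ∃ O : Set Y, IsOpen O ∧ O ∩ e ⁻¹' {e (h x)} = {h x} := by
    haveI := hd.to_subtype
    obtain ⟨O, hO, h'⟩ := isOpen_induced_iff.1 (isOpen_discrete ({⟨h x, rfl⟩} : Set ↥(e ⁻¹' {e (h x)})))
    refine ⟨O, hO, Set.ext fun y => ⟨fun ⟨h1, h2⟩ => ?_, ?_⟩⟩
    · exact congrArg Subtype.val (h'.le (show (⟨y, h2⟩ : ↥(e ⁻¹' {e (h x)})) ∈ Subtype.val ⁻¹' O from h1))
    · rintro rfl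
      exact ⟨h'.ge rfl, rfl⟩
  let g : ↥(h ⁻¹' {h x}) → ↥((h ≫ e) ⁻¹' {e (h x)}) := fun z => ⟨z.1, by
    rw [Set.mem_preimage, Scheme.Hom.comp_apply, show h z.1 = h x from z.2]; rfl⟩
  have hg : Topology.IsOpenEmbedding g := by
    refine ⟨Topology.IsEmbedding.subtypeVal.codRestrict _ _, ?_⟩
    convert! (hO.preimage (h.continuous.comp continuous_subtype_val) :
      IsOpen {z : ↥((h ≫ e) ⁻¹' {e (h x)}) | h z.1 ∈ O})
    ext z
    constructor
    · rintro ⟨w, rfl⟩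
      change h w.1 ∈ O
      rw [show h w.1 = h x from w.2]
      exact (hOe.ge rfl).1
    · exact fun hz => ⟨⟨z.1, hOe.le ⟨hz, z.2⟩⟩, rfl⟩
  rw [FibreDimChart.fibreDimAt_eq_localDim_preimage, FibreDimChart.fibreDimAt_eq_localDim_preimage]
  exact (FieldExtLD.localDim_of_isOpenEmbedding hg ⟨x, rfl⟩ :)

theorem mapTrdeg_etale (e : X ⟶ Y) [Etale e] (x : X) : DimTheory.mapTrdeg e x = 0 := by
  haveI : LocallyQuasiFinite e := AlgSpLoc.locallyQuasiFinite_of_etale e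
  let ft := e.fiberToSpecResidueField (e x)
  have : LocallyOfFiniteType ft := MorphismProperty.pullback_snd _ _ inferInstance
  obtain ⟨n, hn, hn'⟩ := DimTheory.exists_height_eq (k := Y.residueField (e x)) ft (e.asFiber x)
  haveI : DiscreteTopology ↥(e.fiber (e x)) := by
    haveI := (e.isDiscrete_preimage_singleton (e x)).to_subtype
    exact (e.fiberHomeo (e x)).isEmbedding.discreteTopology
  have h0 : Order.height (e.asFiber x) = 0 :=
    Order.height_eq_zero.2 fun b (hb : e.asFiber x ⤳ b) => hb.eq ▸ le_rfl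
  rw [FlatEquidim.resTrdeg_fiber_eq, e.fiberι_asFiber] at hn
  rw [h0] at hn'
  rw [hn, show n = 0 by exact_mod_cast hn'.symm, Nat.cast_zero]

theorem resTrdeg_etale_comp (e : X ⟶ Y) [Etale e] (h : Y ⟶ Z) (x : X) :
    Dual3.resTrdeg (e ≫ h) x = Dual3.resTrdeg h (e x) :=
  (FlatEquidim.mapTrdeg_comp e h x).trans (by rw [mapTrdeg_etale e, add_zero]; rfl)

theorem resTrdeg_comp_etale (h : X ⟶ Y) (e : Y ⟶ Z) [Etale e] (x : X) :
    Dual3.resTrdeg (h ≫ e) x = Dual3.resTrdeg h x :=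
  (FlatEquidim.mapTrdeg_comp h e x).trans (by rw [mapTrdeg_etale e, zero_add]; rfl)

end Scheme

variable {S : Scheme.{u}} {X Y : Sp S} {f : X ⟶ Y}

/-- An invariant which is etale local on source and target has one value on all charts at a point. -/
theorem hasAtMor_unique {α : Type*} (inv : ∀ {U V : Scheme.{u}}, (U ⟶ V) → ↥U → α)
    (hsrc : ∀ {U V W : Scheme.{u}} (e : U ⟶ V) [Etale e] (h : V ⟶ W) (u : U), inv (e ≫ h) u = inv h (e u))
    (htgt : ∀ {U V W : Scheme.{u}} (h : U ⟶ V) (e : V ⟶ W) [Etale e] (u : U), inv (h ≫ e) u = inv h u)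
    {U V U₀ V₀ : Over S} {a : (yon S).obj U ⟶ X} {b : (yon S).obj V ⟶ Y} {h : U ⟶ V}
    {a₀ : (yon S).obj U₀ ⟶ X} {b₀ : (yon S).obj V₀ ⟶ Y} {k₀ : U₀ ⟶ V₀}
    (ha : RepWith @Etale a) (hb : RepWith @Etale b) (w : a ≫ f = (yon S).map h ≫ b)
    (ha₀ : RepWith @Etale a₀) (hb₀ : RepWith @Etale b₀) (w₀ : a₀ ≫ f = (yon S).map k₀ ≫ b₀)
    {u : ↥U.left} {u₀ : ↥U₀.left} (hu : Points.ofPt a u = Points.ofPt a₀ u₀) :
    inv h.left u = inv k₀.left u₀ := by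
  obtain ⟨T, q, r, sq⟩ := exists_sq ha.1 a₀
  haveI : Etale r.left := ha.2 _ _ _ sq
  haveI : Etale (pre q).left := sq_etale sq ha₀
  obtain ⟨t, ht₁, ht₂⟩ := exists_point_of_sq sq (Points.ofScheme U u) u₀
    (by rw [← Points.ofPt_eq_map_ofScheme]; exact hu)
  rw [ofPt_pre] at ht₁
  replace ht₁ : (pre q).left t = u := by simpa using congrArg (Points.toScheme U) ht₁
  obtain ⟨R, s₁, s₂, sR⟩ := exists_sq hb.1 b₀
  haveI : Etale s₂.left := hb.2 _ _ _ sR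
  haveI : Etale (pre s₁).left := sq_etale sR hb₀
  have wl : ((yon S).map (pre q ≫ h)) ≫ b = (yon S).map (r ≫ k₀) ≫ b₀ := by
    rw [Functor.map_comp, Category.assoc, ← w, map_pre, ← Category.assoc, sq.w, Functor.map_comp,
      Category.assoc, Category.assoc, w₀]
  let m : T ⟶ R := pre (sR.lift _ _ wl)
  have hm₁ : m.left ≫ (pre s₁).left = (pre q).left ≫ h.left := congrArg CommaMorphism.left
    (show m ≫ pre s₁ = pre q ≫ h from (yon S).map_injective (by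
      rw [Functor.map_comp, map_pre, map_pre, sR.lift_fst]))
  have hm₂ : m.left ≫ s₂.left = r.left ≫ k₀.left := congrArg CommaMorphism.left
    (show m ≫ s₂ = r ≫ k₀ from (yon S).map_injective (by rw [Functor.map_comp, map_pre, sR.lift_snd]))
  calc inv h.left u = inv ((pre q).left ≫ h.left) t := by rw [hsrc, ht₁]
    _ = inv (m.left ≫ (pre s₁).left) t := by rw [hm₁]
    _ = inv (m.left ≫ s₂.left) t := by rw [htgt, htgt]
    _ = inv (r.left ≫ k₀.left) t := by rw [hm₂]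
    _ = inv k₀.left u₀ := by rw [hsrc, ht₂]

theorem fibreDimAt_unique {U V U₀ V₀ : Over S} {a : (yon S).obj U ⟶ X} {b : (yon S).obj V ⟶ Y} {h : U ⟶ V}
    {a₀ : (yon S).obj U₀ ⟶ X} {b₀ : (yon S).obj V₀ ⟶ Y} {k₀ : U₀ ⟶ V₀}
    (ha : RepWith @Etale a) (hb : RepWith @Etale b) (w : a ≫ f = (yon S).map h ≫ b)
    (ha₀ : RepWith @Etale a₀) (hb₀ : RepWith @Etale b₀) (w₀ : a₀ ≫ f = (yon S).map k₀ ≫ b₀)
    {u : ↥U.left} {u₀ : ↥U₀.left} (hu : Points.ofPt a u = Points.ofPt a₀ u₀) :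
    FlatMor.fibreDimAt h.left u = FlatMor.fibreDimAt k₀.left u₀ :=
  hasAtMor_unique (fun h u => FlatMor.fibreDimAt h u) (fun e _ h u => fibreDimAt_etale_comp e h u)
    (fun h e _ u => fibreDimAt_comp_etale h e u) ha hb w ha₀ hb₀ w₀ hu

theorem resTrdeg_unique {U V U₀ V₀ : Over S} {a : (yon S).obj U ⟶ X} {b : (yon S).obj V ⟶ Y} {h : U ⟶ V}
    {a₀ : (yon S).obj U₀ ⟶ X} {b₀ : (yon S).obj V₀ ⟶ Y} {k₀ : U₀ ⟶ V₀}
    (ha : RepWith @Etale a) (hb : RepWith @Etale b) (w : a ≫ f = (yon S).map h ≫ b)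
    (ha₀ : RepWith @Etale a₀) (hb₀ : RepWith @Etale b₀) (w₀ : a₀ ≫ f = (yon S).map k₀ ≫ b₀)
    {u : ↥U.left} {u₀ : ↥U₀.left} (hu : Points.ofPt a u = Points.ofPt a₀ u₀) :
    Dual3.resTrdeg h.left u = Dual3.resTrdeg k₀.left u₀ :=
  hasAtMor_unique (fun h u => Dual3.resTrdeg h u) (fun e _ h u => resTrdeg_etale_comp e h u)
    (fun h e _ u => resTrdeg_comp_etale h e u) ha hb w ha₀ hb₀ w₀ hu

theorem hasAtMor_fibreDimAt_iff (P : WithBot ℕ∞ → Prop)
    {U₀ V₀ : Over S} {a₀ : (yon S).obj U₀ ⟶ X} {b₀ : (yon S).obj V₀ ⟶ Y} {k₀ : U₀ ⟶ V₀}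
    (ha₀ : RepWith @Etale a₀) (hb₀ : RepWith @Etale b₀) (w₀ : a₀ ≫ f = (yon S).map k₀ ≫ b₀) (u₀ : ↥U₀.left) :
    HasAtMor (fun _ _ h u => P (FlatMor.fibreDimAt h u)) f (Points.ofPt a₀ u₀) ↔
      P (FlatMor.fibreDimAt k₀.left u₀) :=
  ⟨fun ⟨_, _, _, _, _, _, ha, hb, w, hu, h⟩ => fibreDimAt_unique ha hb w ha₀ hb₀ w₀ hu ▸ h,
    fun h => ⟨U₀, V₀, a₀, b₀, k₀, u₀, ha₀, hb₀, w₀, rfl, h⟩⟩

theorem hasAtMor_resTrdeg_iff (P : Cardinal.{u} → Prop)
    {U₀ V₀ : Over S} {a₀ : (yon S).obj U₀ ⟶ X} {b₀ : (yon S).obj V₀ ⟶ Y} {k₀ : U₀ ⟶ V₀}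
    (ha₀ : RepWith @Etale a₀) (hb₀ : RepWith @Etale b₀) (w₀ : a₀ ≫ f = (yon S).map k₀ ≫ b₀) (u₀ : ↥U₀.left) :
    HasAtMor (fun _ _ h u => P (Dual3.resTrdeg h u)) f (Points.ofPt a₀ u₀) ↔ P (Dual3.resTrdeg k₀.left u₀) :=
  ⟨fun ⟨_, _, _, _, _, _, ha, hb, w, hu, h⟩ => resTrdeg_unique ha hb w ha₀ hb₀ w₀ hu ▸ h,
    fun h => ⟨U₀, V₀, a₀, b₀, k₀, u₀, ha₀, hb₀, w₀, rfl, h⟩⟩

end Groth.Agent.AlgSpDesc
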