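import Groth.Agent.AlgSpDesc.MonoField
import Groth.Agent.AlgSpc.LocSurj
import Groth.Agent.AlgSpFormal.Mono

/-!
Monomorphisms into a residual space.
-/

set_option autoImplicit false
set_option linter.style.haveILetI false
set_option backward.isDefEq.respectTransparency false

universe u

open CategoryTheory CategoryTheory.Limits AlgebraicGeometry

namespace Groth.Agent.AlgSpDesc

open _root_.AlgSp Groth.Agent.AlgSpc

variable {S : Scheme.{u}}

theorem isIso_of_mono_residual {Z' Z : Sp S} (hZ' : IsAlgSpace Z') (hZ : IsAlgSpace Z) (f : Z' ⟶ Z) [Mono f]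
    {k : Type u} [Field k] {str : Spec (CommRingCat.of k) ⟶ S} (p : (yon S).obj (Over.mk str) ⟶ Z)
    (hlfp : LocP @LocallyOfFinitePresentation p) (hfl : LocP @Flat p) (hs : IsSurjectiveMor p)
    (z : Points Z') : IsIso f := by
  have hr := hZ.representable_from_yon p
  haveI := isLocallySurjective_of_repWith
    (AlgSpFormal.repWith_of_locP (IsAlgSpace.yon_obj _) hZ hr hfl)
    (AlgSpFormal.repWith_of_locP (IsAlgSpace.yon_obj _) hZ hr hlfp) ((repWith_surjective_iff hr).2 hs)
  haveI : Epi p := inferInstance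
  have sq := IsPullback.of_hasPullback f p
  haveI : Mono (pullback.snd f p) := sq.mono_snd_of_mono
  obtain ⟨w, hw⟩ := hs (Points.map f z)
  obtain ⟨q, -, -⟩ := exists_point_of_isPullback sq z w hw.symm
  haveI := isIso_of_mono_field (isAlgSpace_of_isPullback hZ' hZ (IsAlgSpace.yon_obj _) sq) (pullback.snd f p) q
  haveI : Epi f := by
    have : (inv (pullback.snd f p) ≫ pullback.fst f p) ≫ f = p := by
      rw [Category.assoc, pullback.condition, IsIso.inv_hom_id_assoc]
    exact epi_of_epi_fac this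
  exact isIso_of_mono_of_epi f

theorem exists_iso_over {X Z Z' : Space S} (i : Z ⟶ X) (i' : Z' ⟶ X) [Mono i.hom] [Mono i'.hom]
    {x : Points X.obj} (hi : Set.range (Points.map i.hom) = {x}) (hi' : Set.range (Points.map i'.hom) = {x})
    (hZ : ∃ (k : Type u) (_ : Field k) (str : Spec (CommRingCat.of k) ⟶ S) (p : (yon S).obj (Over.mk str) ⟶ Z.obj),
      LocP @LocallyOfFinitePresentation p ∧ LocP @Flat p ∧ IsSurjectiveMor p)
    (hZ' : ∃ (k : Type u) (_ : Field k) (str : Spec (CommRingCat.of k) ⟶ S) (p : (yon S).obj (Over.mk str) ⟶ Z'.obj),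
      LocP @LocallyOfFinitePresentation p ∧ LocP @Flat p ∧ IsSurjectiveMor p) :
    ∃ e : Z' ≅ Z, e.hom ≫ i = i' := by
  obtain ⟨k, _, str, p, h1, h2, h3⟩ := hZ
  obtain ⟨k', _, str', p', h1', h2', h3'⟩ := hZ'
  have sq := IsPullback.of_hasPullback i.hom i'.hom
  haveI : Mono (pullback.fst i.hom i'.hom) := sq.mono_fst_of_mono
  haveI : Mono (pullback.snd i.hom i'.hom) := sq.mono_snd_of_mono
  have hP := isAlgSpace_of_isPullback Z.property X.property Z'.property sq
  obtain ⟨y, hy⟩ : ∃ y, Points.map i.hom y = x := hi.ge rfl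
  obtain ⟨y', hy'⟩ : ∃ y', Points.map i'.hom y' = x := hi'.ge rfl
  obtain ⟨z, -, -⟩ := exists_point_of_isPullback sq y y' (hy.trans hy'.symm)
  haveI := isIso_of_mono_residual hP Z.property (pullback.fst i.hom i'.hom) p h1 h2 h3 z
  haveI := isIso_of_mono_residual hP Z'.property (pullback.snd i.hom i'.hom) p' h1' h2' h3' z
  refine ⟨(ObjectProperty.fullyFaithfulι _).preimageIso
    ((asIso (pullback.snd i.hom i'.hom)).symm ≪≫ asIso (pullback.fst i.hom i'.hom)), ?_⟩
  ext : 1
  change (inv (pullback.snd i.hom i'.hom) ≫ pullback.fst i.hom i'.hom) ≫ i.hom = i'.hom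
  rw [Category.assoc, pullback.condition, IsIso.inv_hom_id_assoc]

end Groth.Agent.AlgSpDesc
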