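import Groth.Agent.AlgSpDesc.FactorPoint
import Groth.Agent.AlgSpc.EtQuot
import Mathlib.CategoryTheory.Sites.Subsheaf

/-!
Existence of residual spaces.
-/

set_option autoImplicit false
set_option linter.style.haveILetI false
set_option backward.isDefEq.respectTransparency false

universe u

open CategoryTheory CategoryTheory.Limits AlgebraicGeometry

namespace Groth.Agent.AlgSpDesc

open _root_.AlgSp Groth.Agent.AlgSpc

theorem isOpenImmersion_of_preimmersion_discrete {V P : Scheme.{u}} (i : P ⟶ V) [IsPreimmersion i]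
    [DiscreteTopology ↥V] [IsReduced V] : IsOpenImmersion i := by
  let O : V.Opens := ⟨Set.range i, isOpen_discrete _⟩
  obtain ⟨l, hl⟩ := exists_lift_of_preimmersion O.ι i fun v => v.2
  let m := IsOpenImmersion.lift O.ι i (by rw [Scheme.Opens.range_ι]; exact subset_rfl)
  have hm : m ≫ O.ι = i := IsOpenImmersion.lift_fac _ _ _
  haveI : Mono i := inferInstance
  have h₁ : m ≫ l = 𝟙 P := (cancel_mono i).1 (by rw [Category.assoc, hl, hm, Category.id_comp])
  have h₂ : l ≫ m = 𝟙 _ := (cancel_mono O.ι).1 (by rw [Category.assoc, hm, hl, Category.id_comp])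
  haveI : IsIso m := ⟨l, h₁, h₂⟩
  rw [← hm]
  infer_instance

variable {S : Scheme.{u}}

theorem etale_snd_of_residue_sq {X : Sp S} {U : Over S} {a : (yon S).obj U ⟶ X} (ha : RepWith @Etale a)
    (u : ↥U.left) {R : Over S} {t s : R ⟶ Over.mk (U.left.fromSpecResidueField u ≫ U.hom)}
    (sqR : IsPullback ((yon S).map t) ((yon S).map s)
      ((yon S).map (Over.homMk (U.left.fromSpecResidueField u) rfl : _ ⟶ U) ≫ a)
      ((yon S).map (Over.homMk (U.left.fromSpecResidueField u) rfl : _ ⟶ U) ≫ a)) :
    Etale s.left := by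
  let L : Over S := Over.mk (U.left.fromSpecResidueField u ≫ U.hom)
  let ju : L ⟶ U := Over.homMk (U.left.fromSpecResidueField u) rfl
  obtain ⟨V, fst, snd, sq⟩ := exists_sq ha.1 ((yon S).map ju ≫ a)
  haveI : Etale snd.left := ha.2 _ _ _ sq
  haveI := isReduced_of_etale_field (k := U.left.residueField u) snd.left
  haveI := isLocallyArtinian_of_etale_field (k := U.left.residueField u) snd.left
  let P := pullback ju (pre fst)
  have h : IsPullback ((yon S).map (pullback.fst ju (pre fst))) ((yon S).map (pullback.snd ju (pre fst)))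
      ((yon S).map ju) ((yon S).map (pre fst)) := (IsPullback.of_hasPullback _ _).map (yon S)
  rw [map_pre] at h
  have hP : IsPullback ((yon S).map (pullback.fst ju (pre fst)))
      ((yon S).map (pullback.snd ju (pre fst) ≫ snd)) ((yon S).map ju ≫ a) ((yon S).map ju ≫ a) := by
    rw [Functor.map_comp]
    exact h.paste_vert sq
  haveI : IsPreimmersion (pullback.snd ju (pre fst)).left :=
    MorphismProperty.of_isPullback (P := @IsPreimmersion)
      ((IsPullback.of_hasPullback ju (pre fst)).map (Over.forget S))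
      (inferInstanceAs (IsPreimmersion (U.left.fromSpecResidueField u)))
  haveI := isOpenImmersion_of_preimmersion_discrete (pullback.snd ju (pre fst)).left
  let e := (yon S).preimageIso (sqR.isoIsPullback _ _ hP)
  have he : e.hom ≫ (pullback.snd ju (pre fst) ≫ snd) = s := (yon S).map_injective (by
    rw [Functor.map_comp, ← Functor.mapIso_hom, Functor.mapIso_hom, Functor.preimageIso_hom, Functor.map_preimage]
    exact IsPullback.isoIsPullback_hom_snd _ _ _ _)
  haveI : IsIso e.hom.left := inferInstanceAs (IsIso ((Over.forget S).map e.hom))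
  rw [← he, Over.comp_left, Over.comp_left]
  infer_instance

theorem exists_residual (X : Space S) (x : Points X.obj) :
    ∃ (Z : Space S) (i : Z ⟶ X), Mono i.hom ∧ Set.range (Points.map i.hom) = {x} ∧
      ∃ (k : Type u) (_ : Field k) (str : Spec (CommRingCat.of k) ⟶ S) (p : (yon S).obj (Over.mk str) ⟶ Z.obj),
        LocP @LocallyOfFinitePresentation p ∧ LocP @Flat p ∧ IsSurjectiveMor p := by
  obtain ⟨U, a, ha, has⟩ := X.property.atlas
  obtain ⟨u, rfl⟩ := surjective_ofPt has x
  let L : Over S := Over.mk (U.left.fromSpecResidueField u ≫ U.hom)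
  let ju : L ⟶ U := Over.homMk (U.left.fromSpecResidueField u) rfl
  let q₀ := (yon S).map ju ≫ a
  obtain ⟨R, t₀, s, sq₀⟩ := exists_sq (X.property.representable_from_yon q₀) q₀
  obtain ⟨t, rfl⟩ := (yon S).map_surjective t₀
  haveI : Etale s.left := etale_snd_of_residue_sq ha u sq₀
  haveI : Etale t.left := etale_snd_of_residue_sq ha u sq₀.flip
  let q := Sheaf.toImage q₀
  have hq : q ≫ Sheaf.imageι q₀ = q₀ := Sheaf.toImage_ι q₀
  haveI : Mono (Sheaf.imageι q₀) := inferInstance
  haveI : Sheaf.IsLocallySurjective q := (Sheaf.isLocallySurjective_iff_epi' _ _).2 inferInstance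
  have sqZ : IsPullback ((yon S).map t) ((yon S).map s) q q := by
    have w : (yon S).map t ≫ q = (yon S).map s ≫ q := by
      rw [← cancel_mono (Sheaf.imageι q₀), Category.assoc, Category.assoc, hq]; exact sq₀.w
    have hc : ∀ c : PullbackCone q q, c.fst ≫ q₀ = c.snd ≫ q₀ := fun c =>
      ((congrArg (c.fst ≫ ·) hq).symm.trans ((Category.assoc _ _ _).symm.trans
        ((congrArg (· ≫ Sheaf.imageι q₀) c.condition).trans (Category.assoc _ _ _)))).trans
          (congrArg (c.snd ≫ ·) hq)
    exact ⟨⟨w⟩, ⟨PullbackCone.IsLimit.mk w (fun c => sq₀.lift c.fst c.snd (hc c))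
      (fun c => sq₀.lift_fst _ _ _) (fun c => sq₀.lift_snd _ _ _)
      fun c m h1 h2 => sq₀.hom_ext (by rw [sq₀.lift_fst]; exact h1) (by rw [sq₀.lift_snd]; exact h2)⟩⟩
  obtain ⟨hZ, hE, hS⟩ := isAlgSpace_of_etale_kernelPair q sqZ
  have hsurj : IsSurjectiveMor q := surjective_map_of_repWith hS
  let Z : Space S := ⟨Sheaf.image q₀, hZ⟩
  let i : Z ⟶ X := ObjectProperty.homMk (Sheaf.imageι q₀)
  have hL : ∀ l : ↥L.left, Points.map (Sheaf.imageι q₀) (Points.ofPt q l) = Points.ofPt a u := fun l => by
    rw [Points.map_ofPt, hq, ofPt_comp]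
    exact congrArg _ (Scheme.fromSpecResidueField_apply u l)
  refine ⟨Z, i, inferInstanceAs (Mono (Sheaf.imageι q₀)), ?_, U.left.residueField u, inferInstance, L.hom, q,
    locP_of_repWith (P := @LocallyOfFinitePresentation)
      (fun e f (_ : Etale e) (_ : LocallyOfFinitePresentation f) =>
        (inferInstance : LocallyOfFinitePresentation (e ≫ f)))
      (repWith_mono (P := @Etale) (Q := @LocallyOfFinitePresentation)
        (fun _ _ f (h : Etale f) => (inferInstance : LocallyOfFinitePresentation f)) hE),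
    locP_of_repWith (P := @Flat) (fun e f (_ : Etale e) (_ : Flat f) => (inferInstance : Flat (e ≫ f)))
      (repWith_mono (P := @Etale) (Q := @Flat) (fun _ _ f (h : Etale f) => (inferInstance : Flat f)) hE),
    hsurj⟩
  refine Set.eq_singleton_iff_unique_mem.2 ⟨⟨_, hL (IsLocalRing.closedPoint (U.left.residueField u))⟩, ?_⟩
  rintro _ ⟨z, rfl⟩
  obtain ⟨l, rfl⟩ := surjective_ofPt hS z
  exact hL l

end Groth.Agent.AlgSpDesc
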