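import Groth.Agent.AlgSpc.Compact
import Groth.Agent.AlgSpc.FibreProd
import Groth.Agent.AlgSpc.More
import Mathlib.AlgebraicGeometry.Morphisms.UniversallyClosed
import Mathlib.AlgebraicGeometry.ResidueField

/-!
Universally closed morphisms of algebraic spaces are quasi-compact.
-/

set_option autoImplicit false
set_option linter.style.haveILetI false
set_option backward.isDefEq.respectTransparency false

universe u

open CategoryTheory CategoryTheory.Limits AlgebraicGeometry TopologicalSpace MvPolynomial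

namespace Groth.Agent.AlgSpDesc

open _root_.AlgSp Groth.Agent.AlgSpc

variable {S : Scheme.{u}}

/-- An algebraic space universally closed over a field is quasi-compact. -/
theorem compactSpace_of_univClosed_field {F : Sp S} (hF : IsAlgSpace F) {K : Type u} [Field K]
    {str : Spec (CommRingCat.of K) ⟶ S} (p : F ⟶ (yon S).obj (Over.mk str)) (hp : IsUnivClosedMor p) :
    CompactSpace (Points F) := by
  classical
  obtain ⟨U, a, ha, has⟩ := hF.atlas
  let ι := U.left.affineOpens
  let O : ι → Set (Points F) := fun i => Points.ofPt a '' (i.1 : Set U.left)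
  have hO : ∀ i, IsOpen (O i) := fun i => isOpenMap_ofPt ha _ i.1.2
  have hOc : ∀ i, IsCompact (O i) := fun i => i.2.isCompact.image (Points.continuous_ofPt a)
  have hOu : ∀ x, ∃ i, x ∈ O i := fun x => by
    obtain ⟨u, rfl⟩ := surjective_ofPt has x
    obtain ⟨V, hV, hu, -⟩ := exists_isAffineOpen_mem_and_subset (show u ∈ (⊤ : U.left.Opens) from trivial)
    exact ⟨⟨V, hV⟩, u, hu, rfl⟩
  let T₀ : Scheme := Spec (.of <| MvPolynomial ι K)
  let q : T₀ ⟶ Spec (.of K) := Spec.map (CommRingCat.ofHom MvPolynomial.C)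
  let T : Over S := Over.mk (q ≫ str)
  let g : (yon S).obj T ⟶ (yon S).obj (Over.mk str) := (yon S).map (Over.homMk q rfl)
  have sq := IsPullback.of_hasPullback p g
  have hcl : IsClosedMap (Points.map (pullback.snd p g)) := hp (IsAlgSpace.yon_obj T) g _ _ sq
  let fT : Points (pullback p g) → T₀ := fun z => Points.toScheme T (Points.map (pullback.snd p g) z)
  have hfT : IsClosedMap fT := (Points.schemeHomeo T).symm.isClosedMap.comp hcl
  have hfTc : Continuous fT := (Points.schemeHomeo T).symm.continuous.comp (Points.continuous_map _)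
  let π : Points (pullback p g) → Points F := Points.map (pullback.fst p g)
  let Ti (i : ι) : T₀.Opens := PrimeSpectrum.basicOpen (MvPolynomial.X i)
  let Z : Set (Points (pullback p g)) := (⋃ i, fT ⁻¹' (Ti i : Set T₀) ∩ π ⁻¹' O i)ᶜ
  have hZ : IsClosed Z :=
    isClosed_compl_iff.2 (isOpen_iUnion fun i => ((Ti i).2.preimage hfTc).inter
      ((hO i).preimage (Points.continuous_map _)))
  let Zc : T₀.Opens := ⟨(fT '' Z)ᶜ, (hfT _ hZ).isOpen_compl⟩
  let ψ : MvPolynomial ι K →ₐ[K] K := MvPolynomial.aeval (fun _ ↦ 1)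
  let t : T₀ := Spec.map (CommRingCat.ofHom ψ.toRingHom) default
  have ht (i : ι) : t ∈ Ti i := show ψ (.X i) ≠ 0 by simp [ψ]
  have htZc : t ∈ Zc := by
    intro ⟨z, hz, hzt⟩
    obtain ⟨i, hi⟩ := hOu (π z)
    exact hz (Set.mem_iUnion.2 ⟨i, show fT z ∈ Ti i from hzt ▸ ht i, hi⟩)
  obtain ⟨U', ⟨g', rfl⟩, htU', hU'le⟩ :=
    Opens.isBasis_iff_nbhd.mp PrimeSpectrum.isBasis_basic_opens htZc
  let σ : Finset ι := MvPolynomial.vars g'
  let φ : MvPolynomial ι K →+* MvPolynomial ι K :=
    (MvPolynomial.aeval fun i : ι ↦ if i ∈ σ then MvPolynomial.X i else 0).toRingHom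
  let t' : T₀ := Spec.map (CommRingCat.ofHom φ) t
  have ht'g : t' ∈ PrimeSpectrum.basicOpen g' :=
    show φ g' ∉ t.asIdeal from (show φ g' = g' from aeval_ite_mem_eq_self g' subset_rfl).symm ▸ htU'
  have h : t' ∉ fT '' Z := hU'le ht'g
  suffices (⋃ i ∈ σ, O i) = Set.univ from ⟨this ▸ Finset.isCompact_biUnion _ fun i _ ↦ hOc i⟩
  rw [Set.iUnion₂_eq_univ_iff]
  contrapose! h
  obtain ⟨x, hx⟩ := h
  haveI : Subsingleton (Points ((yon S).obj (Over.mk str))) :=
    haveI : Subsingleton ↥(Over.mk str).left := inferInstanceAs (Subsingleton (PrimeSpectrum K))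
    (Points.schemeEquiv (Over.mk str)).symm.subsingleton
  obtain ⟨z, hz₁, hz₂⟩ := exists_point_of_isPullback sq x (Points.ofScheme T t') (Subsingleton.elim _ _)
  have hzT : fT z = t' := (congrArg (Points.toScheme T) hz₂).trans (Points.toScheme_ofScheme T _)
  refine ⟨z, fun hmem => ?_, hzT⟩
  obtain ⟨i, hi₁, hi₂⟩ := Set.mem_iUnion.1 hmem
  have hi₁' : t' ∈ Ti i := hzT ▸ hi₁
  have hσ : i ∉ σ := fun h => hx i h (hz₁ ▸ hi₂)
  have h0 : φ (MvPolynomial.X i) = 0 := by simp [φ, hσ]
  exact hi₁' (show φ (MvPolynomial.X i) ∈ t.asIdeal by rw [h0]; exact Ideal.zero_mem _)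

/-- Universally closed over a quasi-compact scheme gives quasi-compact. -/
theorem compactSpace_of_univClosed {F : Sp S} (hF : IsAlgSpace F) {T : Over S} [CompactSpace ↥T.left]
    (p : F ⟶ (yon S).obj T) (hp : IsUnivClosedMor p) : CompactSpace (Points F) := by
  have hcl : IsClosedMap (Points.map p) := hp (IsAlgSpace.yon_obj T) (𝟙 _) (𝟙 F) p (IsPullback.id_horiz p)
  have hproper : IsProperMap (Points.map p) := by
    refine isProperMap_iff_isClosedMap_and_compact_fibers.2 ⟨Points.continuous_map _, hcl, fun y => ?_⟩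
    obtain ⟨t, rfl⟩ := (Points.schemeEquiv T).surjective y
    let j : Over.mk (T.left.fromSpecResidueField t ≫ T.hom) ⟶ T := Over.homMk (T.left.fromSpecResidueField t) rfl
    have sq := IsPullback.of_hasPullback p ((yon S).map j)
    haveI := compactSpace_of_univClosed_field (K := T.left.residueField t)
      (isAlgSpace_of_isPullback hF (IsAlgSpace.yon_obj T) (IsAlgSpace.yon_obj _) sq) (pullback.snd p ((yon S).map j))
      (fun _ _ hW h c d sqW => hp hW (h ≫ (yon S).map j) _ _ (sqW.paste_horiz sq))
    have hj : ∀ z, Points.map ((yon S).map j) z = Points.schemeEquiv T t := fun z => by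
      obtain ⟨w, rfl⟩ := (Points.schemeEquiv _).surjective z
      change Points.map ((yon S).map j) (Points.ofScheme _ w) = Points.ofScheme T t
      rw [← Points.ofPt_eq_map_ofScheme, ofPt_pre, pre_map]
      exact congrArg _ (Scheme.fromSpecResidueField_apply t w)
    have e : Points.map p ⁻¹' {Points.schemeEquiv T t} = Set.range (Points.map (pullback.fst p ((yon S).map j))) := by
      ext x
      constructor
      · intro hx
        obtain ⟨w, hw, -⟩ := exists_point_of_isPullback sq x
          (Points.ofScheme _ (IsLocalRing.closedPoint (T.left.residueField t))) (by rw [hj]; exact hx)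
        exact ⟨w, hw⟩
      · rintro ⟨w, rfl⟩
        rw [Set.mem_preimage, ← Points.map_comp, pullback.condition, Points.map_comp, hj]
        rfl
    rw [e]
    exact isCompact_range (Points.continuous_map _)
  haveI : CompactSpace (Points ((yon S).obj T)) := (Points.schemeHomeo T).compactSpace
  exact ⟨by simpa using hproper.isCompact_preimage isCompact_univ⟩

theorem isQuasiCompactMor_of_univClosed {X Y : Sp S} (hX : IsAlgSpace X) (hY : IsAlgSpace Y) {f : X ⟶ Y}
    (hf : IsUnivClosedMor f) : IsQuasiCompactMor f := by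
  intro Z Z' hZ hZc g fst snd sq
  have hZ' := isAlgSpace_of_isPullback hX hY hZ sq
  obtain ⟨T, b, hT, hb, hbs⟩ := (isQuasiCompactSp_iff_affine hZ).1 hZc
  haveI := hT
  have sT := IsPullback.of_hasPullback snd b
  haveI := compactSpace_of_univClosed (isAlgSpace_of_isPullback hZ' hZ (IsAlgSpace.yon_obj T) sT)
    (pullback.snd snd b) (fun _ _ hW h c d sqW => hf hW ((h ≫ b) ≫ g) _ _ ((sqW.paste_horiz sT).paste_horiz sq))
  rw [isQuasiCompactSp_iff hZ']
  refine ⟨?_⟩
  have hs : Function.Surjective (Points.map (pullback.fst snd b)) :=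
    surjective_map_base_change sT.flip (surjective_map_of_repWith hbs)
  rw [← hs.range_eq]
  exact isCompact_range (Points.continuous_map _)

end Groth.Agent.AlgSpDesc
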