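import Groth.Agent.AlgSpc.SepProper
import Groth.Agent.AlgSpc.More
import Groth.Agent.AlgSpFormal.Mono
import Groth.Agent.AlgStB.SpDiag
import Groth.Agent.AlgSpDesc.UnivClosedQC

/-!
Separatedness descends along universally closed surjections.
-/

set_option autoImplicit false
set_option linter.style.haveILetI false
set_option backward.isDefEq.respectTransparency false

universe u

open CategoryTheory CategoryTheory.Limits AlgebraicGeometry

namespace Groth.Agent.AlgSpDesc

open _root_.AlgSp Groth.Agent.AlgSpc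

variable {S : Scheme.{u}} {X Y B : Sp S} (hX : IsAlgSpace X) (hY : IsAlgSpace Y) (hB : IsAlgSpace B)
  {f : X ⟶ Y} {q : Y ⟶ B}

/-- Quasi-compactness passes to the target of a surjection. -/
theorem isQuasiCompactMor_of_surjective {P Z : Sp S} (hP : IsAlgSpace P) (hY : IsAlgSpace Y) {d : Y ⟶ P}
    (hd : IsQuasiCompactMor (f ≫ d)) (hs : IsSurjectiveMor f) : IsQuasiCompactMor d := by
  intro W W' hW hWc g fst snd sq
  have hW' := isAlgSpace_of_isPullback hY hP hW sq
  have sA := IsPullback.of_hasPullback f fst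
  haveI := compactSpace_points (hd hW hWc g _ _ (sA.paste_vert sq))
  rw [isQuasiCompactSp_iff hW']
  refine ⟨?_⟩
  rw [← (surjective_map_base_change sA hs).range_eq]
  exact isCompact_range (Points.continuous_map _)

include hX hY hB in
theorem univClosed_map (hc : IsUnivClosedMor f) :
    IsUnivClosedMor (pullback.map (f ≫ q) (f ≫ q) q q f f (𝟙 B) (by simp) (by simp)) := by
  let a : pullback (f ≫ q) (f ≫ q) ⟶ pullback q (f ≫ q) :=
    pullback.map (f ≫ q) (f ≫ q) q (f ≫ q) f (𝟙 _) (𝟙 B) (by simp) (by simp)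
  let b : pullback q (f ≫ q) ⟶ pullback q q :=
    pullback.map q (f ≫ q) q q (𝟙 _) f (𝟙 B) (by simp) (by simp)
  have e : pullback.map (f ≫ q) (f ≫ q) q q f f (𝟙 B) (by simp) (by simp) = a ≫ b := by
    apply pullback.hom_ext <;> simp [a, b]
  have sa : IsPullback (pullback.fst (f ≫ q) (f ≫ q)) a f (pullback.fst q (f ≫ q)) := by
    refine IsPullback.of_bot (h₃₁ := f ≫ q) (v₂₁ := pullback.snd q (f ≫ q)) (v₂₂ := q) ?_ ?_
      (IsPullback.of_hasPullback q (f ≫ q))
    · simpa [a] using IsPullback.of_hasPullback (f ≫ q) (f ≫ q)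
    · simp [a]
  have sb : IsPullback (pullback.snd q (f ≫ q)) b f (pullback.snd q q) := by
    refine IsPullback.of_bot (h₃₁ := q) (v₂₁ := pullback.fst q q) ?_ ?_
      (IsPullback.of_hasPullback q q).flip
    · simpa [b] using (IsPullback.of_hasPullback q (f ≫ q)).flip
    · simp [b]
  rw [e]
  exact univSp_comp isClosedMor_comp (isAlgSpace_of_isPullback hY hB hX (IsPullback.of_hasPullback _ _))
    (isAlgSpace_of_isPullback hY hB hY (IsPullback.of_hasPullback _ _))
    (univSp_base_change sa hc) (univSp_base_change sb hc)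

theorem diagonal_comp_map :
    pullback.diagonal (f ≫ q) ≫ pullback.map (f ≫ q) (f ≫ q) q q f f (𝟙 B) (by simp) (by simp) =
      f ≫ pullback.diagonal q := by
  apply pullback.hom_ext <;> simp

include hX hY hB in
theorem isSeparatedMor_of_univClosed (hs : IsSurjectiveMor f) (hc : IsUnivClosedMor f)
    (hp : IsSeparatedMor (f ≫ q)) : IsSeparatedMor q := by
  have hP := isAlgSpace_of_isPullback hY hB hY (IsPullback.of_hasPullback q q)
  refine (AlgSpFormal.closedImmersion_iff hY hP).2 ⟨?_, ?_, inferInstance⟩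
  · refine univClosed_of_surjective (f := f) rfl ?_ hs
    rw [← diagonal_comp_map]
    exact univSp_comp isClosedMor_comp (isAlgSpace_of_isPullback hX hB hX (IsPullback.of_hasPullback _ _))
      hP (isProperMor_of_repWith_closedImmersion hp).2.2 (univClosed_map hX hY hB hc)
  · exact locP_of_repWith EtLoc.precomp
      (repWith_mono (fun _ _ k h => h.1) (AlgStB.representable_lft_mono_diagonal hY q))

include hX hY hB in
theorem isQuasiSeparatedMor_of_univClosed (hs : IsSurjectiveMor f) (hc : IsUnivClosedMor f)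
    (hp : IsQuasiSeparatedMor (f ≫ q)) : IsQuasiSeparatedMor q := by
  have hP := isAlgSpace_of_isPullback hY hB hY (IsPullback.of_hasPullback q q)
  have hP' := isAlgSpace_of_isPullback hX hB hX (IsPullback.of_hasPullback (f ≫ q) (f ≫ q))
  refine (repWith_quasiCompact_iff (AlgSpLoc.representable_diagonal_mor hY q)).2
    (isQuasiCompactMor_of_surjective (f := f) (Z := B) hP hY ?_ hs)
  rw [← diagonal_comp_map]
  exact isQuasiCompactMor_comp hP' hP (isQuasiCompactMor_of_repWith hp)
    (isQuasiCompactMor_of_univClosed hP' hP (univClosed_map hX hY hB hc))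

end Groth.Agent.AlgSpDesc
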