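import Groth.Agent.AlgSpDesc.AffineTest
import Groth.Agent.AlgSpc.Compact
import Groth.Agent.AlgSpc.Universal
import Groth.Agent.AlgSpc.SepProper
import Groth.Agent.DVRDom.AffineTest
import Groth.Agent.AlgSpc.Decent2

/-!
Universal closedness of quasi-compact morphisms is tested on affine spaces over a chart.
-/

set_option autoImplicit false
set_option linter.style.haveILetI false
set_option backward.isDefEq.respectTransparency false

universe u

open CategoryTheory CategoryTheory.Limits AlgebraicGeometry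
open scoped TensorProduct

namespace Groth.Agent.AlgSpDesc

open _root_.AlgSp Groth.Agent.AlgSpc

variable {S : Scheme.{u}} {X Y : Sp S} {f : X ⟶ Y}

section Affine

variable {A : Type u} [CommRing A] (strA : Spec (CommRingCat.of A) ⟶ S)

/-- The spectrum of an algebra over `Spec A`. -/
noncomputable abbrev algPt (T : Type u) [CommRing T] [Algebra A T] : Over S :=
  Over.mk (Spec.map (CommRingCat.ofHom (algebraMap A T)) ≫ strA)

/-- Its structure map. -/
noncomputable abbrev algHom (T : Type u) [CommRing T] [Algebra A T] :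
    algPt strA T ⟶ Over.mk strA :=
  Over.homMk (Spec.map (CommRingCat.ofHom (algebraMap A T))) rfl

/-- The map of spectra of an algebra map. -/
noncomputable abbrev algMap {T T' : Type u} [CommRing T] [Algebra A T] [CommRing T'] [Algebra A T']
    (π : T →ₐ[A] T') : algPt strA T' ⟶ algPt strA T :=
  Over.homMk (Spec.map (CommRingCat.ofHom π.toRingHom)) (by
    change _ ≫ Spec.map _ ≫ strA = Spec.map _ ≫ strA
    rw [← Spec.map_comp_assoc, ← CommRingCat.ofHom_comp,
      show π.toRingHom.comp (algebraMap A T) = algebraMap A T' from π.comp_algebraMap])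

theorem isPullback_algPt (C T : Type u) [CommRing C] [Algebra A C] [CommRing T] [Algebra A T] :
    IsPullback (algMap strA (Algebra.TensorProduct.includeLeft : C →ₐ[A] C ⊗[A] T))
      (algMap strA (Algebra.TensorProduct.includeRight : T →ₐ[A] C ⊗[A] T)) (algHom strA C) (algHom strA T) := by
  have h : IsPullback (Spec.map (CommRingCat.ofHom
        (Algebra.TensorProduct.includeLeft : C →ₐ[A] C ⊗[A] T).toRingHom))
      (Spec.map (CommRingCat.ofHom (Algebra.TensorProduct.includeRight : T →ₐ[A] C ⊗[A] T).toRingHom))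
      (Spec.map (CommRingCat.ofHom (algebraMap A C))) (Spec.map (CommRingCat.ofHom (algebraMap A T))) :=
    IsPullback.of_iso (IsPullback.of_hasPullback _ _) (pullbackSpecIso A C T) (Iso.refl _) (Iso.refl _)
      (Iso.refl _) ((Category.comp_id _).trans (pullbackSpecIso_hom_fst A C T).symm)
      ((Category.comp_id _).trans (pullbackSpecIso_hom_snd A C T).symm) (by simp) (by simp)
  refine IsPullback.of_map (F := Over.forget S) ?_ h
  ext
  exact h.w

/-- An affine chart as an algebra. -/
theorem exists_alg_chart {P : Sp S} (p : P ⟶ (yon S).obj (Over.mk strA)) {W : Over S} [IsAffine W.left]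
    (q : (yon S).obj W ⟶ P) (hq : RepWith @Etale q) (hqs : RepWith @Surjective q) :
    ∃ (Cr : Type u) (_ : CommRing Cr) (_ : Algebra A Cr) (q₀ : (yon S).obj (algPt strA Cr) ⟶ P),
      RepWith @Etale q₀ ∧ Function.Surjective (Points.ofPt q₀) ∧
        q₀ ≫ p = (yon S).map (algHom strA Cr) := by
  let Cr := Γ(W.left, ⊤)
  let wR : W ⟶ Over.mk strA := pre (q ≫ p)
  let ρ : A →+* Cr := (Spec.preimage (W.left.isoSpec.inv ≫ wR.left)).hom
  letI : Algebra A Cr := ρ.toAlgebra
  let eW : algPt strA Cr ⟶ W := Over.homMk W.left.isoSpec.inv (by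
    change _ = Spec.map (Spec.preimage (W.left.isoSpec.inv ≫ wR.left)) ≫ strA
    rw [Spec.map_preimage, Category.assoc]
    exact congrArg (W.left.isoSpec.inv ≫ ·) (Over.w wR).symm)
  haveI : IsIso eW := by
    haveI : IsIso ((Over.forget S).map eW) := inferInstanceAs (IsIso W.left.isoSpec.inv)
    exact isIso_of_reflects_iso eW (Over.forget S)
  let q₀ := (yon S).map eW ≫ q
  have hq₀ : RepWith @Etale q₀ := repWith_comp ((repWith_yon_map_iff _ eW).2
    (inferInstanceAs (Etale W.left.isoSpec.inv))) hq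
  have hq₀s : Function.Surjective (Points.ofPt q₀) := fun x => by
    obtain ⟨w, rfl⟩ := surjective_ofPt hqs x
    refine ⟨(inv eW).left w, ?_⟩
    rw [ofPt_comp, ← Scheme.Hom.comp_apply, ← Over.comp_left, IsIso.inv_hom_id]
    rfl
  have hq₀R : q₀ ≫ p = (yon S).map (algHom strA Cr) := by
    rw [Category.assoc, ← map_pre (q ≫ p), ← Functor.map_comp]
    congr 1
    ext
    exact (Spec.map_preimage _).symm
  exact ⟨Cr, inferInstance, inferInstance, q₀, hq₀, hq₀s, hq₀R⟩

/-- The chart of the base change to an algebra. -/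
theorem exists_chart_bc (c : (yon S).obj (Over.mk strA) ⟶ Y) {Cr : Type u} [CommRing Cr] [Algebra A Cr]
    (q₀ : (yon S).obj (algPt strA Cr) ⟶ pullback f c)
    (hq₀R : q₀ ≫ pullback.snd f c = (yon S).map (algHom strA Cr)) (T : Type u) [CommRing T] [Algebra A T] :
    ∃ (Φ : (yon S).obj (algPt strA (Cr ⊗[A] T)) ⟶ pullback f ((yon S).map (algHom strA T) ≫ c))
      (b : pullback f ((yon S).map (algHom strA T) ≫ c) ⟶ pullback f c),
      b ≫ pullback.fst f c = pullback.fst f ((yon S).map (algHom strA T) ≫ c) ∧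
      b ≫ pullback.snd f c = pullback.snd f _ ≫ (yon S).map (algHom strA T) ∧
      Φ ≫ pullback.snd f _ =
        (yon S).map (algMap strA (Algebra.TensorProduct.includeRight : T →ₐ[A] Cr ⊗[A] T)) ∧
      IsPullback ((yon S).map (algMap strA (Algebra.TensorProduct.includeLeft : Cr →ₐ[A] Cr ⊗[A] T))) Φ q₀ b := by
  have sR := IsPullback.of_hasPullback f c
  let g := (yon S).map (algHom strA T) ≫ c
  let Φ := pullback.lift (f := f) (g := g)
    ((yon S).map (algMap strA (Algebra.TensorProduct.includeLeft : Cr →ₐ[A] Cr ⊗[A] T)) ≫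
      q₀ ≫ pullback.fst f c)
    ((yon S).map (algMap strA (Algebra.TensorProduct.includeRight : T →ₐ[A] Cr ⊗[A] T))) (by
      rw [Category.assoc, Category.assoc, pullback.condition, reassoc_of% hq₀R, ← Functor.map_comp_assoc,
        ← Functor.map_comp_assoc, (isPullback_algPt strA Cr T).w])
  let b : pullback f g ⟶ pullback f c :=
    pullback.lift (pullback.fst _ _) (pullback.snd f g ≫ (yon S).map (algHom strA T))
      (by rw [Category.assoc]; exact pullback.condition)
  have hbot : IsPullback b (pullback.snd f g) (pullback.snd f c) ((yon S).map (algHom strA T)) :=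
    IsPullback.of_right (by rw [pullback.lift_fst]; exact IsPullback.of_hasPullback f g)
      (pullback.lift_snd _ _ _) sR
  refine ⟨Φ, b, pullback.lift_fst _ _ _, pullback.lift_snd _ _ _, pullback.lift_snd _ _ _,
    IsPullback.of_bot ?_ ?_ hbot⟩
  · rw [pullback.lift_snd, hq₀R]
    exact (isPullback_algPt strA Cr T).map (yon S)
  · apply pullback.hom_ext
    · simp [b, Φ]
    · simp only [b, Φ, Category.assoc, pullback.lift_snd, pullback.lift_snd_assoc]
      rw [hq₀R, ← Functor.map_comp, ← Functor.map_comp, (isPullback_algPt strA Cr T).w]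

/-- The map of base changes of an algebra map. -/
theorem exists_bc_map (c : (yon S).obj (Over.mk strA) ⟶ Y) {T T' : Type u} [CommRing T] [Algebra A T]
    [CommRing T'] [Algebra A T'] (π : T →ₐ[A] T') :
    ∃ H : pullback f ((yon S).map (algHom strA T') ≫ c) ⟶ pullback f ((yon S).map (algHom strA T) ≫ c),
      H ≫ pullback.fst _ _ = pullback.fst _ _ ∧
      H ≫ pullback.snd _ _ = pullback.snd _ _ ≫ (yon S).map (algMap strA π) := by
  have h : algHom strA T' = algMap strA π ≫ algHom strA T := by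
    ext
    change Spec.map _ = Spec.map _ ≫ Spec.map _
    rw [← Spec.map_comp, ← CommRingCat.ofHom_comp]
    exact congrArg (fun r => Spec.map (CommRingCat.ofHom r)) π.comp_algebraMap.symm
  refine ⟨pullback.lift (pullback.fst _ _) (pullback.snd _ _ ≫ (yon S).map (algMap strA π)) ?_,
    pullback.lift_fst _ _ _, pullback.lift_snd _ _ _⟩
  rw [pullback.condition, Category.assoc, ← Functor.map_comp_assoc, h]

/-- The key step on the standard base change. -/
theorem isClosedMap_std (c : (yon S).obj (Over.mk strA) ⟶ Y)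
    (h : ∀ (n : ℕ) (P : Sp S) (fst : P ⟶ X) (snd : P ⟶ (yon S).obj (algPt strA (MvPolynomial (Fin n) A))),
      IsPullback fst snd f ((yon S).map (algHom strA (MvPolynomial (Fin n) A)) ≫ c) →
        IsClosedMap (Points.map snd))
    {Cr : Type u} [CommRing Cr] [Algebra A Cr] (q₀ : (yon S).obj (algPt strA Cr) ⟶ pullback f c)
    (hq₀ : RepWith @Etale q₀) (hq₀s : Function.Surjective (Points.ofPt q₀))
    (hq₀R : q₀ ≫ pullback.snd f c = (yon S).map (algHom strA Cr))
    (B : Type u) [CommRing B] [Algebra A B] :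
    IsClosedMap (Points.map (pullback.snd f ((yon S).map (algHom strA B) ≫ c))) := by
  classical
  let g : ∀ (T : Type u) [CommRing T] [Algebra A T], (yon S).obj (algPt strA T) ⟶ Y :=
    fun T _ _ => (yon S).map (algHom strA T) ≫ c
  intro Z hZ
  rw [← (Points.schemeHomeo (algPt strA B)).isClosed_preimage, ← isOpen_compl_iff, isOpen_iff_forall_mem_open]
  intro t ht
  change ¬ (Points.ofScheme _ t ∈ Points.map (pullback.snd f (g B)) '' Z) at ht
  obtain ⟨ΦB, bB, hbB, hbsB, hΦsndB', sΦB⟩ := exists_chart_bc strA (f := f) c q₀ hq₀R B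
  have hΦsndB : ∀ z : ↥(algPt strA (Cr ⊗[A] B)).left,
      Points.map (pullback.snd f (g B)) (Points.ofPt ΦB z) = Points.ofScheme (algPt strA B)
        ((algMap strA (Algebra.TensorProduct.includeRight : B →ₐ[A] Cr ⊗[A] B)).left z) := fun z => by
    rw [Points.map_ofPt, hΦsndB', ofPt_pre, pre_map]
  let I : Ideal (Cr ⊗[A] B) := PrimeSpectrum.vanishingIdeal (Points.ofPt ΦB ⁻¹' Z)
  let tB : PrimeSpectrum B := t
  haveI : tB.asIdeal.IsPrime := tB.isPrime
  have hsep : ∀ Q : Ideal (Cr ⊗[A] B), Q.IsPrime → I ≤ Q →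
      Q.comap (Algebra.TensorProduct.includeRight : B →ₐ[A] Cr ⊗[A] B).toRingHom ≠
        tB.asIdeal := by
    intro Q hQ hIQ heq
    let s : PrimeSpectrum (Cr ⊗[A] B) := ⟨Q, hQ⟩
    have hs : s ∈ (Points.ofPt ΦB ⁻¹' Z : Set (PrimeSpectrum (Cr ⊗[A] B))) := by
      have hcl : IsClosed (Points.ofPt ΦB ⁻¹' Z : Set (PrimeSpectrum (Cr ⊗[A] B))) :=
        hZ.preimage (Points.continuous_ofPt ΦB)
      rw [← hcl.closure_eq]
      exact (PrimeSpectrum.zeroLocus_vanishingIdeal_eq_closure (R := Cr ⊗[A] B) _).le hIQ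
    exact ht ⟨_, hs, (hΦsndB s).trans (congrArg _ (PrimeSpectrum.ext heq))⟩
  obtain ⟨F, hF⟩ := Groth.Agent.DVRDom.exists_finset_separating.{u, u, u, u} (A := A) (B := B) (C := Cr) tB.asIdeal I hsep
  let n := F.card
  let π : MvPolynomial (Fin n) A →ₐ[A] B := MvPolynomial.aeval fun i => (F.equivFin.symm i : B)
  have hπ : (F : Set B) ⊆ Set.range π := fun x hx => ⟨MvPolynomial.X (F.equivFin ⟨x, hx⟩), by simp [π]⟩
  let Pn := MvPolynomial (Fin n) A
  let sπ := algMap strA π
  obtain ⟨H, hH₁, hH₂⟩ := exists_bc_map strA (f := f) c π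
  let Z₀ : Set (Points (pullback f (g Pn))) := closure (Points.map H '' Z)
  have hclosed : IsClosed (Points.map (pullback.snd f (g Pn)) '' Z₀) :=
    h n _ _ _ (IsPullback.of_hasPullback f (g Pn)) _ isClosed_closure
  refine ⟨{u | Points.ofScheme (algPt strA Pn) (sπ.left u) ∉ Points.map (pullback.snd f (g Pn)) '' Z₀}, ?_, ?_, ?_⟩
  · rintro u hu ⟨z, hz, hzu⟩
    refine hu ⟨Points.map H z, subset_closure ⟨z, hz, rfl⟩, ?_⟩
    rw [← Points.map_comp, hH₂, Points.map_comp, hzu]
    change Points.map _ (Points.ofScheme _ u) = _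
    rw [← Points.ofPt_eq_map_ofScheme, ofPt_pre, pre_map]
  · exact (hclosed.preimage ((Points.schemeHomeo (algPt strA Pn)).continuous.comp sπ.left.continuous)).isOpen_compl
  · rintro ⟨x, hx, hxt⟩
    obtain ⟨ΦPn, bPn, hbPn, hbsPn, hΦsndPn', sΦPn⟩ := exists_chart_bc strA (f := f) c q₀ hq₀R Pn
    obtain ⟨Q, rfl⟩ : ∃ Q, Points.ofPt ΦPn Q = x := by
      obtain ⟨w, hw⟩ := hq₀s (Points.map bPn x)
      obtain ⟨z, -, hz⟩ := exists_point_of_isPullback sΦPn (Points.ofScheme _ w) x
        (by rw [← Points.ofPt_eq_map_ofScheme]; exact hw)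
      obtain ⟨z, rfl⟩ := (Points.schemeEquiv _).surjective z
      exact ⟨z, (Points.ofPt_eq_map_ofScheme _ _).trans hz⟩
    let ψ := Algebra.TensorProduct.map (AlgHom.id A Cr) π
    let Ψ := algMap strA ψ
    have hψl : algMap strA (Algebra.TensorProduct.includeLeft : Cr →ₐ[A] Cr ⊗[A] B) =
        Ψ ≫ algMap strA (Algebra.TensorProduct.includeLeft : Cr →ₐ[A] Cr ⊗[A] Pn) := by
      ext
      change Spec.map _ = Spec.map _ ≫ Spec.map _
      rw [← Spec.map_comp]
      congr 1
      exact CommRingCat.hom_ext (RingHom.ext fun x => ((Algebra.TensorProduct.map_tmul (AlgHom.id A Cr) π x 1).trans (by rw [map_one]; rfl)).symm)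
    have hψr : Ψ ≫ algMap strA (Algebra.TensorProduct.includeRight : Pn →ₐ[A] Cr ⊗[A] Pn) =
        algMap strA (Algebra.TensorProduct.includeRight : B →ₐ[A] Cr ⊗[A] B) ≫ sπ := by
      ext
      change Spec.map _ ≫ Spec.map _ = Spec.map _ ≫ Spec.map _
      rw [← Spec.map_comp, ← Spec.map_comp]
      congr 1
    have hHb : H ≫ bPn = bB := by
      apply pullback.hom_ext
      · rw [Category.assoc, hbPn, hH₁, hbB]
      · rw [Category.assoc, hbsPn, reassoc_of% hH₂, ← Functor.map_comp, hbsB]
        congr 2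
        ext
        change Spec.map _ ≫ Spec.map _ = Spec.map _
        rw [← Spec.map_comp, ← CommRingCat.ofHom_comp]
        exact congrArg (fun r => Spec.map (CommRingCat.ofHom r)) π.comp_algebraMap
    have sΨ : IsPullback ((yon S).map Ψ) ΦB ΦPn H := by
      refine IsPullback.of_right ?_ ?_ sΦPn
      · rw [hHb, ← Functor.map_comp, ← hψl]; exact sΦB
      · apply pullback.hom_ext
        · rw [Category.assoc, Category.assoc, ← hbPn, ← reassoc_of% sΦPn.w, ← Functor.map_comp_assoc,
            ← hψl, reassoc_of% hHb, reassoc_of% sΦB.w]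
        · rw [Category.assoc, Category.assoc, hΦsndPn', hH₂, reassoc_of% hΦsndB',
            ← Functor.map_comp, ← Functor.map_comp, hψr]
    have hQcl : (Q : PrimeSpectrum (Cr ⊗[A] Pn)) ∈ closure (Ψ.left '' (Points.ofPt ΦB ⁻¹' Z)) := by
      refine closure_mono ?_ ((isOpenMap_ofPt (repWith_of_isPullback sΦPn hq₀)).preimage_closure_subset_closure_preimage hx)
      rintro r ⟨z, hz, hzr⟩
      obtain ⟨s, hs₁, hs₂⟩ := exists_point_of_isPullback sΨ (Points.ofScheme _ r) z
        (by rw [← Points.ofPt_eq_map_ofScheme]; exact hzr.symm)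
      obtain ⟨s, rfl⟩ := (Points.schemeEquiv _).surjective s
      refine ⟨s, ?_, (Points.schemeEquiv _).injective ?_⟩
      · change Points.ofPt ΦB s ∈ Z
        rw [Points.ofPt_eq_map_ofScheme]
        exact hs₂.symm ▸ hz
      · refine Eq.trans ?_ hs₁
        change Points.ofScheme _ (Ψ.left s) = Points.map _ (Points.ofScheme _ s)
        rw [← Points.ofPt_eq_map_ofScheme, ofPt_pre, pre_map]
    refine hF π hπ (Q : PrimeSpectrum (Cr ⊗[A] Pn)).asIdeal (Q : PrimeSpectrum (Cr ⊗[A] Pn)).isPrime
      (fun e he => ?_) ?_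
    · have h1 : closure (Ψ.left '' (Points.ofPt ΦB ⁻¹' Z)) ⊆
          PrimeSpectrum.zeroLocus (R := Cr ⊗[A] Pn) {e} := by
        refine closure_minimal ?_ (PrimeSpectrum.isClosed_zeroLocus _)
        rintro _ ⟨s, hs, rfl⟩
        exact Set.singleton_subset_iff.mpr ((PrimeSpectrum.mem_vanishingIdeal _ _).mp he s hs)
      exact h1 hQcl rfl
    · rw [Points.map_ofPt, hΦsndPn', ofPt_pre, pre_map] at hxt
      exact congrArg PrimeSpectrum.asIdeal ((Points.schemeEquiv _).injective hxt)

/-- Closedness is invariant under change of the pullback. -/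
theorem isClosedMap_of_std {Z : Sp S} {g : Z ⟶ Y} {P : Sp S} {fst : P ⟶ X} {snd : P ⟶ Z}
    (sq : IsPullback fst snd f g) (h : IsClosedMap (Points.map (pullback.snd f g))) :
    IsClosedMap (Points.map snd) := by
  intro C hC
  have e : Points.map snd '' C = Points.map (pullback.snd f g) '' (Points.map sq.isoPullback.inv ⁻¹' C) := by
    ext y
    constructor
    · rintro ⟨x, hx, rfl⟩
      refine ⟨Points.map sq.isoPullback.hom x, ?_, ?_⟩
      · rw [Set.mem_preimage, ← Points.map_comp, Iso.hom_inv_id, Points.map_id]; exact hx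
      · rw [← Points.map_comp, sq.isoPullback_hom_snd]
    · rintro ⟨x, hx, rfl⟩
      exact ⟨_, hx, by rw [← Points.map_comp, sq.isoPullback_inv_snd]⟩
  rw [e]
  exact h _ (hC.preimage (Points.continuous_map _))

/-- The key step: closedness over affine spaces gives closedness over any algebra. -/
theorem isClosedMap_of_mvPolynomial (hX : IsAlgSpace X) (hY : IsAlgSpace Y) (hf : IsQuasiCompactMor f)
    (c : (yon S).obj (Over.mk strA) ⟶ Y)
    (h : ∀ (n : ℕ) (P : Sp S) (fst : P ⟶ X) (snd : P ⟶ (yon S).obj (algPt strA (MvPolynomial (Fin n) A))),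
      IsPullback fst snd f ((yon S).map (algHom strA (MvPolynomial (Fin n) A)) ≫ c) →
        IsClosedMap (Points.map snd))
    (B : Type u) [CommRing B] [Algebra A B] {P : Sp S} {fst : P ⟶ X} {snd : P ⟶ (yon S).obj (algPt strA B)}
    (sq : IsPullback fst snd f ((yon S).map (algHom strA B) ≫ c)) : IsClosedMap (Points.map snd) := by
  have sR := IsPullback.of_hasPullback f c
  have hXR := isAlgSpace_of_isPullback hX hY (IsAlgSpace.yon_obj _) sR
  have hXRq : IsQuasiCompactSp (pullback f c) :=
    hf (IsAlgSpace.yon_obj _) ⟨_, 𝟙 _, repWith_id _ _, repWith_id _ _,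
      (inferInstance : CompactSpace ↥(Spec (CommRingCat.of A)))⟩ c _ _ sR
  obtain ⟨W, q, hW, hq, hqs⟩ := (isQuasiCompactSp_iff_affine hXR).1 hXRq
  obtain ⟨Cr, _, _, q₀, hq₀, hq₀s, hq₀R⟩ := exists_alg_chart strA (pullback.snd f c) q hq hqs
  exact isClosedMap_of_std sq (isClosedMap_std strA c h q₀ hq₀ hq₀s hq₀R B)

end Affine

/-- Closedness restricts to open parts of the test space. -/
theorem isClosedMap_of_injective_open {N N' : Over S} {P P' : Sp S} {l : P' ⟶ P} {snd' : P' ⟶ (yon S).obj N'}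
    {snd : P ⟶ (yon S).obj N} {m : N' ⟶ N} [IsOpenImmersion m.left] (sq : IsPullback l snd' snd ((yon S).map m))
    (h : IsClosedMap (Points.map snd)) : IsClosedMap (Points.map snd') := by
  have hl : RepWith @IsOpenImmersion l :=
    repWith_of_isPullback sq.flip ((repWith_yon_map_iff _ m).2 ‹_›)
  have ho : IsOpenMap (Points.map l) :=
    isOpenMap_map_of_repWith (fun _ _ k (_ : IsOpenImmersion k) => k.isOpenEmbedding.isOpenMap) hl
  have hi : Function.Injective (Points.map l) :=
    injective_map_of_repWith (fun _ _ k (_ : IsOpenImmersion k) => k.isOpenEmbedding.injective) hl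
  intro C hC
  have hC' : Points.map l ⁻¹' closure (Points.map l '' C) = C := by
    refine subset_antisymm ?_ fun x hx => Set.mem_preimage.2 (subset_closure (Set.mem_image_of_mem _ hx))
    refine (ho.preimage_closure_subset_closure_preimage).trans ?_
    rw [Set.preimage_image_eq _ hi, hC.closure_eq]
  have e : Points.ofPt ((yon S).map m) ⁻¹' (Points.map snd '' closure (Points.map l '' C)) =
      Points.ofScheme N' ⁻¹' (Points.map snd' '' C) := by
    rw [AlgSpLoc.ofPt_preimage_image sq, hC']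
  rw [← (Points.schemeHomeo N').isClosed_preimage]
  change IsClosed (Points.ofScheme N' ⁻¹' (Points.map snd' '' C))
  rw [← e]
  exact (h _ isClosed_closure).preimage (Points.continuous_ofPt _)

/-- Universal closedness is tested on affine spaces over a chart. -/
theorem isUnivClosedMor_of_affineSpace (hX : IsAlgSpace X) (hY : IsAlgSpace Y) (hf : IsQuasiCompactMor f)
    (V : Over S) (p : (yon S).obj V ⟶ Y) (hp : RepWith @Etale p) (hps : RepWith @Surjective p)
    (h : ∀ (n : ℕ) (P : Sp S) (fst : P ⟶ X)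
      (snd : P ⟶ (yon S).obj (Over.mk ((𝔸(ULift.{u} (Fin n); V.left) ↘ V.left) ≫ V.hom))),
      IsPullback fst snd f ((yon S).map (Over.homMk (𝔸(ULift.{u} (Fin n); V.left) ↘ V.left)) ≫ p) →
        IsClosedMap (Points.map snd)) : IsUnivClosedMor f := by
  refine isClosedMap_of_affine fun Z hZ g P fst snd sq C hC => ?_
  rw [← (Points.schemeHomeo Z).isClosed_preimage, ← isOpen_compl_iff, isOpen_iff_forall_mem_open]
  intro t ht
  change Points.ofScheme Z t ∉ Points.map snd '' C at ht
  obtain ⟨E, e₁, e₂, sE⟩ := exists_sq hp.1 g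
  haveI : Etale e₂.left := hp.2 _ _ _ sE
  haveI : Surjective e₂.left := hps.2 _ _ _ sE
  obtain ⟨e, he⟩ := e₂.left.surjective t
  obtain ⟨_, ⟨O, hO, rfl⟩, heO, -⟩ :=
    V.left.isBasis_affineOpens.exists_subset_of_mem_open (Set.mem_univ ((pre e₁).left e)) isOpen_univ
  obtain ⟨E₀, k, e₀, hE₀, hk, rfl, hk'⟩ := exists_affine_chart e ((pre e₁).left ⁻¹ᵁ O) heO
  haveI := hE₀
  haveI := hk
  let A := Γ(V.left, O)
  let bA : Spec A ⟶ V.left := hO.fromSpec
  let strA : Spec (CommRingCat.of A) ⟶ S := bA ≫ V.hom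
  let bO : Over.mk strA ⟶ V := Over.homMk bA rfl
  have hrange : Set.range (k ≫ pre e₁).left ⊆ Set.range bA := by
    rw [hO.range_fromSpec]
    rintro _ ⟨x, rfl⟩
    exact hk' ⟨x, rfl⟩
  let toA : E₀.left ⟶ Spec A := IsOpenImmersion.lift bA (k ≫ pre e₁).left hrange
  have htoA : toA ≫ bA = (k ≫ pre e₁).left := IsOpenImmersion.lift_fac _ _ _
  let B := Γ(E₀.left, ⊤)
  let ρ : A →+* B := (Spec.preimage (E₀.left.isoSpec.inv ≫ toA)).hom
  letI : Algebra A B := ρ.toAlgebra
  let j : algPt strA B ⟶ E₀ := Over.homMk E₀.left.isoSpec.inv (by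
    change _ = Spec.map (Spec.preimage _) ≫ bA ≫ V.hom
    rw [Spec.map_preimage, Category.assoc, reassoc_of% htoA]
    exact congrArg (E₀.left.isoSpec.inv ≫ ·) (Over.w (k ≫ pre e₁)).symm)
  let T := j ≫ k ≫ e₂
  have hT : (yon S).map T ≫ g = (yon S).map (algHom strA B) ≫ ((yon S).map bO ≫ p) := by
    rw [Functor.map_comp, Functor.map_comp, Category.assoc, Category.assoc, ← sE.w,
      ← map_pre e₁, ← Functor.map_comp_assoc, ← Functor.map_comp_assoc, ← Functor.map_comp_assoc]
    congr 2
    ext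
    change E₀.left.isoSpec.inv ≫ k.left ≫ (pre e₁).left = Spec.map (Spec.preimage _) ≫ bA
    rw [Spec.map_preimage, Category.assoc, htoA]
    rfl
  have sW := IsPullback.of_hasPullback snd ((yon S).map T)
  have hcl : IsClosedMap (Points.map (pullback.snd snd ((yon S).map T))) := by
    refine isClosedMap_of_mvPolynomial strA hX hY hf ((yon S).map bO ≫ p) (fun n P₁ f₁ s₁ sq₁ => ?_) B
      (fst := pullback.fst snd ((yon S).map T) ≫ fst) (hT ▸ sW.paste_horiz sq)
    let N := ULift.{u} (Fin n)
    let R := MvPolynomial (Fin n) A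
    let ee : CommRingCat.of (MvPolynomial N A) ≅ CommRingCat.of R :=
      (MvPolynomial.renameEquiv A Equiv.ulift).toRingEquiv.toCommRingCatIso
    let mS : Spec (CommRingCat.of R) ⟶ 𝔸(N; V.left) :=
      Spec.map ee.hom ≫ (AffineSpace.SpecIso N A).inv ≫ AffineSpace.map N bA
    haveI : IsOpenImmersion mS := by
      haveI : IsOpenImmersion (AffineSpace.map N bA) :=
        MorphismProperty.of_isPullback (P := @IsOpenImmersion) (AffineSpace.isPullback_map bA).flip inferInstance
      infer_instance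
    have hm : mS ≫ 𝔸(N; V.left) ↘ V.left = Spec.map (CommRingCat.ofHom (algebraMap A R)) ≫ bA := by
      simp only [mS, Category.assoc, AffineSpace.map_over, AffineSpace.SpecIso_inv_over_assoc]
      rw [← Spec.map_comp_assoc]
      congr 2
      refine CommRingCat.hom_ext (RingHom.ext fun r => ?_)
      exact MvPolynomial.rename_C _ r
    let mO : algPt strA R ⟶ Over.mk ((𝔸(N; V.left) ↘ V.left) ≫ V.hom) := Over.homMk mS (by
      change mS ≫ _ ≫ V.hom = Spec.map _ ≫ bA ≫ V.hom
      rw [reassoc_of% hm])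
    haveI : IsOpenImmersion mO.left := ‹IsOpenImmersion mS›
    let gN := (yon S).map (Over.homMk (𝔸(N; V.left) ↘ V.left) :
      Over.mk ((𝔸(N; V.left) ↘ V.left) ≫ V.hom) ⟶ V) ≫ p
    have hg : (yon S).map mO ≫ gN = (yon S).map (algHom strA R) ≫ (yon S).map bO ≫ p := by
      rw [← Functor.map_comp_assoc, ← Functor.map_comp_assoc]
      congr 2
      ext
      exact hm
    have sN := IsPullback.of_hasPullback f gN
    let l := sN.lift f₁ (s₁ ≫ (yon S).map mO) (by rw [Category.assoc, hg]; exact sq₁.w)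
    have sl : IsPullback l s₁ (pullback.snd f gN) ((yon S).map mO) :=
      IsPullback.of_right (by rw [sN.lift_fst, hg]; exact sq₁) (sN.lift_snd _ _ _) sN
    exact isClosedMap_of_injective_open sl (h n _ _ _ sN)
  let K := Points.ofScheme (algPt strA B) ⁻¹'
    (Points.map (pullback.snd snd ((yon S).map T)) '' (Points.map (pullback.fst snd ((yon S).map T)) ⁻¹' C))
  have hK : IsClosed K :=
    (hcl _ (hC.preimage (Points.continuous_map _))).preimage (Points.schemeHomeo _).continuous
  have hKe : Points.ofPt ((yon S).map T) ⁻¹' (Points.map snd '' C) = K := AlgSpLoc.ofPt_preimage_image sW C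
  have hopen : IsOpenMap T.left := by
    have : Etale T.left := by
      change Etale (E₀.left.isoSpec.inv ≫ k.left ≫ e₂.left)
      infer_instance
    exact isOpenMap_of_etale _ this
  refine ⟨T.left '' Kᶜ, ?_, hopen _ hK.isOpen_compl, ?_⟩
  · rintro _ ⟨x, hx, rfl⟩ hc
    refine hx ?_
    rw [← hKe, Set.mem_preimage, ofPt_pre, pre_map]
    exact hc
  · refine ⟨E₀.left.isoSpec.hom e₀, fun hc => ht ?_, ?_⟩
    · rw [← hKe, Set.mem_preimage, ofPt_pre, pre_map] at hc
      convert hc using 2
      change t = (E₀.left.isoSpec.inv ≫ k.left ≫ e₂.left) (E₀.left.isoSpec.hom e₀)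
      rw [← Scheme.Hom.comp_apply, Iso.hom_inv_id_assoc, Scheme.Hom.comp_apply]
      exact he.symm
    · change (E₀.left.isoSpec.inv ≫ k.left ≫ e₂.left) (E₀.left.isoSpec.hom e₀) = t
      rw [← Scheme.Hom.comp_apply, Iso.hom_inv_id_assoc, Scheme.Hom.comp_apply]
      exact he

end Groth.Agent.AlgSpDesc
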