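import Groth.Agent.AlgSpc.Misc2
import Groth.Agent.AlgSpc.Universal
import Groth.Agent.AlgSpc.FibreProd
import Groth.Agent.AlgSpLoc.Diag

/-!
Universally injective morphisms of algebraic spaces.
-/

set_option autoImplicit false
set_option linter.style.haveILetI false
set_option backward.isDefEq.respectTransparency false

universe u

open CategoryTheory CategoryTheory.Limits AlgebraicGeometry

namespace Groth.Agent.AlgSpDesc

open _root_.AlgSp Groth.Agent.AlgSpc

variable {S : Scheme.{u}} {X Y : Sp S} {f : X ⟶ Y}

theorem univInjective_of_fieldPts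
    (h : ∀ (K : Type u) [Field K] (str : Spec (CommRingCat.of K) ⟶ S),
      Function.Injective (fun a : (yon S).obj (Over.mk str) ⟶ X => a ≫ f)) : IsUnivInjectiveMor f := by
  intro Z Z' _ g fst snd sq x y hxy
  obtain ⟨w, rfl, rfl⟩ := exists_point_of_isPullback (IsPullback.of_hasPullback snd snd) x y hxy
  induction w using Points.ind with
  | h p =>
  have e₁ : p.toHom ≫ pullback.fst snd snd = p.toHom ≫ pullback.snd snd snd := by
    apply sq.hom_ext
    · refine h p.K p.str ?_
      simp only [Category.assoc, sq.w]
      rw [pullback.condition_assoc]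
    · simp only [Category.assoc, pullback.condition]
  rw [← Points.ofPt_toHom p (IsLocalRing.closedPoint p.K), Points.map_ofPt, Points.map_ofPt, e₁]

theorem surjective_diagonal_of_univInjective (hX : IsAlgSpace X) (hi : IsUnivInjectiveMor f) :
    IsSurjectiveMor (pullback.diagonal f) := fun z =>
  ⟨Points.map (pullback.snd f f) z, hi hX f _ _ (IsPullback.of_hasPullback f f) (by
    rw [← Points.map_comp, pullback.diagonal_snd, Points.map_id])⟩

theorem fieldPts_of_surjective_diagonal (hX : IsAlgSpace X) (hs : IsSurjectiveMor (pullback.diagonal f))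
    (K : Type u) [Field K] (str : Spec (CommRingCat.of K) ⟶ S) :
    Function.Injective (fun a : (yon S).obj (Over.mk str) ⟶ X => a ≫ f) := fun a b hab => by
  obtain ⟨V, fst, snd, sq⟩ := exists_sq (AlgSpLoc.representable_diagonal_mor hX f) (pullback.lift a b hab)
  haveI : Surjective snd.left := surjective_of_sq hs sq
  haveI : Mono ((yon S).map snd) := sq.mono_snd_of_mono
  haveI : Mono snd := (yon S).mono_of_mono_map ‹_›
  haveI : Mono snd.left := inferInstanceAs (Mono ((Over.forget S).map snd))
  obtain ⟨v, -⟩ := snd.left.surjective (IsLocalRing.closedPoint K)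
  obtain ⟨s, hsec⟩ := exists_section_of_mono (L := K) snd.left v
  let t : Over.mk str ⟶ V := Over.homMk s (by rw [← Over.w snd, ← Category.assoc, hsec]; exact Category.id_comp _)
  have ht : t ≫ snd = 𝟙 _ := by ext; exact hsec
  have h1 : ((yon S).map t ≫ fst) ≫ pullback.diagonal f = pullback.lift a b hab := by
    rw [Category.assoc, sq.w, ← Category.assoc, ← Functor.map_comp, ht, CategoryTheory.Functor.map_id,
      Category.id_comp]
  have h2 := congrArg (· ≫ pullback.fst f f) h1
  have h3 := congrArg (· ≫ pullback.snd f f) h1
  simp only [Category.assoc, pullback.diagonal_fst, pullback.diagonal_snd, Category.comp_id,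
    pullback.lift_fst, pullback.lift_snd] at h2 h3
  rw [← h2, ← h3]

end Groth.Agent.AlgSpDesc
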