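import Groth.Agent.DVRDom.Birational
import Groth.Agent.AlgSpDesc.SepValDescent
import Mathlib.RingTheory.Ideal.MinimalPrime.Localization

/-!
Algebra of dominating and composite valuation rings.
-/

set_option autoImplicit false
set_option linter.style.haveILetI false
set_option backward.isDefEq.respectTransparency false

universe u

open IsLocalRing
open scoped TensorProduct

namespace Groth.Agent.AlgSpDesc

open Groth.Agent.DVRDom (composite)

/-- A field receiving compatibly the residue fields of two local extensions. -/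
theorem exists_residue_amalgam {A₀ A₁ A₂ : Type u} [CommRing A₀] [IsLocalRing A₀]
    [CommRing A₁] [IsLocalRing A₁] [CommRing A₂] [IsLocalRing A₂]
    (φ₁ : A₀ →+* A₁) (φ₂ : A₀ →+* A₂) [IsLocalHom φ₁] [IsLocalHom φ₂] :
    ∃ (L : Type u) (_ : Field L) (r₁ : A₁ →+* L) (r₂ : A₂ →+* L), r₁.comp φ₁ = r₂.comp φ₂ ∧
      (∀ a, a ∈ maximalIdeal A₁ → r₁ a = 0) ∧ ∀ a, a ∈ maximalIdeal A₂ → r₂ a = 0 := by
  letI := (ResidueField.map φ₁).toAlgebra
  letI := (ResidueField.map φ₂).toAlgebra
  haveI : Module.Free (ResidueField A₀) (ResidueField A₁) := Module.Free.of_divisionRing _ _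
  haveI : Module.Flat (ResidueField A₀) (ResidueField A₁) := Module.Flat.of_free
  haveI : Nontrivial (ResidueField A₁ ⊗[ResidueField A₀] ResidueField A₂) :=
    Algebra.TensorProduct.nontrivial_of_algebraMap_injective_of_flat_left
      (ResidueField A₀) (ResidueField A₁) (ResidueField A₂) (RingHom.injective _)
  obtain ⟨M, hM⟩ := Ideal.exists_maximal (ResidueField A₁ ⊗[ResidueField A₀] ResidueField A₂)
  refine ⟨_ ⧸ M, Ideal.Quotient.field M,
    (Ideal.Quotient.mk M).comp ((Algebra.TensorProduct.includeLeftRingHom).comp (residue A₁)),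
    (Ideal.Quotient.mk M).comp
      ((Algebra.TensorProduct.includeRight :
        ResidueField A₂ →ₐ[ResidueField A₀] _).toRingHom.comp (residue A₂)), ?_, ?_, ?_⟩
  · exact RingHom.ext fun a => congrArg (Ideal.Quotient.mk M)
      (((Algebra.TensorProduct.includeLeft : ResidueField A₁ →ₐ[ResidueField A₀] _).commutes (residue A₀ a)).trans
        ((Algebra.TensorProduct.includeRight : ResidueField A₂ →ₐ[ResidueField A₀] _).commutes (residue A₀ a)).symm)
  · intro a ha
    rw [RingHom.comp_apply, RingHom.comp_apply, (residue_eq_zero_iff a).2 ha, map_zero, map_zero]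
  · intro a ha
    rw [RingHom.comp_apply, RingHom.comp_apply, (residue_eq_zero_iff a).2 ha, map_zero, map_zero]

/-- Two valuation rings dominating a valuation ring have a common dominating valuation ring. -/
theorem exists_common_dominating {A₀ A₁ A₂ : Type u} [CommRing A₀] [IsDomain A₀] [ValuationRing A₀]
    [CommRing A₁] [IsDomain A₁] [IsLocalRing A₁] [CommRing A₂] [IsDomain A₂] [IsLocalRing A₂]
    (φ₁ : A₀ →+* A₁) (φ₂ : A₀ →+* A₂) (h₁ : Function.Injective φ₁) (h₂ : Function.Injective φ₂)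
    [IsLocalHom φ₁] [IsLocalHom φ₂] :
    ∃ (k : Type u) (_ : Field k) (B : ValuationSubring k) (χ₁ : A₁ →+* B) (χ₂ : A₂ →+* B),
      Function.Injective χ₁ ∧ IsLocalHom χ₁ ∧ Function.Injective χ₂ ∧ IsLocalHom χ₂ ∧
        χ₁.comp φ₁ = χ₂.comp φ₂ := by
  letI := φ₁.toAlgebra
  letI := φ₂.toAlgebra
  haveI : Module.Flat A₀ A₁ := flat_of_injective_of_valuationRing h₁
  haveI : Module.Flat A₀ A₂ := flat_of_injective_of_valuationRing h₂
  obtain ⟨L, _, r₁, r₂, hr, hl₁, hl₂⟩ := exists_residue_amalgam φ₁ φ₂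
  letI : Algebra A₀ L := (r₁.comp φ₁).toAlgebra
  let ρ : A₁ ⊗[A₀] A₂ →ₐ[A₀] L := Algebra.TensorProduct.lift
    ({ r₁ with commutes' := fun _ => rfl } : A₁ →ₐ[A₀] L)
    ({ r₂ with commutes' := fun a => (RingHom.congr_fun hr a).symm } : A₂ →ₐ[A₀] L) (fun _ _ => .all _ _)
  let T := A₁ ⊗[A₀] A₂
  let i₁ : A₁ →+* T := Algebra.TensorProduct.includeLeftRingHom
  let i₂ : A₂ →+* T := (Algebra.TensorProduct.includeRight : A₂ →ₐ[A₀] T).toRingHom
  let m : Ideal T := RingHom.ker ρ.toRingHom
  haveI : m.IsPrime := RingHom.ker_isPrime _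
  have hρ₁ : ρ.toRingHom.comp i₁ = r₁ := RingHom.ext fun a => by
    refine (Algebra.TensorProduct.lift_tmul _ _ (fun _ _ => .all _ _) a 1).trans ?_
    rw [map_one, mul_one]; rfl
  have hρ₂ : ρ.toRingHom.comp i₂ = r₂ := RingHom.ext fun a => by
    refine (Algebra.TensorProduct.lift_tmul _ _ (fun _ _ => .all _ _) 1 a).trans ?_
    rw [map_one, one_mul]; rfl
  obtain ⟨p, hp, hpm⟩ := Ideal.exists_minimalPrimes_le (bot_le : ⊥ ≤ m)
  haveI : p.IsPrime := hp.1.1
  have hinj : ∀ t : T, t ∈ p → Function.Injective (fun s : T => t * s) → False := fun t ht hs =>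
    Set.disjoint_left.1 (Ideal.disjoint_nonZeroDivisors_of_mem_minimalPrimes hp) ht
      (mem_nonZeroDivisors_iff.2 ⟨fun x h => hs (h.trans (mul_zero t).symm),
        fun x h => hs (((mul_comm t x).trans h).trans (mul_zero t).symm)⟩)
  have hi₁ : ∀ a : A₁, i₁ a ∈ p → a = 0 := by
    intro a ha
    by_contra hne
    refine hinj _ ha ?_
    have hs := Module.Flat.rTensor_preserves_injective_linearMap (M := A₂)
      (LinearMap.mulLeft A₀ a) (mul_right_injective₀ hne)
    convert hs using 1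
    ext s
    induction s using TensorProduct.induction_on with
    | zero => simp
    | tmul x y => exact (Algebra.TensorProduct.tmul_mul_tmul a x 1 y).trans (by rw [one_mul]; rfl)
    | add x y hx hy => simp only [mul_add, map_add, hx, hy]
  have hi₂ : ∀ a : A₂, i₂ a ∈ p → a = 0 := by
    intro a ha
    by_contra hne
    refine hinj _ ha ?_
    have hs := Module.Flat.lTensor_preserves_injective_linearMap (M := A₁)
      (LinearMap.mulLeft A₀ a) (mul_right_injective₀ hne)
    convert hs using 1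
    ext s
    induction s using TensorProduct.induction_on with
    | zero => simp
    | tmul x y => exact (Algebra.TensorProduct.tmul_mul_tmul 1 x a y).trans (by rw [one_mul]; rfl)
    | add x y hx hy => simp only [mul_add, map_add, hx, hy]
  let f : T →+* FractionRing (T ⧸ p) := (algebraMap (T ⧸ p) _).comp (Ideal.Quotient.mk p)
  have hf : ∀ t : T, f t = 0 → t ∈ p := fun t ht =>
    Ideal.Quotient.eq_zero_iff_mem.1 (IsFractionRing.injective (T ⧸ p) _ (ht.trans (map_zero _).symm))
  have hunit : ∀ y : m.primeCompl, IsUnit (f y) := fun y => isUnit_iff_ne_zero.2 fun h => y.2 (hpm (hf _ h))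
  let fm : Localization.AtPrime m →+* FractionRing (T ⧸ p) := IsLocalization.lift hunit
  obtain ⟨B, hB, hloc⟩ := IsLocalRing.exists_factor_valuationRing fm
  let β : Localization.AtPrime m →+* B := fm.codRestrict B.toSubring hB
  haveI : IsLocalHom β := hloc
  let χ₁ : A₁ →+* B := β.comp ((algebraMap T (Localization.AtPrime m)).comp i₁)
  let χ₂ : A₂ →+* B := β.comp ((algebraMap T (Localization.AtPrime m)).comp i₂)
  have hχ : ∀ t, ((β (algebraMap T (Localization.AtPrime m) t) : B) : FractionRing (T ⧸ p)) = f t :=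
    fun t => IsLocalization.lift_eq hunit t
  refine ⟨_, inferInstance, B, χ₁, χ₂, ?_, ?_, ?_, ?_, ?_⟩
  · refine (injective_iff_map_eq_zero _).2 fun a ha => hi₁ a (hf _ ?_)
    rw [← hχ]; exact congrArg Subtype.val ha
  · refine ⟨fun a ha => ?_⟩
    have h1 : i₁ a ∉ m := (IsLocalization.AtPrime.isUnit_to_map_iff (Localization.AtPrime m) m (i₁ a)).1
      (IsUnit.of_map β _ ha)
    by_contra hu
    exact h1 ((RingHom.congr_fun hρ₁ a).trans (hl₁ a ((mem_maximalIdeal a).2 hu)))
  · refine (injective_iff_map_eq_zero _).2 fun a ha => hi₂ a (hf _ ?_)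
    rw [← hχ]; exact congrArg Subtype.val ha
  · refine ⟨fun a ha => ?_⟩
    have h1 : i₂ a ∉ m := (IsLocalization.AtPrime.isUnit_to_map_iff (Localization.AtPrime m) m (i₂ a)).1
      (IsUnit.of_map β _ ha)
    by_contra hu
    exact h1 ((RingHom.congr_fun hρ₂ a).trans (hl₂ a ((mem_maximalIdeal a).2 hu)))
  · refine RingHom.ext fun a => congrArg (fun t => β (algebraMap T (Localization.AtPrime m) t)) ?_
    exact (((Algebra.TensorProduct.includeLeft : A₁ →ₐ[A₀] T).commutes a)).trans
      ((Algebra.TensorProduct.includeRight : A₂ →ₐ[A₀] T).commutes a).symm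

/-- A valuation ring composed of `R` and a valuation ring of a field inside its residue field. -/
theorem exists_composite {F k : Type u} [Field F] [Field k] (R : ValuationSubring F)
    (j : k →+* ResidueField R) (A₀ : ValuationSubring k) :
    ∃ V : ValuationSubring F,
      (∀ x ∈ V, x ∈ R) ∧
      (∀ (r : R) (a : A₀), residue R r = j a → (r : F) ∈ V) ∧
      ∀ (r : R) (a : A₀) (h : (r : F) ∈ V), residue R r = j a → IsUnit (⟨r, h⟩ : V) → IsUnit a := by
  obtain ⟨A', hA', hloc⟩ := IsLocalRing.exists_factor_valuationRing (j.comp A₀.subtype)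
  refine ⟨composite R A', fun x hx => hx.1, fun r a h => ⟨r.2, ?_⟩, fun r a hr h hu => ?_⟩
  · change residue R r ∈ A'
    rw [h]; exact hA' a
  · obtain ⟨c, hc⟩ := hu.exists_right_inv
    have hc' : (r : F) * (c : F) = 1 := congrArg Subtype.val hc
    obtain ⟨hcR, hcA⟩ := c.2
    have h1 : residue R r * residue R ⟨c, hcR⟩ = 1 := by
      rw [← map_mul, show r * ⟨c, hcR⟩ = (1 : R) from Subtype.ext hc', map_one]
    haveI : IsLocalHom ((j.comp A₀.subtype).codRestrict A'.toSubring hA') := hloc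
    refine IsUnit.of_map ((j.comp A₀.subtype).codRestrict A'.toSubring hA') a ?_
    exact IsUnit.of_mul_eq_one ⟨_, hcA⟩ (Subtype.ext ((congrArg (· * _) h.symm).trans h1))

/-- Lifting a dominating extension of a composite valuation ring to the two factors. -/
theorem exists_residual_ext {F k : Type u} [Field F] [Field k] (R : ValuationSubring F)
    (j : k →+* ResidueField R) (A₀ : ValuationSubring k) (V : ValuationSubring F)
    (hVR : ∀ x ∈ V, x ∈ R) (hmem : ∀ (r : R) (a : A₀), residue R r = j a → (r : F) ∈ V)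
    (hloc : ∀ (r : R) (a : A₀) (h : (r : F) ∈ V), residue R r = j a → IsUnit (⟨r, h⟩ : V) → IsUnit a)
    {V' K₂ : Type u} [CommRing V'] [IsDomain V'] [ValuationRing V'] [Field K₂] [Algebra V' K₂]
    [IsFractionRing V' K₂] (φ : V →+* V') (ψ : F →+* K₂)
    (hc : (algebraMap V' K₂).comp φ = ψ.comp V.subtype) [IsLocalHom φ] :
    ∃ (W : ValuationSubring K₂) (ι : V' →+* W) (θ : R →+* W) (_ : IsLocalHom θ)
      (A₂ : ValuationSubring (ResidueField W)) (π : V' →+* A₂) (φ₂ : A₀ →+* A₂),
      W.subtype.comp ι = algebraMap V' K₂ ∧ W.subtype.comp θ = ψ.comp R.subtype ∧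
        A₂.subtype.comp π = (residue W).comp ι ∧ IsLocalHom π ∧
        A₂.subtype.comp φ₂ = ((ResidueField.map θ).comp j).comp A₀.subtype ∧ IsLocalHom φ₂ := by
  have hφinj : Function.Injective φ := fun x y h => by
    have h1 := congrArg (algebraMap V' K₂) h
    rw [← RingHom.comp_apply, ← RingHom.comp_apply, hc] at h1
    exact Subtype.ext (ψ.injective h1)
  letI := φ.toAlgebra
  haveI : Module.Flat V V' := flat_of_injective_of_valuationRing hφinj
  haveI : IsLocalHom (algebraMap V V') := ‹IsLocalHom φ›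
  haveI : Module.FaithfullyFlat V V' := Module.FaithfullyFlat.of_flat_of_isLocalHom
  let inc : V →+* R := V.subtype.codRestrict R.toSubring fun a => hVR a a.2
  let P : PrimeSpectrum V := ⟨(maximalIdeal R).comap inc, Ideal.IsPrime.comap inc⟩
  obtain ⟨q, hq⟩ := PrimeSpectrum.comap_surjective_of_faithfullyFlat (A := V) (B := V') P
  have hq' : ∀ a : V, φ a ∈ q.asIdeal ↔ inc a ∈ maximalIdeal R := fun a =>
    SetLike.ext_iff.1 (congrArg PrimeSpectrum.asIdeal hq) a
  -- elements of `V'` outside `q` become units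
  let S : ValuationSubring K₂ := ⟨(algebraMap V' K₂).range, ValuationRing.isInteger_or_isInteger V'⟩
  let e : V' ≃+* S := RingEquiv.ofBijective (algebraMap V' K₂).rangeRestrict
    ⟨fun _ _ h => IsFractionRing.injective V' K₂ (congrArg Subtype.val h),
      (algebraMap V' K₂).rangeRestrict_surjective⟩
  let qS : Ideal S := q.asIdeal.comap e.symm.toRingHom
  haveI : qS.IsPrime := Ideal.IsPrime.comap _
  let W := S.ofPrime qS
  let ι : V' →+* W := (algebraMap S W).comp e.toRingHom
  have hι : W.subtype.comp ι = algebraMap V' K₂ := RingHom.ext fun a =>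
    (IsScalarTower.algebraMap_apply S W K₂ (e a)).symm
  have hιu : ∀ a : V', IsUnit (ι a) ↔ a ∉ q.asIdeal := fun a => by
    refine (IsLocalization.AtPrime.isUnit_to_map_iff W qS (e a)).trans ?_
    change e.symm (e a) ∉ q.asIdeal ↔ _
    rw [e.symm_apply_apply]
  have hφι : ∀ a : V, ((ι (φ a) : W) : K₂) = ψ a := fun a =>
    (RingHom.congr_fun hι (φ a)).trans (RingHom.congr_fun hc a)
  have hθmem : ∀ r : R, ψ r ∈ W := fun r => by
    by_cases hr : (r : F) ∈ V
    · rw [← hφι ⟨r, hr⟩]; exact (ι (φ ⟨r, hr⟩)).2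
    · have hinv : (r : F)⁻¹ ∈ V := (V.mem_or_inv_mem r).resolve_left hr
      have hr0 : (r : F) ≠ 0 := fun h => hr (h ▸ V.zero_mem)
      have hu : IsUnit (inc ⟨_, hinv⟩) := IsUnit.of_mul_eq_one r (Subtype.ext (inv_mul_cancel₀ hr0))
      obtain ⟨c, hc'⟩ := ((hιu _).2 fun h => (mem_maximalIdeal _).1 ((hq' _).1 h) hu).exists_right_inv
      have h1 : ψ (r : F)⁻¹ * (c : K₂) = 1 := by
        rw [← hφι ⟨_, hinv⟩]; exact congrArg Subtype.val hc'
      rw [map_inv₀] at h1
      rw [show ψ r = (c : K₂) from ((inv_mul_eq_one₀ ((map_ne_zero ψ).2 hr0)).1 h1)]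
      exact c.2
  let θ : R →+* W := (ψ.comp R.subtype).codRestrict W.toSubring hθmem
  have hmR : ∀ r : R, r ∈ maximalIdeal R → (r : F) ∈ V := fun r hr => hmem r 0 (by
    rw [(residue_eq_zero_iff r).2 hr]; exact (map_zero j).symm)
  haveI hθ : IsLocalHom θ := ⟨fun r hr => by
    by_contra h
    have hm := (mem_maximalIdeal r).2 h
    refine (hιu (φ ⟨r, hmR r hm⟩)).1 ?_ ((hq' _).2 hm)
    rwa [show ι (φ ⟨r, hmR r hm⟩) = θ r from Subtype.ext (hφι _)]⟩
  let A₂ : ValuationSubring (ResidueField W) :=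
    ⟨((residue W).comp ι).range, fun x => by
      obtain ⟨w, rfl⟩ := residue_surjective x
      rcases S.mem_or_inv_mem (w : K₂) with ⟨a, ha⟩ | ⟨a, ha⟩
      · exact Or.inl ⟨a, congrArg (residue W) (Subtype.ext ((RingHom.congr_fun hι a).trans ha))⟩
      · by_cases hw : IsUnit w
        · refine Or.inr ⟨a, ?_⟩
          refine eq_inv_of_mul_eq_one_left ?_
          rw [RingHom.comp_apply, ← map_mul, show ι a * w = (1 : W) from Subtype.ext ?_, map_one]
          change ((ι a : W) : K₂) * (w : K₂) = 1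
          rw [show ((ι a : W) : K₂) = algebraMap V' K₂ a from RingHom.congr_fun hι a, ha]
          refine inv_mul_cancel₀ fun h0 => ?_
          exact hw.ne_zero (Subtype.ext h0)
        · exact Or.inl ⟨0, by rw [map_zero, (residue_eq_zero_iff w).2 hw]⟩⟩
  let π : V' →+* A₂ := ((residue W).comp ι).codRestrict A₂.toSubring fun a => ⟨a, rfl⟩
  have hπs : Function.Surjective π := by
    rintro ⟨_, a, rfl⟩
    exact ⟨a, rfl⟩
  haveI hπ : IsLocalHom π := hπs.isLocalHom π
  have hkey : ∀ a : A₀, ∃ (r : R) (hr : (r : F) ∈ V), residue R r = j a ∧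
      ResidueField.map θ (j a) = ((π (φ ⟨r, hr⟩) : A₂) : ResidueField W) := fun a => by
    obtain ⟨r, hr⟩ := residue_surjective (j a)
    refine ⟨r, hmem r a hr, hr, ?_⟩
    rw [← hr, ResidueField.map_residue]
    exact congrArg (residue W) (Subtype.ext (hφι ⟨r, hmem r a hr⟩).symm)
  let φ₂ : A₀ →+* A₂ := (((ResidueField.map θ).comp j).comp A₀.subtype).codRestrict A₂.toSubring fun a => by
    obtain ⟨r, hr, -, h⟩ := hkey a
    rw [RingHom.comp_apply, RingHom.comp_apply]
    exact h.symm ▸ (π (φ ⟨r, hr⟩)).2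
  refine ⟨W, ι, θ, hθ, A₂, π, φ₂, hι, rfl, rfl, hπ, rfl, ⟨fun a ha => ?_⟩⟩
  obtain ⟨r, hr, hra, h⟩ := hkey a
  refine hloc r a hr hra (IsUnit.of_map φ _ (IsUnit.of_map π _ ?_))
  rwa [show π (φ ⟨r, hr⟩) = φ₂ a from Subtype.ext h.symm]

end Groth.Agent.AlgSpDesc
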