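import Groth.Agent.AlgSpDesc.AffineTest
import Groth.Agent.AlgSpc.Compact
import Groth.Agent.AlgStB.DiagSep
import Groth.Agent.ValDense.Basic

/-!
Valuative criteria for algebraic spaces.
-/

set_option autoImplicit false
set_option linter.style.haveILetI false
set_option backward.isDefEq.respectTransparency false

universe u

open CategoryTheory CategoryTheory.Limits AlgebraicGeometry IsLocalRing

namespace Groth.Agent.AlgSpDesc

open _root_.AlgSp Groth.Agent.AlgSpc

variable {S : Scheme.{u}} {X Y Z X' : Sp S} {f : X ⟶ Y} {g : Z ⟶ Y} {fst : X' ⟶ X} {f' : X' ⟶ Z}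

theorem existVC_of_isPullback (sq : IsPullback fst f' f g) (h : ExistVC f) : ExistVC f' := by
  intro v
  let v₀ : ValSq f := { A := v.A, K := v.K, str := v.str, top := v.top ≫ fst, bot := v.bot ≫ g,
                        comm := by rw [Category.assoc, sq.w, reassoc_of% v.comm] }
  obtain ⟨e, l, h₁, h₂⟩ := h v₀
  let jA : e.ptK' ⟶ e.ptA' := Over.homMk (Spec.map (CommRingCat.ofHom (algebraMap e.A' e.K'))) rfl
  let pA : e.ptA' ⟶ v.ptA := Over.homMk (Spec.map (CommRingCat.ofHom e.φ)) rfl
  let jψ : e.ptK' ⟶ v.ptK := Over.homMk (Spec.map (CommRingCat.ofHom e.ψ)) (by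
    change Spec.map _ ≫ Spec.map _ ≫ _ = Spec.map _ ≫ Spec.map _ ≫ _
    rw [← Spec.map_comp_assoc, ← Spec.map_comp_assoc, ← CommRingCat.ofHom_comp,
      ← CommRingCat.ofHom_comp, e.comm])
  change (yon S).map jA ≫ l = (yon S).map jψ ≫ v.top ≫ fst at h₁
  have h₂' : l ≫ f = ((yon S).map pA ≫ v.bot) ≫ g := by rw [Category.assoc]; exact h₂
  let e' : v.DomExt := { A' := e.A', K' := e.K', φ := e.φ, ψ := e.ψ, comm := e.comm, isLocalHom := e.isLocalHom }
  refine ⟨e', sq.lift l ((yon S).map pA ≫ v.bot) h₂', ?_, sq.lift_snd _ _ _⟩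
  change (yon S).map jA ≫ _ = (yon S).map jψ ≫ v.top
  refine sq.hom_ext ?_ ?_
  · rw [Category.assoc, sq.lift_fst, Category.assoc]; exact h₁
  · rw [Category.assoc, sq.lift_snd, Category.assoc, v.comm, ← Functor.map_comp_assoc, ← Functor.map_comp_assoc]
    congr 2
    ext
    change Spec.map _ ≫ Spec.map _ = Spec.map _ ≫ Spec.map _
    rw [← Spec.map_comp, ← Spec.map_comp, ← CommRingCat.ofHom_comp, ← CommRingCat.ofHom_comp, e.comm]

theorem uniqVC_of_isPullback (sq : IsPullback fst f' f g) (h : UniqVC f) : UniqVC f' := by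
  intro v l l' h1 h2 h1' h2'
  let v₀ : ValSq f := { A := v.A, K := v.K, str := v.str, top := v.top ≫ fst, bot := v.bot ≫ g,
                        comm := by rw [Category.assoc, sq.w, reassoc_of% v.comm] }
  refine sq.hom_ext (h v₀ (l ≫ fst) (l' ≫ fst) (by rw [reassoc_of% h1]) ?_ (by rw [reassoc_of% h1']) ?_)
    (h2.trans h2'.symm)
  · rw [Category.assoc, sq.w, reassoc_of% h2]
  · rw [Category.assoc, sq.w, reassoc_of% h2']

/-- Quasi-separated plus uniqueness gives separated. -/
theorem isSeparatedMor_of_uniqVC (hX : IsAlgSpace X) (hqs : IsQuasiSeparatedMor f) (hu : UniqVC f) :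
    IsSeparatedMor f := by
  refine ⟨hqs.1, fun T W ξ a snd sq => ?_⟩
  obtain ⟨h₁, h₂⟩ := AlgStB.lft_mono_left hX sq
  haveI := h₁
  haveI := h₂
  haveI : QuasiCompact snd.left := hqs.2 _ _ _ sq
  haveI : UniversallyClosed snd.left := by
    refine UniversallyClosed.of_valuativeCriterion snd.left ?_
    rintro ⟨R, K, i₁, i₂, ⟨w⟩⟩
    let str : Spec (CommRingCat.of R) ⟶ S := i₂ ≫ T.hom
    let A : Over S := Over.mk str
    let P : Over S := Over.mk (Spec.map (CommRingCat.ofHom (algebraMap R K)) ≫ str)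
    let j : P ⟶ A := Over.homMk (Spec.map (CommRingCat.ofHom (algebraMap R K))) rfl
    let z₂ : A ⟶ T := Over.homMk i₂ rfl
    let z₁ : P ⟶ W := Over.homMk i₁ (by rw [← Over.w snd, reassoc_of% w]; rfl)
    have hw : z₁ ≫ snd = j ≫ z₂ := by ext; exact w
    have hξ : (yon S).map j ≫ (yon S).map z₂ ≫ ξ = ((yon S).map z₁ ≫ a) ≫ pullback.diagonal f := by
      rw [Category.assoc, sq.w, ← Functor.map_comp_assoc, ← Functor.map_comp_assoc, hw]
    let v : ValSq f :=
      { A := R, K := K, str := str, top := (yon S).map z₁ ≫ a,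
        bot := (yon S).map z₂ ≫ ξ ≫ pullback.fst f f ≫ f,
        comm := by
          have := congrArg (fun q => q ≫ pullback.fst f f ≫ f) hξ
          simp only [Category.assoc, pullback.diagonal_fst_assoc] at this
          rw [Category.assoc]; exact this.symm }
    have e := hu v ((yon S).map z₂ ≫ ξ ≫ pullback.fst f f) ((yon S).map z₂ ≫ ξ ≫ pullback.snd f f)
      (by
        have := congrArg (fun q => q ≫ pullback.fst f f) hξ
        simpa using this)
      (by simp only [v, Category.assoc])
      (by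
        have := congrArg (fun q => q ≫ pullback.snd f f) hξ
        simpa using this)
      (by simp only [v, Category.assoc, pullback.condition])
    have hl : ((yon S).map z₂ ≫ ξ ≫ pullback.fst f f) ≫ pullback.diagonal f = (yon S).map z₂ ≫ ξ := by
      apply pullback.hom_ext
      · simp
      · simpa using e
    let l := pre (sq.lift _ _ hl)
    have hl' : l ≫ snd = z₂ := (yon S).map_injective (by rw [Functor.map_comp, map_pre, sq.lift_snd])
    refine ⟨⟨⟨l.left, ?_, congrArg CommaMorphism.left hl'⟩⟩⟩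
    rw [← cancel_mono snd.left, Category.assoc]
    change _ ≫ (l ≫ snd).left = _
    rw [hl']
    exact w.symm
  haveI : IsSeparated snd.left := inferInstance
  haveI : IsProper snd.left := {}
  exact (IsClosedImmersion.iff_isProper_and_mono snd.left).2 ⟨inferInstance, h₂⟩

theorem fieldPt_specializes {F : Sp S} {T : Over S} (l : (yon S).obj T ⟶ F) {t t' : ↥T.left} (h : t ⤳ t') :
    Points.ofPt l t ⤳ Points.ofPt l t' :=
  h.map (Points.continuous_ofPt l)

/-- Quasi-compact plus existence gives universally closed. -/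
theorem isUnivClosedMor_of_existVC (hX : IsAlgSpace X) (hY : IsAlgSpace Y) (hq : IsQuasiCompactMor f)
    (he : ExistVC f) : IsUnivClosedMor f := by
  refine isClosedMap_of_affine fun B hB b P p₁ p sqP => ?_
  have heP := existVC_of_isPullback sqP he
  have hP := isAlgSpace_of_isPullback hX hY (IsAlgSpace.yon_obj B) sqP
  have hPq : IsQuasiCompactSp P :=
    hq (IsAlgSpace.yon_obj B) ⟨B, 𝟙 _, repWith_id _ _, repWith_id _ _, inferInstance⟩ b p₁ p sqP
  obtain ⟨W, a, hW, ha, has⟩ := (isQuasiCompactSp_iff_affine hP).1 hPq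
  intro C hC
  let φ : W ⟶ B := pre (a ≫ p)
  have hφ : ∀ w, Points.map p (Points.ofPt a w) = Points.ofScheme B (φ.left w) := fun w => by
    rw [Points.map_ofPt, ofPt_pre]
  let Cw : TopologicalSpace.Closeds W.left := ⟨Points.ofPt a ⁻¹' C, hC.preimage (Points.continuous_ofPt a)⟩
  let I := Scheme.IdealSheafData.vanishingIdeal Cw
  have hrI : Set.range I.subschemeι = Points.ofPt a ⁻¹' C := by
    rw [Scheme.IdealSheafData.range_subschemeι, Scheme.IdealSheafData.coe_support_vanishingIdeal]; rfl
  rw [← (Points.schemeHomeo B).isClosed_preimage]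
  have himg : (Points.schemeHomeo B) ⁻¹' (Points.map p '' C) = φ.left '' (Points.ofPt a ⁻¹' C) := by
    ext t
    constructor
    · rintro ⟨x, hx, hxt⟩
      obtain ⟨w, rfl⟩ := surjective_ofPt has x
      exact ⟨w, hx, (Points.schemeEquiv B).injective ((hφ w).symm.trans hxt)⟩
    · rintro ⟨w, hw, rfl⟩
      exact ⟨_, hw, hφ w⟩
  rw [himg]
  refine isClosed_of_closure_subset fun t ht => ?_
  have hrg : Set.range (I.subschemeι ≫ φ.left) = φ.left '' (Points.ofPt a ⁻¹' C) := by
    rw [Scheme.Hom.comp_base, TopCat.coe_comp, Set.range_comp, hrI]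
  haveI : CompactSpace W.left := inferInstance
  haveI : CompactSpace I.subscheme := QuasiCompact.compactSpace_of_compactSpace I.subschemeι
  haveI := hB
  obtain ⟨c, hc⟩ := Groth.Agent.LimSch.exists_specializes_of_mem_closure_range (I.subschemeι ≫ φ.left) (hrg.symm ▸ ht)
  let w := I.subschemeι c
  have hwC : Points.ofPt a w ∈ C := hrI.le ⟨c, rfl⟩
  rw [Scheme.Hom.comp_apply] at hc
  obtain ⟨R, g, hg, hgt⟩ := ValDense.exists_centred φ.left (z := w) hc
  let str : Spec (CommRingCat.of R) ⟶ S := g ≫ B.hom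
  let P₁ : Over S := Over.mk (Spec.map (CommRingCat.ofHom (algebraMap R (W.left.residueField w))) ≫ str)
  let z : P₁ ⟶ W := Over.homMk (W.left.fromSpecResidueField w) (by
    change _ = Spec.map (CommRingCat.ofHom R.subtype) ≫ g ≫ B.hom
    rw [reassoc_of% hg, Over.w φ])
  let zB : Over.mk str ⟶ B := Over.homMk g rfl
  let v : ValSq p :=
    { A := R, K := W.left.residueField w, str := str, top := (yon S).map z ≫ a, bot := (yon S).map zB,
      comm := by
        rw [Category.assoc, ← map_pre (a ≫ p), ← Functor.map_comp, ← Functor.map_comp]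
        congr 1
        ext
        exact hg.symm }
  obtain ⟨e, l, hl₁, hl₂⟩ := heP v
  let η := (Spec.map (CommRingCat.ofHom (algebraMap e.A' e.K'))) (closedPoint e.K')
  let c' := closedPoint e.A'
  have hmem : Points.ofPt l η ∈ C := by
    have h1 := congrArg (fun q => Points.ofPt q (closedPoint e.K')) hl₁
    simp only [ofPt_comp] at h1
    change Points.ofPt l η = Points.ofPt ((yon S).map z ≫ a) _ at h1
    rw [ofPt_comp] at h1
    rw [h1]
    refine (congrArg (Points.ofPt a) ?_).symm ▸ hwC
    exact Scheme.fromSpecResidueField_apply w _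
  have hmem' : Points.ofPt l c' ∈ C :=
    (fieldPt_specializes l (IsLocalRing.specializes_closedPoint η)).mem_closed hC hmem
  have hmap : Points.map p (Points.ofPt l c') = Points.ofScheme B t := by
    rw [Points.map_ofPt, hl₂, ← Functor.map_comp, ofPt_pre, pre_map, ← hgt]
    haveI := e.isLocalHom
    exact congrArg (fun s => Points.ofScheme B (g s)) (IsLocalRing.comap_closedPoint e.φ)
  obtain ⟨w', hw'⟩ := surjective_ofPt has (Points.ofPt l c')
  refine ⟨w', show Points.ofPt a w' ∈ C by rw [hw']; exact hmem', (Points.schemeEquiv B).injective ?_⟩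
  exact (hφ w').symm.trans ((congrArg (Points.map p) hw').trans hmap)

end Groth.Agent.AlgSpDesc
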