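import Groth.Agent.AlgSpDesc.FibreProdAffine
import Groth.Agent.AlgSpc.Props2
import Groth.Agent.AlgSpc.Decent2
import Groth.Agent.AlgSpLoc.OpenSubspace
import Groth.Agent.AlgSpc.DecentSober
import Groth.Agent.AlgSpc.More
import Mathlib.Topology.Spectral.Basic

/-!
Zariski locally quasi-separated algebraic spaces.
-/

set_option autoImplicit false
set_option linter.style.haveILetI false
set_option backward.isDefEq.respectTransparency false

universe u

open CategoryTheory CategoryTheory.Limits AlgebraicGeometry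

namespace Groth.Agent.AlgSpDesc

open _root_.AlgSp Groth.Agent.AlgSpc

variable {S : Scheme.{u}}

theorem quasiCompact_snd_of_range {U T : Over S} [CompactSpace ↥U.left] {O : S.Opens} (hO : IsAffineOpen O)
    (hU : ∀ u, U.hom u ∈ O) (hT : ∀ t, T.hom t ∈ O) : QuasiCompact (pullback.snd U.hom T.hom) := by
  haveI : IsAffine (O : Scheme.{u}) := hO
  obtain ⟨u₀, hu⟩ : ∃ u₀, u₀ ≫ O.ι = U.hom :=
    ⟨IsOpenImmersion.lift O.ι U.hom (by rw [Scheme.Opens.range_ι]; exact Set.range_subset_iff.2 hU),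
      IsOpenImmersion.lift_fac _ _ _⟩
  obtain ⟨t₀, ht⟩ : ∃ t₀, t₀ ≫ O.ι = T.hom :=
    ⟨IsOpenImmersion.lift O.ι T.hom (by rw [Scheme.Opens.range_ι]; exact Set.range_subset_iff.2 hT),
      IsOpenImmersion.lift_fac _ _ _⟩
  haveI : QuasiCompact u₀ := quasiCompact_of_compactSpace u₀
  have sq : IsPullback (pullback.fst U.hom T.hom) (pullback.snd U.hom T.hom) u₀ t₀ := by
    have w : pullback.fst U.hom T.hom ≫ u₀ = pullback.snd U.hom T.hom ≫ t₀ := by
      rw [← cancel_mono O.ι, Category.assoc, Category.assoc, hu, ht, pullback.condition]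
    exact ⟨⟨w⟩, ⟨PullbackCone.IsLimit.mk w
      (fun c => pullback.lift c.fst c.snd (by rw [← hu, ← ht, ← Category.assoc, c.condition, Category.assoc]))
      (fun c => pullback.lift_fst _ _ _) (fun c => pullback.lift_snd _ _ _)
      fun c m h1 h2 => pullback.hom_ext (by simpa using h1) (by simpa using h2)⟩⟩
  exact MorphismProperty.of_isPullback (P := @QuasiCompact) sq ‹_›

/-- An affine chart with quasi-compact projection onto it makes a space quasi-separated. -/
theorem isQuasiSeparatedSp_of_qc_affine_chart {X : Sp S} (hX : IsAlgSpace X) {U : Over S} [IsAffine U.left]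
    {p : (yon S).obj U ⟶ X} (he : RepWith @Etale p) (hs : RepWith @Surjective p) (hq : RepWith @QuasiCompact p) :
    IsQuasiSeparatedSp X := by
  obtain ⟨R, t₀, s, sq⟩ := exists_sq he.1 p
  obtain ⟨t, rfl⟩ := (yon S).map_surjective t₀
  haveI : QuasiCompact t.left := hq.2 _ _ _ sq.flip
  exact isQuasiSeparatedSp_of_chart hX he hs sq

/-- An affine chart of a space embedded in a quasi-separated one, lying over an affine of the base. -/
theorem repWith_qc_of_affine_chart {W X : Sp S} {j : W ⟶ X} [Mono j] (hq : IsQuasiSeparatedSp X) {U : Over S}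
    [CompactSpace ↥U.left] {O : S.Opens} (hO : IsAffineOpen O) (hU : ∀ u, U.hom u ∈ O)
    {p : (yon S).obj U ⟶ W} (hr : Representable p) (hs : RepWith @Surjective p) : RepWith @QuasiCompact p := by
  refine repWith_mk fun T g => ?_
  obtain ⟨V, fst₀, snd, sq⟩ := exists_sq hr g
  obtain ⟨fst, rfl⟩ := (yon S).map_surjective fst₀
  refine ⟨V, _, snd, sq, ?_⟩
  haveI : Surjective snd.left := hs.2 _ _ _ sq
  have hT : ∀ t, T.hom t ∈ O := fun t => by
    obtain ⟨v, rfl⟩ := snd.left.surjective t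
    rw [← Scheme.Hom.comp_apply, Over.w, ← Over.w fst, Scheme.Hom.comp_apply]
    exact hU _
  have sq' : IsPullback ((yon S).map fst) ((yon S).map snd) (p ≫ j) (g ≫ j) := by
    refine ⟨⟨by rw [← Category.assoc, sq.w, Category.assoc]⟩, ⟨PullbackCone.IsLimit.mk _
      (fun c => sq.lift c.fst c.snd ((cancel_mono j).1 (by simpa using c.condition)))
      (fun c => sq.lift_fst _ _ _) (fun c => sq.lift_snd _ _ _)
      fun c m h1 h2 => sq.hom_ext (by rw [sq.lift_fst]; exact h1) (by rw [sq.lift_snd]; exact h2)⟩⟩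
  obtain ⟨l, -, hl, hlq⟩ := exists_diag_base_change hq sq'
  haveI := hlq
  haveI := quasiCompact_snd_of_range hO hU hT
  rw [← hl]
  infer_instance

theorem injective_map_of_mono {F G : Sp S} (f : F ⟶ G) [Mono f] : Function.Injective (Points.map f) := by
  intro x y h
  obtain ⟨w, rfl, rfl⟩ := exists_point_of_isPullback (IsPullback.of_hasPullback f f) x y h
  rw [show pullback.fst f f = pullback.snd f f from (cancel_mono f).1 pullback.condition]

/-- Refining a Zariski cover by affine charts lying over affines of the base. -/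
theorem exists_zar_affine_charts (X : Space S) {ι : Type u} {Xi : ι → Space S} {j : ∀ i, Xi i ⟶ X}
    (hj : IsZarCover (fun i => (Xi i).obj) (fun i => (j i).hom)) :
    ∃ (κ : Type u) (i : κ → ι) (Y : κ → Space S) (k : ∀ z, Y z ⟶ Xi (i z)),
      IsZarCover (fun z => (Y z).obj) (fun z => (k z ≫ j (i z)).hom) ∧
        ∀ z, RepWith @IsOpenImmersion (k z).hom ∧ ∃ (U : Over S) (p : (yon S).obj U ⟶ (Y z).obj) (O : S.Opens),
          IsAffine U.left ∧ IsAffineOpen O ∧ (∀ u, U.hom u ∈ O) ∧ RepWith @Etale p ∧ RepWith @Surjective p := by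
  have hat := fun i => (Xi i).property.atlas
  choose U₀ a₀ ha₀ ha₀s using hat
  -- affines of the atlases lying over affines of the base
  have key : ∀ (z : Σ i, ↥(U₀ i).left), ∃ (O : S.Opens) (U : Over S) (φ : U ⟶ U₀ z.1), IsAffineOpen O ∧
      IsAffine U.left ∧ (∀ u, U.hom u ∈ O) ∧ IsOpenImmersion φ.left ∧ z.2 ∈ Set.range φ.left := by
    rintro ⟨i, v⟩
    obtain ⟨O, hO, hvO, -⟩ := exists_isAffineOpen_mem_and_subset
      (show (U₀ i).hom v ∈ (⊤ : S.Opens) from trivial)
    obtain ⟨U, φ, u, hU, hφ, rfl, hle⟩ := exists_affine_chart v ((U₀ i).hom ⁻¹ᵁ O) hvO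
    refine ⟨O, U, φ, hO, hU, fun w => ?_, hφ, u, rfl⟩
    rw [← Over.w φ, Scheme.Hom.comp_apply]
    exact hle ⟨w, rfl⟩
  choose O U φ hO hU hUO hφ hmem using key
  let a := fun z : Σ i, ↥(U₀ i).left => (yon S).map (φ z) ≫ a₀ z.1
  have hae : ∀ z, RepWith @Etale (a z) := fun z => repWith_comp
    ((repWith_yon_map_iff _ _).2 (haveI := hφ z; (inferInstance : Etale (φ z).left))) (ha₀ z.1)
  have ho : ∀ z, IsOpen (Set.range (Points.ofPt (a z))) := fun z => by
    simpa using isOpenMap_ofPt (hae z) Set.univ isOpen_univ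
  choose Y k hk hkr using fun z => AlgSpLoc.exists_openSubspace (Xi z.1) (ho z)
  have hlift : ∀ z, ∃ p, p ≫ (k z).hom = a z := fun z => AlgSpLoc.exists_lift_openImm (hk z) (a z) (by
    rw [hkr z]; rintro _ ⟨y, rfl⟩
    exact ⟨Points.toScheme _ y, by rw [Points.ofPt_eq_map_ofScheme, Points.ofScheme_toScheme]⟩)
  choose p hp using hlift
  refine ⟨Σ i, ↥(U₀ i).left, fun z => z.1, Y, k, ⟨fun z => ?_, fun x => ?_⟩,
    fun z => ⟨hk z, U z, p z, O z, hU z, hO z, hUO z, ?_⟩⟩
  · exact repWith_comp (hk z) (hj.1 z.1)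
  · obtain ⟨i, y, rfl⟩ := hj.2 x
    obtain ⟨v, rfl⟩ := surjective_ofPt (ha₀s i) y
    obtain ⟨u, hu⟩ := hmem ⟨i, v⟩
    obtain ⟨w, hw⟩ := (hkr ⟨i, v⟩).ge ⟨u, rfl⟩
    refine ⟨⟨i, v⟩, w, ?_⟩
    change Points.map ((k ⟨i, v⟩).hom ≫ (j i).hom) w = _
    rw [Points.map_comp]
    refine congrArg _ (hw.trans ?_)
    change Points.ofPt ((yon S).map (φ ⟨i, v⟩) ≫ a₀ i) u = _
    rw [ofPt_comp, hu]
  · haveI : Mono (k z).hom :=
      mono_of_repWith (fun _ _ e (_ : IsOpenImmersion e) => inferInstance) (hk z)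
    have hr := (Y z).property.representable_from_yon (p z)
    have hpe : RepWith @Etale (p z) := repWith_mk fun T g => by
      obtain ⟨V, fst, snd, sq⟩ := exists_sq hr g
      refine ⟨V, fst, snd, sq, (hae z).2 (g ≫ (k z).hom) fst snd ?_⟩
      rw [← hp z]
      exact ⟨⟨by rw [← Category.assoc, sq.w, Category.assoc]⟩, ⟨PullbackCone.IsLimit.mk _
        (fun c => sq.lift c.fst c.snd ((cancel_mono (k z).hom).1 (by simpa using c.condition)))
        (fun c => sq.lift_fst _ _ _) (fun c => sq.lift_snd _ _ _)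
        fun c m h1 h2 => sq.hom_ext (by rw [sq.lift_fst]; exact h1) (by rw [sq.lift_snd]; exact h2)⟩⟩
    have hps : RepWith @Surjective (p z) := (repWith_surjective_iff hr).2 fun w => by
      obtain ⟨u, hu⟩ := (hkr z).le ⟨w, rfl⟩
      refine ⟨Points.ofScheme _ u, (injective_map_of_mono (k z).hom) ?_⟩
      rw [← Points.ofPt_eq_map_ofScheme, Points.map_ofPt, hp z, hu]
    exact ⟨hpe, hps⟩

theorem zar_qs_iff (X : Space S) :
    (∃ (ι : Type u) (Xi : ι → Space S) (j : ∀ i, Xi i ⟶ X),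
        IsZarCover (fun i => (Xi i).obj) (fun i => (j i).hom) ∧ ∀ i, IsQuasiSeparatedSp (Xi i).obj) ↔
      (∃ (ι : Type u) (Xi : ι → Space S) (j : ∀ i, Xi i ⟶ X),
        IsZarCover (fun i => (Xi i).obj) (fun i => (j i).hom) ∧
          ∀ i, ∃ (U : Over S) (p : (yon S).obj U ⟶ (Xi i).obj), IsAffine U.left ∧
            RepWith @QuasiCompact p ∧ RepWith @Etale p ∧ RepWith @Surjective p) := by
  refine ⟨?_, fun ⟨ι, Xi, j, hj, h⟩ => ⟨ι, Xi, j, hj, fun i => ?_⟩⟩
  · rintro ⟨ι, Xi, j, hj, hq⟩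
    obtain ⟨κ, i, Y, k, hY, h⟩ := exists_zar_affine_charts X hj
    refine ⟨κ, Y, fun z => k z ≫ j (i z), hY, fun z => ?_⟩
    obtain ⟨hk, U, p, O, hU, hO, hUO, hpe, hps⟩ := h z
    haveI : Mono (k z).hom := mono_of_repWith (fun _ _ e (_ : IsOpenImmersion e) => inferInstance) hk
    haveI := hU
    exact ⟨U, p, hU, repWith_qc_of_affine_chart (j := (k z).hom) (hq (i z)) hO hUO hpe.1 hps, hpe, hps⟩
  · obtain ⟨U, p, hU, hq, he, hs⟩ := h i
    haveI := hU
    exact isQuasiSeparatedSp_of_qc_affine_chart (Xi i).property he hs hq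

theorem spectralSpace_points [QuasiSeparatedSpace ↥S] {X : Sp S} (hA : IsAlgSpace X) (hqc : IsQuasiCompactSp X)
    (hqs : IsQuasiSeparatedSp X) : SpectralSpace (Points X) := by
  have hd : IsDecent X := isDecent_of_hasCompactFibres hA (hasCompactFibres_of_isQuasiSeparatedSp hqs)
  haveI := t0Space_of_isDecent hA hd
  haveI := quasiSober_of_isDecent hA hd
  haveI := compactSpace_points hqc
  haveI : QuasiSeparatedSpace (Points X) := ⟨fun V V' hV hVc hV' hVc' => by
    obtain ⟨W, q, hW, -, hr⟩ := exists_affine_range hA hV hVc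
    obtain ⟨W', q', hW', -, hr'⟩ := exists_affine_range hA hV' hVc'
    haveI := hW; haveI := hW'
    obtain ⟨P, fst₀, snd, sq⟩ := exists_sq (hA.representable_from_yon q') q
    obtain ⟨fst, rfl⟩ := (yon S).map_surjective fst₀
    haveI := compactSpace_fibreProd hqs sq
    have h₁ : Points.ofPt q ⁻¹' Set.range (Points.map q') = Set.range snd.left := by
      rw [← Set.image_univ, preimage_ofPt_image sq, Set.preimage_univ, Set.image_univ]
    have h₂ : Set.range (Points.map q') = Set.range (Points.ofPt q') := by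
      rw [ofPt_eq_comp q', Set.range_comp, (Points.schemeHomeo W').surjective.range_eq, Set.image_univ]
    rw [← hr, ← hr', ← h₂, Set.inter_comm, ← Set.image_preimage_eq_inter_range, h₁]
    exact (isCompact_range snd.left.continuous).image (Points.continuous_ofPt q)⟩
  haveI : PrespectralSpace (Points X) := PrespectralSpace.of_isTopologicalBasis
    (B := {V | IsOpen V ∧ IsCompact V})
    (TopologicalSpace.isTopologicalBasis_of_isOpen_of_nhds (fun V hV => hV.1) fun x W hx hW => by
      obtain ⟨V, hV, hVc, hxV, hVW⟩ := exists_isCompact_isOpen_nhd hA x hW hx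
      exact ⟨V, ⟨hV, hVc⟩, hxV, hVW⟩)
    fun V hV => hV.2
  exact {}

end Groth.Agent.AlgSpDesc
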